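import Cfsg.Agent.Lib.Spor.SymEightLocal.Frame

/-!
# Basic consequences of the local hypotheses
-/

set_option autoImplicit false
set_option linter.style.haveILetI false
set_option linter.unusedSectionVars false
set_option synthInstance.maxSize 4000
set_option synthInstance.maxHeartbeats 80000

namespace CfsgLib.Spor.SymEightLocal

open Subgroup

attribute [local instance 5000] List.decidableBAll List.decidableBEx

theorem cent_zc : ∀ q : F, q * zZ = zZ * q → q * cT = cT * q → normD q = true := by decide +kernel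

theorem mixed_cases : ∀ q ∈ listD, q ≠ 1 →
    q = zZ ∨ q = zZ⁻¹ ∨ q = zW ∨ q = zW⁻¹ ∨ (q.1 ≠ 1 ∧ q.2 ≠ 1) := by decide +kernel

theorem mixed_coords : (zZ * zW).1 ≠ 1 ∧ (zZ * zW).2 ≠ 1 ∧ zZ * zW ∈ listD ∧ (∀ q ∈ listD, q ^ 3 = 1) ∧
    cT * zZ = zZ * cT := by decide +kernel

variable {G : Type*} [Group G]

/-- the local hypotheses -/
structure Hyp (X : Frame G) : Prop where
  card_CD : Nat.card (centralizer (X.D : Set G)) = 18
  index_D : ¬ 3 ∣ X.D.index
  card_ND : Nat.card (normalizer (X.D : Set G)) = 144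
  mixed : ∀ q ∈ listD, q.1 ≠ 1 → q.2 ≠ 1 → Nat.card (centralizer ({X.f q} : Set G)) = 36 ∧
    centralizer ({X.f q} : Set G) ≤ normalizer (X.D : Set G)
  automizer : ∀ [((centralizer (X.D : Set G)).subgroupOf (normalizer (X.D : Set G))).Normal],
    Nonempty (normalizer (X.D : Set G) ⧸ (centralizer (X.D : Set G)).subgroupOf (normalizer (X.D : Set G)) ≃*
      DihedralGroup 4)
  squares : ∀ a ∈ normalizer (X.D : Set G), ∀ b ∈ normalizer (X.D : Set G), ∀ q ∈ normalizer (X.D : Set G),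
    a * b * a⁻¹ * b⁻¹ ∉ X.D → q * q ∈ X.D ∨ q * q * (a * b * a⁻¹ * b⁻¹)⁻¹ ∈ X.D

namespace Frame

variable (X : Frame G)

theorem mem_D {q : F} (h : q ∈ listD) : X.f q ∈ X.D := ⟨q, h, rfl⟩

theorem z_mem : X.f zZ ∈ X.D := X.mem_D zZ_mem.1

theorem w_mem : X.f zW ∈ X.D := X.mem_D zZ_mem.2

theorem card_D : Nat.card X.D = 9 := by rw [D, card_map_of_injective X.f_inj, nat_card_eD]

theorem D_comm {a b : G} (ha : a ∈ X.D) (hb : b ∈ X.D) : a * b = b * a := by
  obtain ⟨p, hp, rfl⟩ := ha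
  obtain ⟨q, hq, rfl⟩ := hb
  rw [← map_mul, ← map_mul, (gen_facts.2.2.2.2.2.2.2.2.2.2.2.1 p hp q hq).2.1]

theorem D_le {H : Subgroup G} (hz : X.f zZ ∈ H) (hw : X.f zW ∈ H) : X.D ≤ H :=
  map_le_iff_le_comap.2 (eD_le hz hw)

theorem c_sq : X.f cT * X.f cT = 1 := by
  rw [← map_mul, ← pow_two, gen_facts.2.2.2.2.2.2.1, map_one]

theorem c_ne : X.f cT ≠ 1 := fun h => gen_facts.2.2.2.2.2.1 (X.f_inj (h.trans (map_one X.f).symm))

theorem c_comm_D {d : G} (hd : d ∈ X.D) : X.f cT * d = d * X.f cT := by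
  obtain ⟨p, hp, rfl⟩ := hd
  obtain ⟨i, j, rfl⟩ := listD_spec p hp
  obtain ⟨-, -, -, -, -, -, -, hcz, hcw, -⟩ := gen_facts
  rw [← map_mul, ← map_mul]
  exact congrArg X.f (((show Commute cT zZ from hcz).pow_right _).mul_right
    ((show Commute cT zW from hcw).pow_right _)).eq

theorem g_range : X.g.range = normalizer ((zpowers (X.f zW) : Subgroup G) : Set G) := by
  rw [Frame.g, MonoidHom.range_comp, X.f_range, map_equiv_normalizer_eq]
  show normalizer (((zpowers (X.f zZ)).map (MulAut.conj X.γ).toMonoidHom : Subgroup G) : Set G) = _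
  rw [MonoidHom.map_zpowers]
  show normalizer ((zpowers (X.γ * X.f zZ * X.γ⁻¹) : Subgroup G) : Set G) = _
  rw [X.link_z]

theorem g_vals : X.g zZ = X.f zW ∧ X.g zW = X.f zZ ∧ X.g cT = X.f cT ∧
    X.g (sB * tw X.eps) = X.f sA ∧ X.g (sA * tw X.eps) = X.f sB :=
  ⟨X.link_z, X.link_w, X.link_c, X.link_a, X.link_b⟩

theorem exists_coord {x : G} (hx : x * X.f zZ = X.f zZ * x) : ∃ q : F, X.f q = x ∧ q * zZ = zZ * q := by
  have hm : x ∈ X.f.range := X.f_range ▸ centralizer_le_normalizer _ (mem_centralizer_iff.2 fun y hy => by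
    obtain ⟨n, rfl⟩ := mem_zpowers_iff.1 hy
    exact ((show Commute (X.f zZ) x from hx.symm).zpow_left n).eq)
  obtain ⟨q, rfl⟩ := hm
  exact ⟨q, rfl, X.f_inj (by rw [map_mul, map_mul, hx])⟩

theorem exists_coord_w {x : G} (hx : x * X.f zW = X.f zW * x) : ∃ q : F, X.g q = x ∧ q * zZ = zZ * q := by
  have e : X.γ⁻¹ * x * X.γ * X.f zZ = X.f zZ * (X.γ⁻¹ * x * X.γ) := by
    have h : X.f zZ = X.γ⁻¹ * X.f zW * X.γ := by rw [← X.link_z]; group
    rw [h]
    calc X.γ⁻¹ * x * X.γ * (X.γ⁻¹ * X.f zW * X.γ) = X.γ⁻¹ * (x * X.f zW) * X.γ := by group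
      _ = X.γ⁻¹ * (X.f zW * x) * X.γ := by rw [hx]
      _ = _ := by group
  obtain ⟨q, hq, hqz⟩ := X.exists_coord e
  exact ⟨q, by rw [g_apply, hq]; group, hqz⟩

variable [Finite G]

theorem mem_ND {q : F} (h : normD q = true) : X.f q ∈ normalizer (X.D : Set G) := by
  rw [normD, Bool.and_eq_true, decide_eq_true_iff, decide_eq_true_iff] at h
  refine (mem_normalizer_iff_map_conj_eq).2 (eq_of_le_of_card_ge ?_
    (card_map_of_injective (MulAut.conj _).injective).ge)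
  rintro _ ⟨_, ⟨a, ha, rfl⟩, rfl⟩
  refine ⟨q * a * q⁻¹, ?_, by simp⟩
  obtain ⟨i, j, rfl⟩ := listD_spec a ha
  rw [SetLike.mem_coe, ← conj_mul, ← conj_pow, ← conj_pow]
  exact mul_mem (pow_mem (show _ ∈ eD from h.1) _) (pow_mem (show _ ∈ eD from h.2) _)

theorem γ_mem_ND : X.γ ∈ normalizer (X.D : Set G) := by
  refine (mem_normalizer_iff_map_conj_eq).2 (eq_of_le_of_card_ge ?_
    (card_map_of_injective (MulAut.conj _).injective).ge)
  refine map_le_iff_le_comap.2 (X.D_le ?_ ?_)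
  · show X.γ * X.f zZ * X.γ⁻¹ ∈ X.D
    rw [X.link_z]; exact X.w_mem
  · show X.γ * X.f zW * X.γ⁻¹ ∈ X.D
    rw [X.link_w]; exact X.z_mem

theorem g_mem_ND {q : F} (h : normD q = true) : X.g q ∈ normalizer (X.D : Set G) :=
  mul_mem (mul_mem X.γ_mem_ND (X.mem_ND h)) (inv_mem X.γ_mem_ND)

theorem cent_D_mem {x : G} (hx : ∀ d ∈ X.D, x * d = d * x) : x ∈ X.D ∨ ∃ d ∈ X.D, x = d * X.f cT := by
  obtain ⟨q, rfl, hqz⟩ := X.exists_coord (hx _ X.z_mem)
  have hqw : q * zW = zW * q := X.f_inj (by rw [map_mul, map_mul, hx _ X.w_mem])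
  rcases cent_D q hqz hqw with h | ⟨d, hd, h⟩
  · exact Or.inl (X.mem_D h)
  · exact Or.inr ⟨_, X.mem_D hd, by rw [h, map_mul]⟩

theorem cent_D_involution {x : G} (hx : ∀ d ∈ X.D, x * d = d * x) (h2 : x * x = 1) (h1 : x ≠ 1) : x = X.f cT := by
  obtain ⟨q, rfl, hqz⟩ := X.exists_coord (hx _ X.z_mem)
  have hqw : q * zW = zW * q := X.f_inj (by rw [map_mul, map_mul, hx _ X.w_mem])
  rcases cent_D_invol q hqz hqw (X.f_inj (by rw [map_pow, map_one, pow_two, h2])) with h | h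
  · exact absurd (by rw [h, map_one]) h1
  · rw [h]

/-- The normalizer of the Sylow subgroup centralizes the central involution. -/
theorem ND_le : normalizer (X.D : Set G) ≤ centralizer ({X.f cT} : Set G) := by
  intro x hx
  rw [mem_centralizer_singleton_iff]
  refine mul_inv_eq_iff_eq_mul.1 (X.cent_D_involution (fun d hd => ?_) ?_ fun h => X.c_ne (conj_eq_one_iff.1 h))
  · have hd' : x⁻¹ * d * x ∈ X.D := by
      have h := (mem_normalizer_iff.1 (inv_mem hx) d).1 hd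
      simpa using h
    calc x * X.f cT * x⁻¹ * d = x * (X.f cT * (x⁻¹ * d * x)) * x⁻¹ := by group
      _ = x * ((x⁻¹ * d * x) * X.f cT) * x⁻¹ := by rw [X.c_comm_D hd']
      _ = _ := by group
  · rw [conj_mul, X.c_sq, mul_one, mul_inv_cancel]

theorem cent_c_z (x : G) (hc : x * X.f cT = X.f cT * x) (hz : x * X.f zZ = X.f zZ * x) :
    x ∈ normalizer (X.D : Set G) := by
  obtain ⟨q, rfl, hqz⟩ := X.exists_coord hz
  exact X.mem_ND (cent_zc q hqz (X.f_inj (by rw [map_mul, map_mul, hc])))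

theorem cent_c_w (x : G) (hc : x * X.f cT = X.f cT * x) (hw : x * X.f zW = X.f zW * x) :
    x ∈ normalizer (X.D : Set G) := by
  obtain ⟨q, rfl, hqz⟩ := X.exists_coord_w hw
  refine X.g_mem_ND (cent_zc q hqz (X.g_inj ?_))
  rw [map_mul, map_mul, X.g_vals.2.2.1, hc]

end Frame

variable [Finite G] {X : Frame G}

theorem Hyp.nine_dvd (H : Hyp X) {j x : G} (hj : IsConj (X.f cT) j) (hx3 : x ^ 3 = 1) (hxj : x * j = j * x) :
    9 ∣ Nat.card (centralizer ({j} : Set G) ⊓ centralizer ({x} : Set G) : Subgroup G) :=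
  nine_dvd_of_isConj X.D X.card_D H.index_D (fun _ ha _ hb => X.D_comm ha hb)
    (fun _ hd => (X.c_comm_D hd).symm) hj hx3 hxj

/-- The centralizer of a mixed element meets the class of `c` only in `c`. -/
theorem Hyp.eq_c (H : Hyp X) {q : F} (hq : q ∈ listD) (h1 : q.1 ≠ 1) (h2 : q.2 ≠ 1) {j : G}
    (hj : IsConj (X.f cT) j) (hjy : j * X.f q = X.f q * j) : j = X.f cT := by
  haveI : Fact (Nat.Prime 3) := ⟨Nat.prime_three⟩
  obtain ⟨hyc, hyN⟩ := H.mixed q hq h1 h2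
  set y := X.f q with hy
  have hy3 : y ^ 3 = 1 := by rw [hy, ← map_pow, mixed_coords.2.2.2.1 q hq, map_one]
  have h9 := H.nine_dvd hj hy3 hjy.symm
  set W := (centralizer ({j} : Set G) ⊓ centralizer ({y} : Set G) : Subgroup G)
  obtain ⟨P, hP⟩ := Sylow.exists_subgroup_card_pow_prime 3 (G := W) (n := 2) (by simpa using h9)
  set P' := P.map W.subtype
  have hPc : Nat.card P' = 9 := by rw [card_map_of_injective W.subtype_injective, hP]; norm_num
  have hPW : P' ≤ W := by rintro _ ⟨a, -, rfl⟩; exact a.2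
  have hPN : P' ≤ normalizer (X.D : Set G) := (hPW.trans inf_le_right).trans hyN
  have hD : P' = X.D := by
    have hD3 : IsPGroup 3 X.D := IsPGroup.of_card (n := 2) (by rw [X.card_D]; norm_num)
    have hP3 : IsPGroup 3 P' := IsPGroup.of_card (n := 2) (by rw [hPc]; norm_num)
    let SD : Sylow 3 G := hD3.toSylow H.index_D
    have h := SD.3 (hP3.to_sup_of_normal_right' hD3 hPN) le_sup_right
    exact eq_of_le_of_card_ge (le_sup_left.trans h.le : P' ≤ X.D) (by rw [hPc, X.card_D])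
  obtain ⟨g, hg⟩ := isConj_iff.1 hj
  refine X.cent_D_involution (fun d hd => (mem_centralizer_singleton_iff.1 (hPW (hD.symm ▸ hd)).1).symm)
    (by rw [← hg, conj_mul, X.c_sq, mul_one, mul_inv_cancel]) fun e => X.c_ne ?_
  rw [← hg] at e
  exact conj_eq_one_iff.1 e

end CfsgLib.Spor.SymEightLocal
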