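import Cfsg.Agent.Lib.Spor.SymEightLocal.Basic
import Cfsg.Agent.Lib.Char.NineSym.Main

/-!
# The centralizer of the central involution
-/

set_option autoImplicit false
set_option linter.style.haveILetI false
set_option linter.unusedSectionVars false
set_option synthInstance.maxSize 4000
set_option synthInstance.maxHeartbeats 80000

namespace CfsgLib.Spor.SymEightLocal

open Subgroup

attribute [local instance 5000] List.decidableBAll List.decidableBEx

theorem normD_listD : ∀ q ∈ listD, normD q = true := by decide +kernel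

variable {G : Type*} [Group G] [Finite G]

/-- The centralizer of the central involution normalizes `D` or is symmetric of degree six modulo it. -/
theorem Hyp.cent_c {X : Frame G} (H : Hyp X) :
    centralizer ({X.f cT} : Set G) ≤ normalizer (X.D : Set G) ∨
    ∃ (π : centralizer ({X.f cT} : Set G) →* Equiv.Perm (Fin 6)), Function.Surjective π ∧
      ∀ x, π x = 1 ↔ (x : G) = 1 ∨ (x : G) = X.f cT := by
  classical
  haveI : Fact (Nat.Prime 3) := ⟨Nat.prime_three⟩
  set C := centralizer ({X.f cT} : Set G) with hCdef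
  have hDN : X.D ≤ normalizer (X.D : Set G) := le_normalizer
  have hDC : X.D ≤ C := hDN.trans X.ND_le
  have hcC : X.f cT ∈ C := mem_centralizer_singleton_iff.2 rfl
  set i : C := ⟨X.f cT, hcC⟩
  have hi : i ^ 2 = 1 := Subtype.ext (by rw [SubgroupClass.coe_pow, pow_two]; exact X.c_sq)
  have hcen : ∀ x : C, x * i = i * x := fun x => Subtype.ext (mem_centralizer_singleton_iff.1 x.2)
  haveI hZ : (zpowers i).Normal := ⟨fun x hx g => by
    obtain ⟨n, rfl⟩ := mem_zpowers_iff.1 hx
    rw [((show Commute g i from hcen g).zpow_right n).eq, mul_inv_cancel_right]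
    exact zpow_mem (mem_zpowers i) n⟩
  have hmemZ : ∀ x : C, x ∈ zpowers i ↔ (x : G) = 1 ∨ (x : G) = X.f cT := by
    intro x
    constructor
    · intro hx
      obtain ⟨n, rfl⟩ := mem_zpowers_iff.1 hx
      rw [zpow_eq_zpow_emod' n hi]
      rcases (show n % ((2 : ℕ) : ℤ) = 0 ∨ n % ((2 : ℕ) : ℤ) = 1 by omega) with e | e <;> rw [e]
      · exact Or.inl (by rw [zpow_zero]; rfl)
      · exact Or.inr (by rw [zpow_one])
    · rintro (h | h)
      · rw [show x = 1 from Subtype.ext h]; exact one_mem _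
      · rw [show x = i from Subtype.ext h]; exact mem_zpowers i
  -- congruent three-elements are equal
  have hcube : ∀ d ∈ X.D, d ^ 3 = 1 := by
    rintro _ ⟨q, hq, rfl⟩
    rw [← map_pow, mixed_coords.2.2.2.1 q hq, map_one]
  have hsame : ∀ a b : C, (a : G) ^ 3 = 1 → (b : G) ^ 3 = 1 →
      (a : C ⧸ zpowers i) = (b : C ⧸ zpowers i) → a = b := by
    intro a b ha hb h
    rcases (hmemZ _).1 (QuotientGroup.eq.1 h) with e | e
    · exact Subtype.ext (inv_mul_eq_one.1 e)
    · exfalso
      rw [Subgroup.coe_mul, InvMemClass.coe_inv, inv_mul_eq_iff_eq_mul] at e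
      rw [e, (show Commute (a : G) (X.f cT) from mem_centralizer_singleton_iff.1 a.2).mul_pow, ha, one_mul,
        pow_succ, pow_two, X.c_sq, one_mul] at hb
      exact X.c_ne hb
  set π := QuotientGroup.mk' (zpowers i) with hπ
  set S := (X.D.subgroupOf C).map π with hS
  have hScard : Nat.card S = 9 := by
    let e : X.D → S := fun d => ⟨π ⟨d, hDC d.2⟩, ⟨_, mem_subgroupOf.2 d.2, rfl⟩⟩
    rw [← X.card_D]
    refine (Nat.card_congr (Equiv.ofBijective e ⟨fun a b h => ?_, ?_⟩)).symm
    · exact Subtype.ext (congrArg (fun w : C => (w : G))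
        (hsame ⟨a, hDC a.2⟩ ⟨b, hDC b.2⟩ (hcube a a.2) (hcube b b.2) (congrArg Subtype.val h)))
    · rintro ⟨_, ⟨x, hx, rfl⟩⟩
      exact ⟨⟨x, mem_subgroupOf.1 hx⟩, rfl⟩
  have hsidx : ¬ 3 ∣ S.index := by
    intro h
    refine H.index_D ?_
    have h1 : 9 * 3 ∣ Nat.card C := by
      have h2 : 9 * 3 ∣ Nat.card (C ⧸ zpowers i) := by
        rw [← S.card_mul_index, hScard]; exact Nat.mul_dvd_mul_left 9 h
      rw [card_eq_card_quotient_mul_card_subgroup (zpowers i)]
      exact dvd_mul_of_dvd_left h2 _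
    have h3 : 9 * 3 ∣ Nat.card G := h1.trans (Subgroup.card_subgroup_dvd_card C)
    rw [← X.D.card_mul_index, X.card_D] at h3
    exact Nat.dvd_of_mul_dvd_mul_left (by norm_num) h3
  let P : Sylow 3 (C ⧸ zpowers i) :=
    (IsPGroup.of_card (n := 2) (by rw [hScard]; norm_num) : IsPGroup 3 S).toSylow hsidx
  have hPS : (P : Subgroup (C ⧸ zpowers i)) = S := rfl
  -- lifting commuting elements
  have hlift : ∀ (x : C) (d : C), (d : G) ∈ X.D → Commute (π x) (π d) → (x : G) * d = d * x := by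
    intro x d hd h
    have h1 : x * d * x⁻¹ = d := by
      refine hsame _ _ ?_ (hcube _ hd) ?_
      · rw [Subgroup.coe_mul, Subgroup.coe_mul, InvMemClass.coe_inv, conj_pow, hcube _ hd, mul_one,
          mul_inv_cancel]
      · show π (x * d * x⁻¹) = π d
        rw [map_mul, map_mul, map_inv, h.eq, mul_inv_cancel_right]
    exact congrArg Subtype.val (mul_inv_eq_iff_eq_mul.1 h1)
  have hND : ∀ x : C, (x : G) ∈ normalizer (X.D : Set G) → π x ∈ normalizer (S : Set (C ⧸ zpowers i)) := by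
    intro x hx
    refine (mem_normalizer_iff_map_conj_eq).2 (eq_of_le_of_card_ge ?_
      (card_map_of_injective (MulAut.conj _).injective).ge)
    rintro _ ⟨_, ⟨d, hd, rfl⟩, rfl⟩
    refine ⟨x * d * x⁻¹, mem_subgroupOf.2 ?_, by simp⟩
    exact (mem_normalizer_iff.1 hx d).1 (mem_subgroupOf.1 hd)
  have hNS : ∀ x : C, π x ∈ normalizer (S : Set (C ⧸ zpowers i)) → (x : G) ∈ normalizer (X.D : Set G) := by
    intro x hx
    refine (mem_normalizer_iff_map_conj_eq).2 (eq_of_le_of_card_ge ?_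
      (card_map_of_injective (MulAut.conj _).injective).ge)
    rintro _ ⟨d, hd, rfl⟩
    obtain ⟨d', hd', e⟩ := (mem_normalizer_iff.1 hx (π ⟨d, hDC hd⟩)).1 ⟨_, mem_subgroupOf.2 hd, rfl⟩
    have h1 : d' = x * ⟨d, hDC hd⟩ * x⁻¹ := by
      refine hsame _ _ (hcube _ (mem_subgroupOf.1 hd')) ?_ (e.trans ?_)
      rotate_left
      · show π x * π ⟨d, hDC hd⟩ * (π x)⁻¹ = π (x * ⟨d, hDC hd⟩ * x⁻¹)
        rw [map_mul, map_mul, map_inv]
      rw [Subgroup.coe_mul, Subgroup.coe_mul, InvMemClass.coe_inv, conj_pow, hcube _ hd, mul_one,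
        mul_inv_cancel]
    have h2 := mem_subgroupOf.1 hd'
    rw [h1] at h2
    exact h2
  have hcD : ∀ x : G, x ∈ centralizer (X.D : Set G) → x ∈ C := fun x hx =>
    X.ND_le (centralizer_le_normalizer _ hx)
  have hCS : centralizer ((P : Subgroup (C ⧸ zpowers i)) : Set (C ⧸ zpowers i)) = P := by
    rw [hPS]
    refine le_antisymm ?_ fun q ⟨a, ha, e⟩ => ?_
    · intro q hq
      obtain ⟨x, rfl⟩ := QuotientGroup.mk'_surjective (zpowers i) q
      have hx : ∀ d ∈ X.D, (x : G) * d = d * x := fun d hd => hlift x ⟨d, hDC hd⟩ hd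
        (mem_centralizer_iff.1 hq _ ⟨_, mem_subgroupOf.2 hd, rfl⟩).symm
      rcases X.cent_D_mem hx with h | ⟨d, hd, h⟩
      · exact ⟨x, mem_subgroupOf.2 h, rfl⟩
      · refine ⟨⟨d, hDC hd⟩, mem_subgroupOf.2 hd, ?_⟩
        rw [show x = ⟨d, hDC hd⟩ * i from Subtype.ext h, map_mul,
          show π i = 1 from (QuotientGroup.eq_one_iff i).2 (mem_zpowers i), mul_one]
    · rw [← e, mem_centralizer_iff]
      rintro _ ⟨b, hb, rfl⟩
      rw [← map_mul, ← map_mul]
      exact congrArg π (Subtype.ext (X.D_comm (mem_subgroupOf.1 hb) (mem_subgroupOf.1 ha)))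
  have hloc : ∀ s ∈ (P : Subgroup (C ⧸ zpowers i)), s ≠ 1 →
      centralizer ({s} : Set (C ⧸ zpowers i)) ≤ normalizer ((P : Subgroup (C ⧸ zpowers i)) : Set (C ⧸ zpowers i)) := by
    rw [hPS]
    rintro _ ⟨d, hd, rfl⟩ hd1 q hq
    obtain ⟨x, rfl⟩ := QuotientGroup.mk'_surjective (zpowers i) q
    have hxd := hlift x d (mem_subgroupOf.1 hd) (mem_centralizer_singleton_iff.1 hq)
    refine hND x ?_
    have hxc : (x : G) * X.f cT = X.f cT * x := mem_centralizer_singleton_iff.1 x.2
    obtain ⟨q, hq', hqd⟩ := mem_subgroupOf.1 hd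
    have hq1 : q ≠ 1 := fun h => hd1 (by
      rw [show d = 1 from Subtype.ext (by rw [← hqd, h, map_one]; rfl), map_one])
    rw [← hqd] at hxd
    rcases mixed_cases q hq' hq1 with h | h | h | h | ⟨h1, h2⟩
    · exact X.cent_c_z _ hxc (h ▸ hxd)
    · rw [h, map_inv] at hxd
      exact X.cent_c_z _ hxc (Commute.inv_right_iff.1 hxd).eq
    · exact X.cent_c_w _ hxc (h ▸ hxd)
    · rw [h, map_inv] at hxd
      exact X.cent_c_w _ hxc (Commute.inv_right_iff.1 hxd).eq
    · exact (H.mixed q hq' h1 h2).2 (mem_centralizer_singleton_iff.2 hxd)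
  -- the automizer
  set N := normalizer (X.D : Set G)
  haveI hcn : ((centralizer (X.D : Set G)).subgroupOf N).Normal :=
    (normal_subgroupOf_iff_le_normalizer (centralizer_le_normalizer _)).2 (fun x hx => by
      rw [mem_normalizer_iff]
      have key : ∀ x ∈ N, ∀ a ∈ centralizer (X.D : Set G), x * a * x⁻¹ ∈ centralizer (X.D : Set G) := by
        intro x hx a ha
        refine mem_centralizer_iff.2 fun d hd => ?_
        have hd' : x⁻¹ * d * x ∈ X.D := by
          have h := (mem_normalizer_iff.1 (inv_mem hx) d).1 hd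
          simpa using h
        calc d * (x * a * x⁻¹) = x * ((x⁻¹ * d * x) * a) * x⁻¹ := by group
          _ = x * (a * (x⁻¹ * d * x)) * x⁻¹ := by rw [mem_centralizer_iff.1 ha _ hd']
          _ = _ := by group
      refine fun a => ⟨key x hx a, fun h => ?_⟩
      have h2 := key _ (inv_mem hx) _ h
      simpa [mul_assoc] using h2)
  obtain ⟨eNC⟩ := @Hyp.automizer G _ X H hcn
  set NP := normalizer ((P : Subgroup (C ⧸ zpowers i)) : Set (C ⧸ zpowers i))
  let ψ : N →* NP ⧸ (P : Subgroup (C ⧸ zpowers i)).subgroupOf NP :=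
    (QuotientGroup.mk' _).comp ((π.comp (inclusion X.ND_le)).codRestrict NP fun x => hND _ x.2)
  have hψs : Function.Surjective ψ := fun q => by
    obtain ⟨⟨y, hy⟩, rfl⟩ := QuotientGroup.mk'_surjective _ q
    obtain ⟨x, rfl⟩ := QuotientGroup.mk'_surjective (zpowers i) y
    exact ⟨⟨x, hNS x hy⟩, rfl⟩
  have hψk : ψ.ker = (centralizer (X.D : Set G)).subgroupOf N := by
    ext x
    rw [MonoidHom.mem_ker, mem_subgroupOf]
    show (QuotientGroup.mk' _ _ : NP ⧸ _) = 1 ↔ _
    rw [QuotientGroup.mk'_apply, QuotientGroup.eq_one_iff, mem_subgroupOf]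
    show π (inclusion X.ND_le x) ∈ S ↔ _
    constructor
    · rintro ⟨d, hd, hdx⟩
      rcases (hmemZ _).1 (QuotientGroup.eq.1 hdx) with e | e
      · rw [Subgroup.coe_mul, InvMemClass.coe_inv, inv_mul_eq_one] at e
        refine mem_centralizer_iff.2 fun b hb => ?_
        rw [show ((x : N) : G) = (d : G) from e.symm]
        exact X.D_comm hb (mem_subgroupOf.1 hd)
      · rw [Subgroup.coe_mul, InvMemClass.coe_inv, inv_mul_eq_iff_eq_mul] at e
        refine mem_centralizer_iff.2 fun b hb => ?_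
        rw [show ((x : N) : G) = (d : G) * X.f cT from e]
        calc b * ((d : G) * X.f cT) = (b * d) * X.f cT := by group
          _ = d * (b * X.f cT) := by rw [X.D_comm hb (mem_subgroupOf.1 hd)]; group
          _ = _ := by rw [← X.c_comm_D hb]; group
    · intro hx
      rcases X.cent_D_mem (x := (x : G)) (fun d hd => (mem_centralizer_iff.1 hx d hd).symm) with h | ⟨d, hd, h⟩
      · exact ⟨_, mem_subgroupOf.2 (show ((inclusion X.ND_le x : C) : G) ∈ X.D from h), rfl⟩
      · refine ⟨⟨d, hDC hd⟩, mem_subgroupOf.2 hd, ?_⟩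
        rw [show inclusion X.ND_le x = ⟨d, hDC hd⟩ * i from Subtype.ext h, map_mul,
          show π i = 1 from (QuotientGroup.eq_one_iff i).2 (mem_zpowers i), mul_one]
  let eP : NP ⧸ (P : Subgroup (C ⧸ zpowers i)).subgroupOf NP ≃* DihedralGroup 4 :=
    ((QuotientGroup.quotientMulEquivOfEq hψk.symm).trans
      (QuotientGroup.quotientKerEquivOfSurjective ψ hψs)).symm.trans eNC
  obtain ⟨⟨Co⟩, χ, hχ⟩ := CfsgLib.Char.NineSym.exists_coord P hScard hCS eP hloc
  rcases CfsgLib.Char.NineSym.normal_or_sym_six P rfl Co hχ with hn | ⟨⟨e⟩⟩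
  · left
    intro x hx
    refine hNS ⟨x, hx⟩ ?_
    haveI : S.Normal := hn
    rw [normalizer_eq_top]
    exact mem_top _
  · right
    refine ⟨e.toMonoidHom.comp π, e.surjective.comp (QuotientGroup.mk'_surjective _), fun x => ?_⟩
    rw [MonoidHom.comp_apply, MulEquiv.coe_toMonoidHom, e.map_eq_one_iff]
    exact (QuotientGroup.eq_one_iff x).trans (hmemZ x)

end CfsgLib.Spor.SymEightLocal
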