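import Cfsg.Agent.Lib.Spor.SymEightLocal.Pair
import Cfsg.Agent.Lib.Spor.AltEightLocal.Fusion
import Cfsg.Agent.Lib.Spor.AltEightLocal.Quot
import Cfsg.Agent.Lib.Char.SelfCentThree.Main

/-!
# The centralizer of the first involution in the twisted orientation
-/

set_option autoImplicit false
set_option linter.style.haveILetI false
set_option linter.unusedSectionVars false
set_option synthInstance.maxSize 4000
set_option synthInstance.maxHeartbeats 80000

namespace CfsgLib.Spor.SymEightLocal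

open Equiv Subgroup

attribute [local instance 5000] List.decidableBAll List.decidableBEx

section

variable {K : Type*} [Group K] [Finite K]

/-- Transfer of an element which is an involution modulo a central element of `Q`. -/
theorem transfer_mod (P : Sylow 2 K) {Q : Subgroup K} (hQP : Q ≤ (P : Subgroup K))
    (hQi : Q.relIndex (P : Subgroup K) = 2) {u i : K} (hcen : ∀ x : K, x * i = i * x) (hiQ : i ∈ Q)
    (hu : u * u = 1 ∨ u * u = i) (hno : ∀ g : K, g * u * g⁻¹ ∉ Q) :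
    ∃ M : Subgroup K, M.Normal ∧ M.index = 2 ∧ u ∉ M ∧ i ∈ M := by
  classical
  letI : Fintype (K ⧸ Q) := Fintype.ofFinite _
  let f : K →* ℤˣ := (Equiv.Perm.sign).comp (MulAction.toPermHom K (K ⧸ Q))
  have hi : MulAction.toPermHom K (K ⧸ Q) i = 1 := Equiv.ext fun q => by
    obtain ⟨g, rfl⟩ := QuotientGroup.mk_surjective q
    show ((i * g : K) : K ⧸ Q) = (g : K ⧸ Q)
    rw [QuotientGroup.eq, ← hcen g, mul_inv_rev, mul_assoc, inv_mul_cancel, mul_one]
    exact inv_mem hiQ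
  have hfu : f u = -1 := by
    show Equiv.Perm.sign (MulAction.toPermHom K (K ⧸ Q) u) = -1
    have hsq : (MulAction.toPermHom K (K ⧸ Q) u) ^ 2 = 1 := by
      rw [pow_two, ← map_mul]
      rcases hu with h | h <;> rw [h]
      · exact map_one _
      · exact hi
    rw [Equiv.Perm.sign_of_pow_two_eq_one hsq]
    have hfix : Fintype.card (Function.fixedPoints (MulAction.toPermHom K (K ⧸ Q) u)) = 0 := by
      rw [Fintype.card_eq_zero_iff]
      refine ⟨fun ⟨q, hq⟩ => ?_⟩
      obtain ⟨g, rfl⟩ := QuotientGroup.mk_surjective q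
      have h1 : ((u * g : K) : K ⧸ Q) = (g : K ⧸ Q) := hq
      have h2 := QuotientGroup.eq.1 h1.symm
      refine hno g⁻¹ ?_
      rwa [inv_inv, mul_assoc]
    have hcard : Fintype.card (K ⧸ Q) = 2 * (P : Subgroup K).index := by
      rw [← Nat.card_eq_fintype_card, ← Subgroup.index_eq_card,
        ← Subgroup.relIndex_mul_index hQP, hQi]
    rw [hfix, hcard, Nat.sub_zero, Nat.mul_div_cancel_left _ two_pos]
    have hodd : Odd (P : Subgroup K).index :=
      Nat.not_even_iff_odd.1 fun he => P.not_dvd_index he.two_dvd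
    exact hodd.neg_one_pow
  refine ⟨f.ker, inferInstance, ?_, fun h => ?_, ?_⟩
  · have hr : Function.Surjective f := fun z => by
      rcases Int.units_eq_one_or z with rfl | rfl
      · exact ⟨1, map_one f⟩
      · exact ⟨u, hfu⟩
    rw [Subgroup.index_ker, MonoidHom.range_eq_top.2 hr, Subgroup.card_top,
      Nat.card_eq_fintype_card, Fintype.card_units_int]
  · rw [MonoidHom.mem_ker, hfu] at h
    exact absurd h (by decide)
  · show Equiv.Perm.sign (MulAction.toPermHom K (K ⧸ Q) i) = 1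
    rw [hi, map_one]

theorem mem_of_cube {Q : Subgroup K} (h : Q.index = 2) {x : K} (hx : x * x * x = 1) : x ∈ Q := by
  have e : x⁻¹ = x * x := inv_eq_of_mul_eq_one_right (by rw [← mul_assoc, hx])
  exact (inv_mem_iff (H := Q)).1 (e ▸ mul_self_mem_of_index_two h x)

end

/-- the centralizer of the double transposition in the symmetric group -/
def Cd : List P5 := [1, swap 0 1, swap 3 4, d5, rho.2, rho.2 * d5, rho.2 * swap 0 1, rho.2 * swap 3 4]

/-- the two-subgroup of pairs centralizing the double transposition -/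
def L32 : List (P5 × P5) := (Cd.flatMap fun a => Cd.map fun b => (a, b)).filter fun q =>
  decide (Perm.sign q.1 = Perm.sign q.2)

/-- its even part -/
def LE : List (P5 × P5) := L32.filter fun q => decide (Perm.sign q.1 = 1)

/-- its part over the transposition subgroup -/
def L2 : List (P5 × P5) := L32.filter fun q => decide (q.1 ∈ [1, swap 0 1, swap 3 4, d5])

theorem L32_facts : (1 : P5 × P5) ∈ L32 ∧ (∀ p ∈ L32, ∀ q ∈ L32, p * q ∈ L32) ∧ L32.toFinset.card = 32 ∧
    (∀ q ∈ L32, Perm.sign q.1 = Perm.sign q.2 ∧ q.1 * d5 = d5 * q.1 ∧ q.2 * d5 = d5 * q.2) ∧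
    (swap 0 1, swap 0 1) ∈ L32 := by decide +kernel

theorem LE_facts : (1 : P5 × P5) ∈ LE ∧ (∀ p ∈ LE, ∀ q ∈ LE, p * q ∈ LE) ∧ LE.toFinset.card = 16 ∧
    (∀ q ∈ LE, q ∈ L32 ∧ Perm.sign q.1 = 1) ∧ (d5, 1) ∈ LE := by decide +kernel

theorem L2_facts : (1 : P5 × P5) ∈ L2 ∧ (∀ p ∈ L2, ∀ q ∈ L2, p * q ∈ L2) ∧ L2.toFinset.card = 16 ∧
    (∀ q ∈ L2, q ∈ L32 ∧ q.1 * q.1 = 1 ∧ (Perm.sign q.1 = 1 → q.1 = 1 ∨ q.1 = d5)) ∧ (d5, 1) ∈ L2 := by
  decide +kernel

theorem cent_d5 : ∀ a : P5, a * d5 = d5 * a →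
    ∃ j : Fin 2, ∃ v ∈ [1, swap 0 1, rho.2, rho.2 * swap 0 1], a = d5 ^ (j : ℕ) * v := by decide +kernel

theorem cent_a012 : ∀ a : P3, a * a012 = a012 * a → ∃ i : Fin 3, a = a012 ^ (i : ℕ) := by decide +kernel

theorem five_facts : d5 * d5 = 1 ∧ d5 ≠ 1 ∧ rho.2 * rho.2 = 1 ∧ rho.2 ≠ 1 ∧ rho.2 ≠ d5 ∧
    rho.2 * d5 = d5 * rho.2 ∧ swap (0 : Fin 5) 1 * d5 = d5 * swap 0 1 ∧ Perm.sign rho.2 = 1 ∧
    (rho.2 * swap 0 1) * (rho.2 * swap 0 1) = d5 ∧ swap (0 : Fin 5) 1 * rho.2 * (rho.2 * swap 0 1) = 1 ∧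
    zZ = (a012, 1) ∧ b234 * b234 * b234 = 1 ∧ b234 ≠ 1 := by decide +kernel

variable {G : Type*} [Group G] [Finite G] {X : Frame G}

theorem card_E2 : Nat.card E2 = 7200 := by
  have hs : Function.Surjective
      ((Perm.sign.comp (MonoidHom.fst P5 P5)) * (Perm.sign.comp (MonoidHom.snd P5 P5))) := fun z => by
    rcases Int.units_eq_one_or z with rfl | rfl
    · exact ⟨1, map_one _⟩
    · exact ⟨(swap 0 1, 1), by
        show Perm.sign (swap (0 : Fin 5) 1) * Perm.sign (1 : P5) = -1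
        rw [gen_parts.2.2.2.2.1, map_one, mul_one]⟩
  have h := E2.card_mul_index
  have hi : E2.index = 2 := by
    rw [E2, Subgroup.index_ker, MonoidHom.range_eq_top.2 hs, Subgroup.card_top, Nat.card_eq_fintype_card,
      Fintype.card_units_int]
  rw [hi, Nat.card_prod, Nat.card_perm, Nat.card_fin] at h
  norm_num [Nat.factorial] at h
  omega

theorem sq_sA (X : Frame G) : X.f sA * X.f sA = 1 := by
  rw [← map_mul, linked_facts.2.2.2.2.2.2.2.2.2.1, map_one]

variable (H : Hyp X) (he : X.eps = true)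
include H he

/-- a subgroup of pairs given by a list, in the group -/
noncomputable def Hyp.ofList (l : List (P5 × P5)) (h1 : (1 : P5 × P5) ∈ l) (hmul : ∀ p ∈ l, ∀ q ∈ l, p * q ∈ l) :
    Subgroup G :=
  ((AltEightLocal.listSubgroup l h1 hmul).subgroupOf E2).map (H.psi he)

theorem Hyp.mem_ofList {l : List (P5 × P5)} {h1 hmul} {x : G} :
    x ∈ H.ofList he l h1 hmul ↔ ∃ q : E2, (q : P5 × P5) ∈ l ∧ H.psi he q = x := Iff.rfl

theorem Hyp.card_ofList {l : List (P5 × P5)} {h1 hmul} (hl : ∀ q ∈ l, Perm.sign q.1 = Perm.sign q.2) :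
    Nat.card (H.ofList he l h1 hmul) = l.toFinset.card := by
  rw [Hyp.ofList, card_map_of_injective (H.psi_inj he),
    Nat.card_congr (subgroupOfEquivOfLe fun q hq => mem_E2.2 (hl q hq)).toEquiv, AltEightLocal.card_listSubgroup]

theorem Hyp.A_ne_B {a b : P5} (ha : Perm.sign a = 1) (hb : Perm.sign b = 1) (h : X.A a = X.B b) :
    a = 1 ∧ b = 1 := by
  have e : H.psi he ⟨(a, 1), mem_E2.2 (ha.trans (map_one _).symm)⟩ =
      H.psi he ⟨(1, b), mem_E2.2 ((map_one _).trans hb.symm)⟩ := by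
    rw [H.psi_even he ha (map_one _), H.psi_even he (map_one _) hb, map_one X.A, map_one X.B, one_mul, mul_one, h]
  have e' := congrArg Subtype.val (H.psi_inj he e)
  exact ⟨congrArg Prod.fst e', (congrArg Prod.snd e').symm⟩

theorem Hyp.sA_eq : X.f sA = X.A d5 ∧ X.f (sB * cT) = X.B d5 := by
  constructor
  · rw [← X.g_sBc he, gen_parts.2.2.2.1]; rfl
  · rw [gen_parts.2.2.2.1]; rfl

theorem Hyp.gamma_notMem : X.γ ∉ (H.psi he).range := by
  rintro ⟨q, hq⟩
  obtain ⟨g1, -, -, -, -, hW, -⟩ := gen_parts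
  have h := H.psi_conj_A he q g1
  rw [hq, X.A_z, X.link_z, show X.f zW = X.B b234 from congrArg X.f hW] at h
  exact five_facts.2.2.2.2.2.2.2.2.2.2.2.2 (H.A_ne_B he (by simp [g1]) g1 h.symm).2

/-- In the extension only the product centralizes the first involution. -/
theorem Hyp.cent_s_ext {x : G} (hx : x ∈ H.ext he) (hxs : x * X.f sA = X.f sA * x) : x ∈ (H.psi he).range := by
  rcases hx with hx | ⟨q, hq⟩
  · exact hx
  exfalso
  obtain ⟨-, -, hd, -⟩ := gen_parts
  obtain ⟨hsA, hsB⟩ := H.sA_eq he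
  have h := H.psi_conj_A he q hd
  rw [hq, ← hsA, show X.γ * x * X.f sA * (X.γ * x)⁻¹ = X.γ * (x * X.f sA * x⁻¹) * X.γ⁻¹ by group, hxs,
    mul_inv_cancel_right, ← X.g_apply, X.g_sA he, hsB] at h
  exact five_facts.2.1 (H.A_ne_B he (by simp [hd]) hd h.symm).2

/-- The commuting pair of first-class involutions is not conjugate to `c`. -/
theorem Hyp.not_conj_c_double (h : IsConj (X.f cT) (X.f sA * X.f (sB * cT))) : False := by
  obtain ⟨h1, hm, hc, hl, -⟩ := L32_facts
  obtain ⟨hsA, hsB⟩ := H.sA_eq he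
  obtain ⟨-, -, hd, -⟩ := gen_parts
  have h32 : 32 ∣ Nat.card (centralizer ({X.f sA * X.f (sB * cT)} : Set G)) := by
    rw [← hc, ← H.card_ofList he (h1 := h1) (hmul := hm) fun q hq => (hl q hq).1]
    refine card_dvd_of_le ?_
    rintro _ ⟨q, hq, rfl⟩
    rw [mem_centralizer_singleton_iff, hsA, hsB]
    refine mul_inv_eq_iff_eq_mul.1 ?_
    rw [← conj_mul, H.psi_conj_A he q hd, H.psi_conj_B he q hd, (hl q.1 hq).2.1, mul_inv_cancel_right,
      (hl q.1 hq).2.2, mul_inv_cancel_right]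
  obtain ⟨g, hg⟩ := isConj_iff.1 h
  rw [← hg, AltEightLocal.centralizer_conj_map, card_map_of_injective (MulAut.conj g).injective] at h32
  have h' := h32.trans (card_dvd_of_le (H.cent_c_le he))
  rw [H.card_ND] at h'
  norm_num at h'

/-- An element of the product conjugate to `c` is conjugate to it there. -/
theorem Hyp.conj_c_cases (q : E2) (h : IsConj (X.f cT) (H.psi he q)) :
    Perm.sign q.1.1 = -1 ∧ ∃ n ∈ (H.psi he).range, n * X.f cT * n⁻¹ = H.psi he q := by
  obtain ⟨g, hg⟩ := isConj_iff.1 h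
  have h2 : q * q = 1 := H.psi_inj he (by
    rw [map_mul, map_one, ← hg, conj_mul, X.c_sq, mul_one, mul_inv_cancel])
  have h1 : q ≠ 1 := fun e => by
    rw [e, map_one, conj_eq_one_iff] at hg
    exact X.c_ne hg
  obtain ⟨n, hn, ⟨hs, e⟩ | ⟨-, -, -, e⟩ | ⟨-, e⟩ | ⟨-, e⟩⟩ := H.psi_invol he q h2 h1
  · exact ⟨hs, n, hn, e⟩
  · exact (H.not_conj_c_double he (h.trans (isConj_iff.2 ⟨n, e⟩).symm)).elim
  · exact (H.not_conj_c_a he (h.trans (isConj_iff.2 ⟨n, e⟩).symm)).elim
  · exact (H.not_conj_c_a he ((h.trans (isConj_iff.2 ⟨n, e⟩).symm).trans (H.conj_a_b he).symm)).elim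

theorem Hyp.double_dvd : 64 ∣ Nat.card (centralizer ({X.f sA * X.f (sB * cT)} : Set G)) := by
  obtain ⟨h1, hm, hc, hl, -⟩ := L32_facts
  obtain ⟨hsA, hsB⟩ := H.sA_eq he
  obtain ⟨-, -, hd, -⟩ := gen_parts
  set W := (centralizer ({X.f sA * X.f (sB * cT)} : Set G) ⊓ H.ext he : Subgroup G)
  set W0 := (centralizer ({X.f sA * X.f (sB * cT)} : Set G) ⊓ (H.psi he).range : Subgroup G)
  have hle : W0 ≤ W := inf_le_inf_left _ (H.range_le_ext he)
  have h32 : 32 ∣ Nat.card W0 := by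
    rw [← hc, ← H.card_ofList he (h1 := h1) (hmul := hm) fun q hq => (hl q hq).1]
    refine card_dvd_of_le ?_
    rintro _ ⟨q, hq, rfl⟩
    refine ⟨mem_centralizer_singleton_iff.2 ?_, ⟨q, rfl⟩⟩
    rw [hsA, hsB]
    refine mul_inv_eq_iff_eq_mul.1 ?_
    rw [← conj_mul, H.psi_conj_A he q hd, H.psi_conj_B he q hd, (hl q.1 hq).2.1, mul_inv_cancel_right,
      (hl q.1 hq).2.2, mul_inv_cancel_right]
  have hγ : X.γ ∈ W := by
    refine ⟨mem_centralizer_singleton_iff.2 (mul_inv_eq_iff_eq_mul.1 ?_), H.gamma_mem he⟩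
    rw [← conj_mul, ← X.g_apply, ← X.g_apply, X.g_sA he, X.g_sBc he]
    rw [← map_mul, ← map_mul, pair_facts.2.2.1]
  have hi : (W0.subgroupOf W).index = 2 := by
    refine index_eq_two_iff.2 ⟨⟨X.γ, hγ⟩, fun b => ?_⟩
    by_cases hb : (b : G) ∈ (H.psi he).range
    · refine Or.inr ⟨mem_subgroupOf.2 ⟨b.2.1, hb⟩, fun h => H.gamma_notMem he ?_⟩
      have := mul_mem (inv_mem hb) (mem_subgroupOf.1 h).2
      rwa [Subgroup.coe_mul, inv_mul_cancel_left] at this
    · refine Or.inl ⟨mem_subgroupOf.2 ⟨mul_mem b.2.1 hγ.1, ?_⟩, fun h => hb (mem_subgroupOf.1 h).2⟩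
      have h := H.gamma_conj_inv he ((b.2.2 : (b : G) ∈ H.ext he).resolve_left hb)
      rwa [show X.γ⁻¹ * (X.γ * (b : G)) * X.γ = (b : G) * X.γ by group] at h
  have h := (W0.subgroupOf W).card_mul_index
  rw [hi, Nat.card_congr (subgroupOfEquivOfLe hle).toEquiv] at h
  refine (show 64 ∣ Nat.card W from ?_).trans (card_dvd_of_le inf_le_left)
  rw [← h]
  exact Nat.mul_dvd_mul h32 (dvd_refl 2)

/-- The Sylow two-subgroup of the centralizer of the first involution. -/
theorem Hyp.not_sixtyfour : ¬ 64 ∣ Nat.card (centralizer ({X.f sA} : Set G)) := by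
  haveI : Fact (Nat.Prime 2) := ⟨Nat.prime_two⟩
  intro h64
  obtain ⟨h1, hm, hc, hl, hcm⟩ := L32_facts
  obtain ⟨hsA, -⟩ := H.sA_eq he
  obtain ⟨-, -, hd, -⟩ := gen_parts
  set M := centralizer ({X.f sA} : Set G)
  set PG := H.ofList he L32 h1 hm
  have hPM : PG ≤ M := by
    rintro _ ⟨q, hq, rfl⟩
    rw [mem_centralizer_singleton_iff, hsA]
    refine mul_inv_eq_iff_eq_mul.1 ?_
    rw [H.psi_conj_A he q hd, (hl q.1 hq).2.1, mul_inv_cancel_right]
  have hPc : Nat.card PG = 32 := (H.card_ofList he fun q hq => (hl q hq).1).trans hc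
  obtain ⟨R, hR, hle⟩ := Sylow.exists_subgroup_card_pow_succ (G := M) (p := 2) (n := 5) (by simpa using h64)
    (H := PG.subgroupOf M) (by rw [Nat.card_congr (subgroupOfEquivOfLe hPM).toEquiv, hPc]; norm_num)
  have hi : ((PG.subgroupOf M).subgroupOf R).index = 2 := by
    have h := ((PG.subgroupOf M).subgroupOf R).card_mul_index
    rw [Nat.card_congr (subgroupOfEquivOfLe hle).toEquiv, Nat.card_congr (subgroupOfEquivOfLe hPM).toEquiv, hPc,
      hR] at h
    omega
  haveI hn := normal_of_index_eq_two hi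
  have hcP : X.f cT ∈ PG := ⟨⟨_, mem_E2.2 rfl⟩, hcm, by
    rw [← X.B_tau, ← H.psi_B he (swap 0 1)]
    exact congrArg _ (Subtype.ext (Prod.ext (by simp [par5]) rfl))⟩
  have hsub : R.map M.subtype ≤ (H.psi he).range := by
    rintro _ ⟨y, hy, rfl⟩
    have hyc : (y : G) * X.f cT * (y : G)⁻¹ ∈ PG :=
      hn.conj_mem (⟨⟨X.f cT, hPM hcP⟩, hle hcP⟩ : R) hcP ⟨y, hy⟩
    obtain ⟨q, -, hq⟩ := hyc
    obtain ⟨-, n, hn', hne⟩ := H.conj_c_cases he q (isConj_iff.2 ⟨_, hq.symm⟩)
    have hC : n⁻¹ * (y : G) ∈ centralizer ({X.f cT} : Set G) := by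
      rw [mem_centralizer_singleton_iff]
      calc n⁻¹ * (y : G) * X.f cT = n⁻¹ * ((y : G) * X.f cT * (y : G)⁻¹) * (y : G) := by group
        _ = n⁻¹ * (n * X.f cT * n⁻¹) * (y : G) := by rw [← hq, hne]
        _ = _ := by group
    refine H.cent_s_ext he ?_ (mem_centralizer_singleton_iff.1 y.2)
    have := mul_mem (H.range_le_ext he hn') (H.cent_c_le_ext he hC)
    rwa [mul_inv_cancel_left] at this
  have hd' := card_dvd_of_le hsub
  rw [card_map_of_injective M.subtype_injective, hR,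
    ← Nat.card_congr (MonoidHom.ofInjective (H.psi_inj he)).toEquiv] at hd'
  rw [card_E2] at hd'
  norm_num at hd'

/-- Conjugates of the first involution in the product have a trivial coordinate. -/
theorem Hyp.conj_s_cases (q : E2) (h : IsConj (X.f sA) (H.psi he q)) :
    (q.1.2 = 1 ∧ ∃ n ∈ (H.psi he).range, n * X.f sA * n⁻¹ = H.psi he q) ∨
      (q.1.1 = 1 ∧ ∃ n ∈ (H.psi he).range, n * X.f (sB * cT) * n⁻¹ = H.psi he q) := by
  obtain ⟨g, hg⟩ := isConj_iff.1 h
  have h2 : q * q = 1 := H.psi_inj he (by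
    rw [map_mul, map_one, ← hg, conj_mul, sq_sA X, mul_one, mul_inv_cancel])
  have h1 : q ≠ 1 := fun e => by
    rw [e, map_one, conj_eq_one_iff] at hg
    exact pair_facts.2.2.2.2.2.1 (X.f_inj (hg.trans (map_one X.f).symm))
  obtain ⟨n, hn, ⟨-, e⟩ | ⟨-, -, -, e⟩ | ⟨hb, e⟩ | ⟨ha, e⟩⟩ := H.psi_invol he q h2 h1
  · exact (H.not_conj_c_a he ((isConj_iff.2 ⟨n, e⟩).trans h.symm)).elim
  · exfalso
    have hh := h.trans (isConj_iff.2 ⟨n, e⟩).symm
    obtain ⟨k, hk⟩ := isConj_iff.1 hh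
    have h64 := H.double_dvd he
    rw [← hk, AltEightLocal.centralizer_conj_map, card_map_of_injective (MulAut.conj k).injective] at h64
    exact H.not_sixtyfour he h64
  · exact Or.inl ⟨hb, n, hn, e⟩
  · exact Or.inr ⟨ha, n, hn, e⟩

/-- The centralizer of the first involution lies in the product. -/
theorem Hyp.cent_s_le : centralizer ({X.f sA} : Set G) ≤ (H.psi he).range := by
  classical
  haveI : Fact (Nat.Prime 2) := ⟨Nat.prime_two⟩
  obtain ⟨h1, hm, hc, hl, -⟩ := L32_facts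
  obtain ⟨hsA, hsB⟩ := H.sA_eq he
  obtain ⟨g1, g2, hd, -, htau, hW, -⟩ := gen_parts
  obtain ⟨hdd, hd1, hr2, hr1, hrd, hrdc, htd, hrs, hxx, hxr, hZ, hb3, hb1⟩ := five_facts
  set M := centralizer ({X.f sA} : Set G) with hM
  have hAM : ∀ a : P5, a * d5 = d5 * a → X.A a ∈ M := fun a ha => by
    rw [hM, mem_centralizer_singleton_iff, hsA, ← map_mul, ← map_mul, ha]
  have hBM : ∀ b : P5, Perm.sign b = 1 → X.B b ∈ M := fun b hb => by
    rw [hM, mem_centralizer_singleton_iff, hsA]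
    exact (H.comm_AB he hb hd).eq
  have hPM : ∀ (l : List (P5 × P5)) (e1 : (1 : P5 × P5) ∈ l) (em : ∀ p ∈ l, ∀ q ∈ l, p * q ∈ l),
      (∀ q ∈ l, q.1 * d5 = d5 * q.1) → H.ofList he l e1 em ≤ M := by
    rintro l e1 em hq _ ⟨q, hql, rfl⟩
    rw [hM, mem_centralizer_singleton_iff, hsA]
    refine mul_inv_eq_iff_eq_mul.1 ?_
    rw [H.psi_conj_A he q hd, hq q.1 hql, mul_inv_cancel_right]
  set PG := H.ofList he L32 h1 hm
  have hPGM : PG ≤ M := hPM _ _ _ fun q hq => (hl q hq).2.1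
  have hPc : Nat.card (PG.subgroupOf M) = 32 := by
    rw [Nat.card_congr (subgroupOfEquivOfLe hPGM).toEquiv, H.card_ofList he fun q hq => (hl q hq).1, hc]
  let P : Sylow 2 M := (IsPGroup.of_card (n := 5) (by rw [hPc]; norm_num) : IsPGroup 2 (PG.subgroupOf M)).toSylow
    (fun h => H.not_sixtyfour he (by
      rw [← (PG.subgroupOf M).card_mul_index, hPc]
      exact Nat.mul_dvd_mul_left 32 h))
  set i : M := ⟨X.f sA, mem_centralizer_singleton_iff.2 rfl⟩ with hi
  have hcen : ∀ x : M, x * i = i * x := fun x => Subtype.ext (mem_centralizer_singleton_iff.1 x.2)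
  -- the transfers
  have htr : ∀ (l : List (P5 × P5)) (e1 : (1 : P5 × P5) ∈ l) (em : ∀ p ∈ l, ∀ q ∈ l, p * q ∈ l),
      l.toFinset.card = 16 → (∀ q ∈ l, q ∈ L32) → (d5, 1) ∈ l → ∀ (v : P5) (hv : v * d5 = d5 * v),
      (v * v = 1 ∨ v * v = d5) →
      (∀ g : M, ∀ q : E2, (q : P5 × P5) ∈ l → (g : G) * X.A v * (g : G)⁻¹ ≠ H.psi he q) →
      ∃ Q : Subgroup M, Q.Normal ∧ Q.index = 2 ∧ (⟨X.A v, hAM v hv⟩ : M) ∉ Q ∧ i ∈ Q := by
    intro l e1 em hlc hl32 hdl v hv hv2 hno
    have hle : H.ofList he l e1 em ≤ PG := by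
      rintro _ ⟨q, hq, rfl⟩
      exact ⟨q, hl32 _ hq, rfl⟩
    have hlM : H.ofList he l e1 em ≤ M := hle.trans hPGM
    refine transfer_mod P (Q := (H.ofList he l e1 em).subgroupOf M) (comap_mono hle) ?_ hcen ?_ ?_ ?_
    · refine AltEightLocal.relIndex_of_card (comap_mono hle) (m := 16) ?_ (hPc.trans (by norm_num))
      rw [Nat.card_congr (subgroupOfEquivOfLe hlM).toEquiv, H.card_ofList he fun q hq => (hl q (hl32 q hq)).1, hlc]
    · refine mem_subgroupOf.2 ⟨⟨(d5, 1), mem_E2.2 (hd.trans (map_one _).symm)⟩, hdl, ?_⟩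
      rw [H.psi_even he hd (map_one _), map_one X.B, mul_one]
      exact hsA.symm
    · rcases hv2 with h | h
      · exact Or.inl (Subtype.ext (by show X.A v * X.A v = 1; rw [← map_mul, h, map_one]))
      · exact Or.inr (Subtype.ext (by show X.A v * X.A v = X.f sA; rw [← map_mul, h, hsA]))
    · intro g hg
      obtain ⟨q, hq, e⟩ := mem_subgroupOf.1 hg
      exact hno g q hq e.symm
  obtain ⟨e1, em, ec, eq, ed⟩ := LE_facts
  obtain ⟨t1, tm, tc, tq, td⟩ := L2_facts
  obtain ⟨Q1, hQ1n, hQ1, hcQ1, hiQ1⟩ := htr LE e1 em ec (fun q hq => (eq q hq).1) ed (swap 0 1) htd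
    (Or.inl (swap_mul_self _ _)) fun g q hq hgq => by
      rw [X.A_tau] at hgq
      have h := (H.conj_c_cases he q (isConj_iff.2 ⟨_, hgq⟩)).1
      rw [(eq _ hq).2] at h
      exact absurd h (by decide)
  have hAr : H.psi he ⟨(rho.2, 1), mem_E2.2 (hrs.trans (map_one _).symm)⟩ = X.A rho.2 := by
    rw [H.psi_even he hrs (map_one _), map_one X.B, mul_one]
  have hrconj : IsConj (X.f sA) (X.A rho.2) := by
    obtain ⟨n, hn, ⟨hs, -⟩ | ⟨-, h, -⟩ | ⟨-, e⟩ | ⟨h, -⟩⟩ := H.psi_invol he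
      ⟨(rho.2, 1), mem_E2.2 (hrs.trans (map_one _).symm)⟩ (Subtype.ext (Prod.ext hr2 (one_mul _)))
      fun h => hr1 (congrArg (fun p : E2 => p.1.1) h)
    · rw [hrs] at hs; exact absurd hs (by decide)
    · exact absurd rfl h
    · exact isConj_iff.2 ⟨n, e.trans hAr⟩
    · exact absurd h hr1
  have hrdconj : IsConj (X.f sA) (X.A rho.2 * X.f sA) := by
    have hsd : Perm.sign (rho.2 * d5) = 1 := by simp [hrs, hd]
    have e2 : H.psi he ⟨(rho.2 * d5, 1), mem_E2.2 (hsd.trans (map_one _).symm)⟩ = X.A rho.2 * X.f sA := by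
      rw [H.psi_even he hsd (map_one _), map_one X.B, mul_one, map_mul X.A, hsA]
    obtain ⟨n, hn, ⟨hs, -⟩ | ⟨-, h, -⟩ | ⟨-, e⟩ | ⟨h, -⟩⟩ := H.psi_invol he
      ⟨(rho.2 * d5, 1), mem_E2.2 (hsd.trans (map_one _).symm)⟩
      (Subtype.ext (Prod.ext (by
        show rho.2 * d5 * (rho.2 * d5) = 1
        rw [mul_assoc, ← mul_assoc d5, ← hrdc, mul_assoc, hdd, mul_one, hr2]) (one_mul _)))
      fun h => hrd (by
        have e : rho.2 * d5 = 1 := congrArg (fun p : E2 => p.1.1) h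
        rw [mul_eq_one_iff_eq_inv] at e
        rw [e, inv_eq_of_mul_eq_one_right hdd])
    · rw [hsd] at hs; exact absurd hs (by decide)
    · exact absurd rfl h
    · exact isConj_iff.2 ⟨n, e.trans e2⟩
    · exact absurd (show rho.2 * d5 = 1 from h) fun e => hrd (by
        rw [mul_eq_one_iff_eq_inv] at e
        rw [e, inv_eq_of_mul_eq_one_right hdd])
  obtain ⟨Q2, hQ2n, hQ2, hrQ2, hiQ2⟩ := htr L2 t1 tm tc (fun q hq => (tq q hq).1) td rho.2 hrdc
    (Or.inl hr2) fun g q hq hgq => by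
      have hqs : IsConj (X.f sA) (H.psi he q) := hrconj.trans (isConj_iff.2 ⟨_, hgq⟩)
      have hgs : (g : G) * X.f sA = X.f sA * g := mem_centralizer_singleton_iff.1 g.2
      rcases H.conj_s_cases he q hqs with ⟨hq2, -⟩ | ⟨hq1, -⟩
      · have hsq : Perm.sign q.1.1 = 1 := (mem_E2.1 q.2).trans (by rw [hq2, map_one])
        rcases (tq _ hq).2.2 hsq with h | h
        · have e : q = 1 := Subtype.ext (Prod.ext h hq2)
          rw [e, map_one, conj_eq_one_iff] at hgq
          exact hr1 ((X.g_inj.comp fun a b h => congrArg Prod.snd h) (hgq.trans (map_one X.A).symm))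
        · have e : H.psi he q = X.f sA := by
            rw [show q = ⟨(d5, 1), mem_E2.2 (hd.trans (map_one _).symm)⟩ from Subtype.ext (Prod.ext h hq2),
              H.psi_even he hd (map_one _), map_one X.B, mul_one, hsA]
          rw [e] at hgq
          refine hrd ((X.g_inj.comp fun a b h => congrArg Prod.snd h) (show X.A rho.2 = X.A d5 from ?_))
          calc X.A rho.2 = (g : G)⁻¹ * ((g : G) * X.A rho.2 * (g : G)⁻¹) * g := by group
            _ = (g : G)⁻¹ * ((g : G) * X.f sA) := by rw [hgq, hgs, mul_assoc]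
            _ = X.A d5 := by rw [inv_mul_cancel_left, hsA]
      · -- then a double conjugate would be in the first class
        have hb : Perm.sign q.1.2 = 1 := (mem_E2.1 q.2).symm.trans (by rw [hq1, map_one])
        have hq2 : q.1.2 ≠ 1 := fun h => by
          have e : q = 1 := Subtype.ext (Prod.ext hq1 h)
          rw [e, map_one, conj_eq_one_iff] at hgq
          exact hr1 ((X.g_inj.comp fun a b h => congrArg Prod.snd h) (hgq.trans (map_one X.A).symm))
        have e : H.psi he ⟨(d5, q.1.2), mem_E2.2 (hd.trans hb.symm)⟩ = H.psi he q * X.f sA := by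
          rw [H.psi_even he hd hb, show q = ⟨(1, q.1.2), mem_E2.2 ((map_one _).trans hb.symm)⟩ from
            Subtype.ext (Prod.ext hq1 rfl), H.psi_even he (map_one _) hb, map_one X.A, one_mul, hsA]
          exact (H.comm_AB he hb hd).eq.symm
        have hc' : IsConj (X.f sA) (H.psi he ⟨(d5, q.1.2), mem_E2.2 (hd.trans hb.symm)⟩) := by
          rw [e]
          refine hrdconj.trans (isConj_iff.2 ⟨g, ?_⟩)
          rw [← conj_mul, hgq, hgs, mul_inv_cancel_right]
        rcases H.conj_s_cases he _ hc' with ⟨h, -⟩ | ⟨h, -⟩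
        · exact hq2 h
        · exact hd1 h
  obtain ⟨Q3, hQ3n, hQ3, hxQ3, hiQ3⟩ := htr L2 t1 tm tc (fun q hq => (tq q hq).1) td (rho.2 * swap 0 1)
    (by rw [mul_assoc, htd, ← mul_assoc, hrdc, mul_assoc])
    (Or.inr hxx) fun g q hq hgq => by
      have e : H.psi he (q * q) = H.psi he ⟨(d5, 1), mem_E2.2 (hd.trans (map_one _).symm)⟩ := by
        rw [map_mul, ← hgq, conj_mul, ← map_mul X.A, hxx, ← hsA, mem_centralizer_singleton_iff.1 g.2,
          mul_inv_cancel_right, H.psi_even he hd (map_one _), map_one X.B, mul_one, hsA]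
      have e' : q.1.1 * q.1.1 = d5 := congrArg (fun p : E2 => p.1.1) (H.psi_inj he e)
      rw [(tq _ hq).2.1] at e'
      exact hd1 e'.symm
  haveI := hQ1n; haveI := hQ2n; haveI := hQ3n
  set L := Q1 ⊓ Q2 ⊓ Q3 with hL
  have hiL : i ∈ L := ⟨⟨hiQ1, hiQ2⟩, hiQ3⟩
  have hcubeL : ∀ x : M, x * x * x = 1 → x ∈ L := fun x hx =>
    ⟨⟨mem_of_cube hQ1 hx, mem_of_cube hQ2 hx⟩, mem_of_cube hQ3 hx⟩
  have hBL : ∀ b (hb : Perm.sign b = 1), (⟨X.B b, hBM b hb⟩ : M) ∈ L := by
    intro b hb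
    obtain ⟨j1, j2, j3, j4, j5, j6, e⟩ := second_gen b hb
    have hY : Perm.sign (rho.2 * b234 * rho.2) = 1 := g2
    set u : M := ⟨X.B b234, hBM _ g1⟩
    set v : M := ⟨X.B (rho.2 * b234 * rho.2), hBM _ hY⟩
    have hu : u ∈ L := hcubeL _ (Subtype.ext (by
      show X.B b234 * X.B b234 * X.B b234 = 1
      rw [← map_mul, ← map_mul, hb3, map_one]))
    have hv : v ∈ L := hcubeL _ (Subtype.ext (by
      show X.B (rho.2 * b234 * rho.2) * X.B (rho.2 * b234 * rho.2) * X.B (rho.2 * b234 * rho.2) = 1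
      rw [← map_mul, ← map_mul, show rho.2 * b234 * rho.2 * (rho.2 * b234 * rho.2) * (rho.2 * b234 * rho.2) = 1 by
        decide +kernel, map_one]))
    have hm := mul_mem (mul_mem (mul_mem (mul_mem (mul_mem (pow_mem hu (j1 : ℕ)) (pow_mem hv (j2 : ℕ)))
      (pow_mem hu (j3 : ℕ))) (pow_mem hv (j4 : ℕ))) (pow_mem hu (j5 : ℕ))) (pow_mem hv (j6 : ℕ))
    rwa [show u ^ (j1 : ℕ) * v ^ (j2 : ℕ) * u ^ (j3 : ℕ) * v ^ (j4 : ℕ) * u ^ (j5 : ℕ) * v ^ (j6 : ℕ) =
      (⟨X.B b, hBM b hb⟩ : M) from Subtype.ext (by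
        show X.B b234 ^ (j1 : ℕ) * X.B (rho.2 * b234 * rho.2) ^ (j2 : ℕ) * X.B b234 ^ (j3 : ℕ) *
          X.B (rho.2 * b234 * rho.2) ^ (j4 : ℕ) * X.B b234 ^ (j5 : ℕ) *
          X.B (rho.2 * b234 * rho.2) ^ (j6 : ℕ) = X.B b
        rw [← map_pow, ← map_pow, ← map_pow, ← map_pow, ← map_pow, ← map_pow, ← map_mul, ← map_mul, ← map_mul,
          ← map_mul, ← map_mul]
        refine congrArg X.B ?_
        have e' := congrArg Prod.snd e
        simp only [hW, Prod.snd_mul, Prod.pow_snd] at e'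
        exact e'.symm)] at hm
  -- the centralizer of the three-element
  set iL : L := ⟨i, hiL⟩
  set wL : L := ⟨⟨X.B b234, hBM _ g1⟩, hBL _ g1⟩
  have hi2 : iL ^ 2 = 1 := Subtype.ext (Subtype.ext (by
    show X.f sA ^ 2 = 1
    rw [pow_two, sq_sA X]))
  have hcenL : ∀ x : L, x * iL = iL * x := fun x => Subtype.ext (hcen x)
  have hi1 : iL ≠ 1 := fun h => by
    have e : X.f sA = 1 := congrArg (fun x : L => ((x : M) : G)) h
    exact pair_facts.2.2.2.2.2.1 (X.f_inj (e.trans (map_one X.f).symm))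
  have hBinj : Function.Injective X.B := X.f_inj.comp fun a b h => congrArg Prod.snd h
  have hw3 : wL ^ 3 = 1 := Subtype.ext (Subtype.ext (by
    show X.B b234 ^ 3 = 1
    rw [← map_pow, pow_three, ← mul_assoc, hb3, map_one]))
  have hw1 : wL ≠ 1 := fun h => hb1 (hBinj
    ((congrArg (fun x : L => ((x : M) : G)) h).trans (map_one X.B).symm))
  have hcent : ∀ k : L, k * wL = wL * k → ∃ n : ℕ, k = wL ^ n ∨ k = iL * wL ^ n := by
    intro k hk
    have hk' : ((k : M) : G) * X.f zW = X.f zW * ((k : M) : G) := by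
      rw [show X.f zW = X.B b234 from congrArg X.f hW]
      exact congrArg (fun x : L => ((x : M) : G)) hk
    obtain ⟨p, hp, hpz⟩ := X.exists_coord_w hk'
    have hps : p * (sB * cT) = sB * cT * p := X.g_inj (by
      rw [map_mul X.g p, map_mul X.g _ p, hp, X.g_sBc he]
      exact mem_centralizer_singleton_iff.1 (k : M).2)
    rw [gen_parts.2.2.2.1] at hps
    rw [hZ] at hpz
    obtain ⟨n, hn⟩ := cent_a012 p.1 (congrArg Prod.fst hpz)
    obtain ⟨j, v, hv, hj⟩ := cent_d5 p.2 (congrArg Prod.snd hps)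
    have hvd : v * d5 = d5 * v := by
      have : ∀ v ∈ [1, swap 0 1, rho.2, rho.2 * swap 0 1], v * d5 = d5 * v := by decide +kernel
      exact this v hv
    set vM : M := ⟨X.A v, hAM v hvd⟩
    have e : (k : M) = (wL : M) ^ (n : ℕ) * (iL : M) ^ (j : ℕ) * vM := Subtype.ext (by
      show ((k : M) : G) = X.B b234 ^ (n : ℕ) * X.f sA ^ (j : ℕ) * X.A v
      rw [← hp, hsA, show X.B b234 = X.g zZ from (congrArg X.f hW).symm.trans X.g_vals.1.symm, ← map_pow,
        ← map_pow, mul_assoc, ← map_mul, X.A_apply, ← map_mul, hZ]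
      exact congrArg X.g (Prod.ext (by simpa using hn) (by simpa using hj)))
    have hvL : vM ∈ L := by
      rw [show vM = ((wL : M) ^ (n : ℕ) * (iL : M) ^ (j : ℕ))⁻¹ * (k : M) by rw [e, inv_mul_cancel_left]]
      exact mul_mem (inv_mem (mul_mem (pow_mem wL.2 _) (pow_mem iL.2 _))) k.2
    have hv1 : vM = 1 := by
      simp only [List.mem_cons, List.not_mem_nil, or_false] at hv
      rcases hv with rfl | rfl | rfl | rfl
      · exact Subtype.ext (map_one X.A)
      · exact absurd hvL.1.1 hcQ1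
      · exact absurd hvL.1.2 hrQ2
      · exact absurd hvL.2 hxQ3
    refine ⟨n, ?_⟩
    rw [hv1, mul_one] at e
    have hj2 : (j : ℕ) = 0 ∨ (j : ℕ) = 1 := by omega
    rcases hj2 with h | h <;> rw [h] at e
    · exact Or.inl (Subtype.ext (by rw [e, pow_zero, mul_one]; rfl))
    · exact Or.inr (Subtype.ext (by
        rw [e, pow_one]
        exact (hcen _)))
  haveI hIn : (zpowers iL).Normal := AltEightLocal.zpowers_central_normal hcenL
  obtain ⟨hX3, hXC⟩ := AltEightLocal.self_cent_quotient hi2 hi1 hcenL hw3 hw1 hcent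
  -- the quotient by the three subgroups
  haveI hLn : L.Normal := inferInstance
  have h4 : 4 ∣ Nat.card (M ⧸ L) := by
    obtain ⟨m, hm2⟩ := IsPGroup.iff_card.1 (show IsPGroup 2 (M ⧸ L) from fun x => by
      obtain ⟨y, rfl⟩ := QuotientGroup.mk_surjective x
      refine ⟨1, ?_⟩
      rw [pow_one, pow_two, ← QuotientGroup.mk_mul, QuotientGroup.eq_one_iff]
      exact ⟨⟨mul_self_mem_of_index_two hQ1 y, mul_self_mem_of_index_two hQ2 y⟩,
        mul_self_mem_of_index_two hQ3 y⟩)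
    set cM : M := ⟨X.A (swap 0 1), hAM _ htd⟩
    set rM : M := ⟨X.A rho.2, hAM _ hrdc⟩
    have h3 : 3 ≤ Nat.card (M ⧸ L) := by
      refine le_of_eq_of_le (Nat.card_fin 3).symm (Nat.card_le_card_of_injective
        (![((1 : M) : M ⧸ L), (cM : M ⧸ L), (rM : M ⧸ L)]) ?_)
      have n1 : ((1 : M) : M ⧸ L) ≠ (cM : M ⧸ L) := fun h => hcQ1 (by
        have := QuotientGroup.eq.1 h; rw [inv_one, one_mul] at this; exact this.1.1)
      have n2 : ((1 : M) : M ⧸ L) ≠ (rM : M ⧸ L) := fun h => hrQ2 (by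
        have := QuotientGroup.eq.1 h; rw [inv_one, one_mul] at this; exact this.1.2)
      have n3 : (cM : M ⧸ L) ≠ (rM : M ⧸ L) := fun h => hxQ3 (by
        have h' := QuotientGroup.eq.1 h
        rw [← inv_mem_iff]
        refine (show cM⁻¹ * rM = (⟨X.A (rho.2 * swap 0 1), hAM _ (by rw [mul_assoc, htd, ← mul_assoc, hrdc, mul_assoc])⟩ : M)⁻¹ from ?_) ▸ h'.2
        refine eq_inv_of_mul_eq_one_left (Subtype.ext ?_)
        show (X.A (swap 0 1))⁻¹ * X.A rho.2 * X.A (rho.2 * swap 0 1) = 1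
        rw [← map_inv, ← map_mul, ← map_mul, swap_inv, hxr, map_one])
      intro a b hab
      fin_cases a <;> fin_cases b <;> simp_all
    rw [hm2] at h3 ⊢
    rcases m with _ | _ | m
    · norm_num at h3
    · norm_num at h3
    · exact ⟨2 ^ m, by rw [pow_add, pow_add]; ring⟩
  have hbound : ¬ 8 ∣ Nat.card (L ⧸ zpowers iL) := by
    intro h8
    refine H.not_sixtyfour he ?_
    show 64 ∣ Nat.card M
    rw [card_eq_card_quotient_mul_card_subgroup L, card_eq_card_quotient_mul_card_subgroup (zpowers iL),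
      Nat.card_zpowers, orderOf_eq_prime hi2 hi1]
    have := Nat.mul_dvd_mul h4 (Nat.mul_dvd_mul h8 (dvd_refl 2))
    simpa [mul_assoc] using this
  -- the second factor in the quotient
  let φ : alternatingGroup (Fin 5) →* L ⧸ zpowers iL :=
    (QuotientGroup.mk' (zpowers iL)).comp
      (((X.B.comp (alternatingGroup (Fin 5)).subtype).codRestrict M fun a => hBM _
        (Equiv.Perm.mem_alternatingGroup.1 a.2)).codRestrict L fun a => hBL _
          (Equiv.Perm.mem_alternatingGroup.1 a.2))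
  have hφ : Function.Injective φ := by
    refine (injective_iff_map_eq_one _).2 fun a ha => ?_
    rcases AltEightLocal.mem_zpowers_invol hi2 ((QuotientGroup.eq_one_iff _).1 ha) with h | h
    · exact Subtype.ext (hBinj ((congrArg (fun x : L => ((x : M) : G)) h).trans (map_one X.B).symm))
    · have e : X.B (a : P5) = X.f sA := congrArg (fun x : L => ((x : M) : G)) h
      rw [hsA] at e
      exact absurd (H.A_ne_B he hd (Equiv.Perm.mem_alternatingGroup.1 a.2) e.symm).1 hd1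
  have h60 : Nat.card (alternatingGroup (Fin 5)) = 60 := by
    rw [nat_card_alternatingGroup, Nat.card_fin]; rfl
  have hall : Function.Surjective φ := by
    rcases CfsgLib.Char.SelfCentThree.classify _ hX3 hXC with
      ⟨N, hN, -, hNc, hq⟩ | ⟨N, hN, -, hN2, ⟨eA⟩⟩ | ⟨⟨eP⟩⟩
    · exfalso
      haveI := hN
      haveI := alternatingGroup.isSimpleGroup_five
      have hq6 : Nat.card ((L ⧸ zpowers iL) ⧸ N) ≤ 6 := by
        rcases hq with h | ⟨⟨e⟩⟩
        · rw [h]; norm_num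
        · rw [Nat.card_congr e.toEquiv, Nat.card_perm, Nat.card_fin]; rfl
      rcases IsSimpleGroup.eq_bot_or_eq_top_of_normal ((QuotientGroup.mk' N).comp φ).ker inferInstance with h | h
      · have := Nat.card_le_card_of_injective _ ((MonoidHom.ker_eq_bot_iff _).1 h)
        rw [h60] at this
        omega
      · set b : alternatingGroup (Fin 5) := ⟨b234, Equiv.Perm.mem_alternatingGroup.2 g1⟩
        have hbN : φ b ∈ N := (QuotientGroup.eq_one_iff _).1 (MonoidHom.mem_ker.1 (h ▸ mem_top b))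
        have h3 : orderOf (φ b) = 3 := by
          haveI : Fact (Nat.Prime 3) := ⟨Nat.prime_three⟩
          refine orderOf_eq_prime (by rw [← map_pow, show b ^ 3 = 1 from Subtype.ext (by
            show b234 ^ 3 = 1
            rw [pow_three, ← mul_assoc, hb3]), map_one]) fun h => hb1 ?_
          exact congrArg Subtype.val (hφ (h.trans (map_one φ).symm))
        have hd3 := Subgroup.orderOf_dvd_natCard N hbN
        rw [h3] at hd3
        exact absurd (Nat.Coprime.eq_one_of_dvd hNc.symm hd3) (by norm_num)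
    · haveI := hN
      obtain ⟨m, hm2⟩ := IsPGroup.iff_card.1 (show IsPGroup 2 N from fun x => ⟨1, Subtype.ext (by
        rw [SubgroupClass.coe_pow, pow_one]; exact hN2 x x.2)⟩)
      have hc' : Nat.card (L ⧸ zpowers iL) = 60 * 2 ^ m := by
        rw [card_eq_card_quotient_mul_card_subgroup N, Nat.card_congr eA.toEquiv, h60, hm2]
      refine (hφ.bijective_of_nat_card_le ?_).2
      rcases m with _ | m
      · rw [hc', h60, pow_zero, mul_one]
      · exact absurd ⟨15 * 2 ^ m, by rw [hc', pow_succ]; ring⟩ hbound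
    · exfalso
      refine hbound ?_
      rw [Nat.card_congr eP.toEquiv]
      haveI : Fact (Nat.Prime 7) := ⟨by norm_num⟩
      have := CfsgLib.Classical.card_psl2 (F := ZMod 7)
      rw [ZMod.card, show Nat.gcd 2 (7 - 1) = 2 by decide] at this
      exact ⟨21, by omega⟩
  -- so the centralizer normalizes the second factor
  intro y hy
  set yM : M := ⟨y, hy⟩
  set wM : M := ⟨X.B b234, hBM _ g1⟩
  have hmem : yM * wM * yM⁻¹ ∈ L := hLn.conj_mem _ (hBL _ g1) yM
  obtain ⟨a, ha⟩ := hall (QuotientGroup.mk ⟨_, hmem⟩)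
  have hsa := Equiv.Perm.mem_alternatingGroup.1 a.2
  have hyw : y * X.B b234 * y⁻¹ = X.B (a : P5) ∨ y * X.B b234 * y⁻¹ = X.B (a : P5) * X.f sA :=
    (AltEightLocal.mem_zpowers_invol hi2 (QuotientGroup.eq.1 ha)).imp
      (fun h => (congrArg (fun x : L => ((x : M) : G)) (inv_mul_eq_one.1 h)).symm)
      (fun h => congrArg (fun x : L => ((x : M) : G)) (inv_mul_eq_iff_eq_mul.1 h))
  have hcube : (y * X.B b234 * y⁻¹) * (y * X.B b234 * y⁻¹) * (y * X.B b234 * y⁻¹) = 1 := by
    rw [conj_mul, conj_mul, ← map_mul, ← map_mul, hb3, map_one, mul_one, mul_inv_cancel]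
  rcases hyw with e | e
  · rw [e, ← map_mul, ← map_mul, ← map_one X.B] at hcube
    obtain ⟨p, hp, hpa⟩ := three_five (a : P5) (by rw [pow_three, ← mul_assoc]; exact hBinj hcube) fun h => by
      rw [h, map_one, conj_eq_one_iff] at e
      exact hb1 (hBinj (e.trans (map_one X.B).symm))
    have hc' : (X.B p)⁻¹ * y * X.f zW = X.f zW * ((X.B p)⁻¹ * y) := by
      rw [show X.f zW = X.B b234 from congrArg X.f hW]
      calc (X.B p)⁻¹ * y * X.B b234 = (X.B p)⁻¹ * (y * X.B b234 * y⁻¹) * y := by group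
        _ = (X.B p)⁻¹ * (X.B p * X.B b234 * (X.B p)⁻¹) * y := by
          rw [e, show X.B p * X.B b234 * (X.B p)⁻¹ = X.B (a : P5) by rw [← map_inv, ← map_mul, ← map_mul, hpa]]
        _ = _ := by group
    obtain ⟨t, ht, -⟩ := X.exists_coord_w hc'
    have := mul_mem (H.B_mem he p) (H.g_mem he t)
    rwa [ht, mul_inv_cancel_left] at this
  · exfalso
    rw [e] at hcube
    have hcm : Commute (X.B (a : P5)) (X.f sA) := by rw [hsA]; exact H.comm_AB he hsa hd
    rw [hcm.symm.mul_mul_mul_comm, sq_sA X, mul_one, ← mul_assoc, ← map_mul, ← map_mul,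
      mul_eq_one_iff_inv_eq, ← map_inv, hsA, eq_comm] at hcube
    exact hd1 (H.A_ne_B he hd (by simp [hsa]) hcube).1

end CfsgLib.Spor.SymEightLocal
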