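import Cfsg.Agent.Lib.Spor.SymEightLocal.CentC
import Cfsg.Agent.Lib.Perm.Groups.CoxeterSym

/-!
# The symmetric orientation: the Coxeter relations of degree eight
-/

set_option autoImplicit false
set_option linter.style.haveILetI false
set_option linter.unusedSectionVars false
set_option synthInstance.maxSize 4000
set_option synthInstance.maxHeartbeats 80000

namespace CfsgLib.Spor.SymEightLocal

open Equiv

attribute [local instance 5000] List.decidableBAll List.decidableBEx

abbrev P6 := Equiv.Perm (Fin 6)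

/-- the involutions on six points -/
def invs6 : List P6 :=
  let s := (List.finRange 6).flatMap fun i => ((List.finRange 6).filter fun j => decide (i < j)).map fun j => (i, j)
  (s.map fun p => swap p.1 p.2) ++
    (s.flatMap fun p => (s.filter fun q => decide (p.1 < q.1 ∧ q.1 ≠ p.2 ∧ q.2 ≠ p.2)).map fun q =>
      swap p.1 p.2 * swap q.1 q.2) ++
    (s.flatMap fun p => (s.filter fun q => decide (p.1 < q.1 ∧ q.1 ≠ p.2 ∧ q.2 ≠ p.2)).flatMap fun q =>
      (s.filter fun r => decide (q.1 < r.1 ∧ r.1 ≠ p.2 ∧ r.2 ≠ p.2 ∧ r.1 ≠ q.2 ∧ r.2 ≠ q.2)).map fun r =>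
        swap p.1 p.2 * swap q.1 q.2 * swap r.1 r.2)

/-- representatives of the classes of involutions -/
def reps6 : List P6 := [swap 0 1, swap 0 1 * swap 2 3, swap 0 1 * swap 2 3 * swap 4 5]

theorem mem_invs6 : ∀ a : P6, a * a = 1 → a ≠ 1 → a ∈ invs6 := by decide +kernel

theorem exists_rep6 : ∀ a ∈ invs6, ∃ p : P6, p * a * p⁻¹ ∈ reps6 := by decide +kernel

/-- two involutions with product of order three -/
def braid (a b : P6) : Bool := a * b * a == b * a * b && a != b

/-- two commuting involutions -/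
def comm6 (a b : P6) : Bool := a * b == b * a

theorem chain_extends : ∀ a ∈ reps6, ∀ b ∈ invs6, braid a b = true →
    ∀ e ∈ invs6, braid b e = true → comm6 a e = true → ∀ q ∈ invs6, braid e q = true → comm6 a q = true →
      comm6 b q = true → ∀ t ∈ invs6, braid t a = true → comm6 t e = true → comm6 t q = true →
        comm6 t b = true ∨ comm6 (a * t * a) b = true := by decide +kernel

theorem chain_extends' {a b e q t : P6} (ha : a ∈ invs6) (hb : b ∈ invs6) (he : e ∈ invs6) (hq : q ∈ invs6)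
    (ht : t ∈ invs6) (h1 : braid a b = true) (h2 : braid b e = true) (h3 : comm6 a e = true)
    (h4 : braid e q = true) (h5 : comm6 a q = true) (h6 : comm6 b q = true) (h7 : braid t a = true)
    (h8 : comm6 t e = true) (h9 : comm6 t q = true) : comm6 t b = true ∨ comm6 (a * t * a) b = true := by
  obtain ⟨p, hp⟩ := exists_rep6 a ha
  set h := MulAut.conj p with hh
  have hinv : ∀ {x : P6}, x ∈ invs6 → h x ∈ invs6 := by
    have key : ∀ x ∈ invs6, x * x = 1 ∧ x ≠ 1 := by decide +kernel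
    intro x hx
    obtain ⟨k1, k2⟩ := key x hx
    refine mem_invs6 _ (by rw [← map_mul, k1, map_one]) fun e => k2 (h.injective (e.trans (map_one h).symm))
  have hbr : ∀ {x y : P6}, braid x y = true → braid (h x) (h y) = true := by
    intro x y hxy
    rw [braid, Bool.and_eq_true, beq_iff_eq, bne_iff_ne] at hxy ⊢
    exact ⟨by rw [← map_mul, ← map_mul, ← map_mul, ← map_mul, hxy.1], fun e => hxy.2 (h.injective e)⟩
  have hcm : ∀ {x y : P6}, comm6 x y = true → comm6 (h x) (h y) = true := by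
    intro x y hxy
    rw [comm6, beq_iff_eq] at hxy ⊢
    rw [← map_mul, ← map_mul, hxy]
  have hback : ∀ {x y : P6}, comm6 (h x) (h y) = true → comm6 x y = true := by
    intro x y hxy
    rw [comm6, beq_iff_eq] at hxy ⊢
    exact h.injective (by rw [map_mul, map_mul, hxy])
  rcases chain_extends (h a) hp (h b) (hinv hb) (hbr h1) (h e) (hinv he) (hbr h2) (hcm h3) (h q) (hinv hq)
    (hbr h4) (hcm h5) (hcm h6) (h t) (hinv ht) (hbr h7) (hcm h8) (hcm h9) with r | r
  · exact Or.inl (hback r)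
  · rw [← map_mul, ← map_mul] at r
    exact Or.inr (hback r)

/-- the coordinates of the generators at `z` -/
def fv : Fin 7 → F :=
  ![(swap 0 1, 1), (swap 1 2, 1), 1, (1, swap 0 1), (1, swap 1 2), (1, swap 2 3), (1, swap 3 4)]

/-- the coordinates of the generators at `w` -/
def gv (s : Bool) : Fin 7 → F :=
  ![(1, swap 2 3), (1, swap 3 4), (1, cond s (swap 1 4) (swap 0 4)), (1, swap 0 1), 1, (swap 0 1, 1), (swap 1 2, 1)]

theorem gv_facts : gv true 2 = cT * gv false 2 * cT⁻¹ ∧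
    zZ⁻¹ * sA * zZ = (swap 0 1, 1) ∧ zW⁻¹ * sB * zW = ((1 : P3), (swap 2 3 : P5)) ∧ cT⁻¹ = cT := by decide +kernel

theorem rel_fv : ∀ i j : Fin 7, i ≠ 2 → j ≠ 2 → (fv i * fv j) ^ (CoxeterMatrix.A 7 i j) = 1 := by decide +kernel

theorem rel_gv : ∀ s : Bool, ∀ i j : Fin 7, i ≠ 4 → j ≠ 4 → (gv s i * gv s j) ^ (CoxeterMatrix.A 7 i j) = 1 := by
  decide +kernel

theorem five_cent : ∃ q : F, q ^ 5 = 1 ∧ q ≠ 1 ∧ q * sA = sA * q := by decide +kernel

theorem cTsB : ∃ p : F, p * cT * p⁻¹ = sB := by decide +kernel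

variable {G : Type*} [Group G] [Finite G]

namespace Frame

variable {X : Frame G} (he : X.eps = false)
include he

theorem link_a' : X.g sB = X.f sA := by
  have := X.g_vals.2.2.2.1
  rwa [he, show tw false = 1 from rfl, mul_one] at this

theorem link_b' : X.g sA = X.f sB := by
  have := X.g_vals.2.2.2.2
  rwa [he, show tw false = 1 from rfl, mul_one] at this

theorem conj_sA : IsConj (X.f cT) (X.f sA) := by
  obtain ⟨p, hp⟩ := cTsB
  refine isConj_iff.2 ⟨X.g p, ?_⟩
  rw [← X.link_a' he, ← X.g_vals.2.2.1, ← map_inv, ← map_mul, ← map_mul, hp]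

/-- the common generators -/
theorem g_eq_f (s : Bool) : ∀ i : Fin 7, i ≠ 2 → i ≠ 4 → X.g (gv s i) = X.f (fv i) := by
  obtain ⟨-, h1, h2, -⟩ := gv_facts
  obtain ⟨g1, g2, g3, -, -⟩ := X.g_vals
  intro i
  fin_cases i <;> intro hi2 hi4
  · show X.g ((1 : P3), swap 2 3) = X.f (swap 0 1, 1)
    rw [← h2, ← h1, map_mul, map_mul, map_inv, map_mul, map_mul, map_inv, g2, X.link_a' he]
  · exact X.link_a' he
  · exact absurd rfl hi2
  · exact g3
  · exact absurd rfl hi4
  · show X.g (swap 0 1, 1) = X.f ((1 : P3), swap 2 3)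
    rw [← h2, ← h1, map_mul, map_mul, map_inv, map_mul, map_mul, map_inv, g1, X.link_b' he]
  · exact X.link_b' he

theorem exists_perm_hom (H : Hyp X) :
    ∀ j : G, IsConj (X.f cT) j →
      ∃ π : Subgroup.centralizer ({j} : Set G) →* P6, Function.Surjective π ∧
        ∀ x, π x = 1 ↔ (x : G) = 1 ∨ (x : G) = j := by
  haveI : Fact (Nat.Prime 5) := ⟨by norm_num⟩
  -- five divides the order of the centralizer
  have h5 : 5 ∣ Nat.card (Subgroup.centralizer ({X.f cT} : Set G)) := by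
    obtain ⟨q, hq, hq1, hqc⟩ := five_cent
    obtain ⟨g, hg⟩ := isConj_iff.1 (X.conj_sA he)
    have hm : g⁻¹ * X.f q * g ∈ Subgroup.centralizer ({X.f cT} : Set G) := by
      rw [Subgroup.mem_centralizer_singleton_iff, show X.f cT = g⁻¹ * X.f sA * g by rw [← hg]; group]
      calc g⁻¹ * X.f q * g * (g⁻¹ * X.f sA * g) = g⁻¹ * (X.f q * X.f sA) * g := by group
        _ = g⁻¹ * (X.f sA * X.f q) * g := by rw [← map_mul, hqc, map_mul]
        _ = _ := by group
    have ho : orderOf (g⁻¹ * X.f q * g) = 5 := by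
      refine orderOf_eq_prime ?_ fun e => hq1 (X.f_inj ?_)
      · rw [show g⁻¹ * X.f q * g = g⁻¹ * X.f q * (g⁻¹)⁻¹ by group, conj_pow, ← map_pow, hq, map_one, mul_one,
          mul_inv_cancel]
      · rw [map_one]
        calc X.f q = g * (g⁻¹ * X.f q * g) * g⁻¹ := by group
          _ = 1 := by rw [e, mul_one, mul_inv_cancel]
    exact (dvd_of_eq ho.symm).trans (Subgroup.orderOf_dvd_natCard _ hm)
  rcases H.cent_c with h | ⟨π, hπs, hπ⟩
  · exfalso
    have := h5.trans (Subgroup.card_dvd_of_le h)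
    rw [H.card_ND] at this
    norm_num at this
  intro j hj
  obtain ⟨g, rfl⟩ := isConj_iff.1 hj
  let e : Subgroup.centralizer ({g * X.f cT * g⁻¹} : Set G) →* Subgroup.centralizer ({X.f cT} : Set G) :=
    ((MulAut.conj g⁻¹).toMonoidHom.comp (Subgroup.subtype _)).codRestrict _ fun x => by
      have h := Subgroup.mem_centralizer_singleton_iff.1 x.2
      rw [Subgroup.mem_centralizer_singleton_iff]
      show g⁻¹ * x * g⁻¹⁻¹ * X.f cT = X.f cT * (g⁻¹ * x * g⁻¹⁻¹)
      calc g⁻¹ * x * g⁻¹⁻¹ * X.f cT = g⁻¹ * ((x : G) * (g * X.f cT * g⁻¹)) * g := by group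
        _ = g⁻¹ * ((g * X.f cT * g⁻¹) * x) * g := by rw [h]
        _ = _ := by group
  have hes : Function.Surjective e := fun y => by
    refine ⟨⟨g * y * g⁻¹, ?_⟩, Subtype.ext ?_⟩
    · rw [Subgroup.mem_centralizer_singleton_iff, conj_mul, conj_mul, Subgroup.mem_centralizer_singleton_iff.1 y.2]
    · show g⁻¹ * (g * y * g⁻¹) * g⁻¹⁻¹ = y
      group
  refine ⟨π.comp e, hπs.comp hes, fun x => ?_⟩
  rw [MonoidHom.comp_apply, hπ]
  show g⁻¹ * (x : G) * g⁻¹⁻¹ = 1 ∨ g⁻¹ * (x : G) * g⁻¹⁻¹ = X.f cT ↔ _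
  constructor
  · rintro (h | h)
    · exact Or.inl (conj_eq_one_iff.1 h)
    · refine Or.inr ?_
      calc (x : G) = g * (g⁻¹ * (x : G) * g⁻¹⁻¹) * g⁻¹ := by group
        _ = g * X.f cT * g⁻¹ := by rw [h]
  · rintro (h | h) <;> rw [h]
    · exact Or.inl (by group)
    · exact Or.inr (by group)

/-- The generators satisfy the Coxeter relations. -/
theorem exists_hom (H : Hyp X) :
    ∃ φ : Equiv.Perm (Fin 8) →* G, φ (swap 0 1) = X.f (swap 0 1, 1) ∧ φ (swap 1 2) = X.f (swap 1 2, 1) ∧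
      φ (swap 3 4) = X.f cT ∧ φ (swap 4 5) = X.f (1, swap 1 2) ∧ φ (swap 5 6) = X.f (1, swap 2 3) ∧
      φ (swap 6 7) = X.f (1, swap 3 4) := by
  classical
  set d := X.f (fv 0) with hd
  have hdc : IsConj (X.f cT) d := by
    refine (X.conj_sA he).trans (isConj_iff.2 ⟨X.f zZ⁻¹, ?_⟩)
    rw [← map_inv, ← map_mul, ← map_mul, inv_inv, gv_facts.2.1]; rfl
  set C := Subgroup.centralizer ({d} : Set G) with hC
  obtain ⟨π, -, hπ⟩ : ∃ π : C →* P6, Function.Surjective π ∧ ∀ x, π x = 1 ↔ (x : G) = 1 ∨ (x : G) = d :=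
    X.exists_perm_hom he H d hdc
  have hg0 : ∀ s, X.g (gv s 0) = d := fun s => X.g_eq_f he s 0 (by decide) (by decide)
  have hmemf : ∀ i : Fin 7, 3 ≤ i → X.f (fv i) ∈ Subgroup.centralizer ({d} : Set G) := by
    have key : ∀ i : Fin 7, 3 ≤ i → fv i * fv 0 = fv 0 * fv i := by decide +kernel
    intro i hi
    rw [Subgroup.mem_centralizer_singleton_iff, hd, ← map_mul, ← map_mul, key i hi]
  have hmemt : ∀ s, X.g (gv s 2) ∈ Subgroup.centralizer ({d} : Set G) := by
    have key : ∀ s, gv s 2 * gv s 0 = gv s 0 * gv s 2 := by decide +kernel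
    intro s
    rw [Subgroup.mem_centralizer_singleton_iff, ← hg0 s, ← map_mul, ← map_mul, key s]
  set a : C := ⟨_, hmemf 3 (by decide)⟩
  set b : C := ⟨_, hmemf 4 (by decide)⟩
  set e : C := ⟨_, hmemf 5 (by decide)⟩
  set q : C := ⟨_, hmemf 6 (by decide)⟩
  set t : C := ⟨_, hmemt false⟩
  have hd2 : d * d = 1 := by
    rw [hd, ← map_mul, show fv 0 * fv 0 = 1 by decide +kernel, map_one]
  -- the kernel is small
  have hker2 : ∀ x : C, π x = 1 → x * x = 1 := fun x hx => Subtype.ext (by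
    rcases (hπ x).1 hx with h | h <;> simp only [Subgroup.coe_mul, Subgroup.coe_one, h]
    · exact one_mul 1
    · exact hd2)
  have hinvF : ∀ i : Fin 7, i ≠ 2 → fv i * fv i = 1 ∧ fv i ≠ 1 := by decide +kernel
  have hinvG : gv false 2 * gv false 2 = 1 ∧ gv false 2 ≠ 1 := by decide +kernel
  have hneF : ∀ i : Fin 7, 3 ≤ i → fv i ≠ fv 0 := by decide +kernel
  have hπinv : ∀ x : C, (x : G) * x = 1 → (x : G) ≠ 1 → (x : G) ≠ d → π x ∈ invs6 := fun x h2 h1 hxd =>
    mem_invs6 _ (by rw [← map_mul, show x * x = 1 from Subtype.ext h2, map_one]) fun h =>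
      ((hπ x).1 h).elim h1 hxd
  have hFmem : ∀ (i : Fin 7) (hi : 3 ≤ i), π ⟨_, hmemf i hi⟩ ∈ invs6 := fun i hi => by
    have hi2 : i ≠ 2 := fun h => absurd (h ▸ hi) (by decide)
    refine hπinv _ ?_ (fun h => (hinvF i hi2).2 (X.f_inj (h.trans (map_one X.f).symm)))
      fun h => hneF i hi (X.f_inj h)
    show X.f (fv i) * X.f (fv i) = 1
    rw [← map_mul, (hinvF i hi2).1, map_one]
  have htmem : π t ∈ invs6 := by
    refine hπinv _ ?_ (fun h => hinvG.2 (X.g_inj (h.trans (map_one X.g).symm))) fun h => ?_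
    · show X.g (gv false 2) * X.g (gv false 2) = 1
      rw [← map_mul, hinvG.1, map_one]
    · exact absurd (X.g_inj (h.trans (hg0 false).symm)) (by decide +kernel)
  have hbraid : ∀ x y : C, (x : G) * x = 1 → (y : G) * y = 1 → ((x : G) * y) ^ 3 = 1 → (x : G) ≠ y →
      braid (π x) (π y) = true := by
    intro x y hx hy h3 hne
    have h3' : (x * y) ^ 3 = 1 := Subtype.ext h3
    have hx' : x * x = 1 := Subtype.ext hx
    have hy' : y * y = 1 := Subtype.ext hy
    have hb : x * y * x = y * x * y := by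
      calc x * y * x = (x * y) ^ 3 * (y⁻¹ * x⁻¹ * y⁻¹) := by simp only [pow_succ, pow_zero, one_mul]; group
        _ = y⁻¹ * x⁻¹ * y⁻¹ := by rw [h3', one_mul]
        _ = y * x * y := by rw [inv_eq_of_mul_eq_one_right hx', inv_eq_of_mul_eq_one_right hy']
    rw [braid, Bool.and_eq_true, beq_iff_eq, bne_iff_ne]
    refine ⟨by rw [← map_mul, ← map_mul, ← map_mul, ← map_mul, hb], fun h => hne ?_⟩
    have hk : π (x * y) = 1 := by
      rw [map_mul, ← h, ← map_mul, hx', map_one]
    have h2 := hker2 _ hk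
    have h1 : x * y = 1 := by rwa [pow_succ, pow_two, h2, one_mul] at h3'
    exact congrArg Subtype.val ((eq_inv_of_mul_eq_one_left h1).trans (inv_eq_of_mul_eq_one_right hy'))
  have hcm : ∀ x y : C, (x : G) * x = 1 → (y : G) * y = 1 → ((x : G) * y) ^ 2 = 1 → comm6 (π x) (π y) = true := by
    intro x y hx hy h2
    have h2' : (x * y) * (x * y) = 1 := by rw [← pow_two]; exact Subtype.ext h2
    rw [comm6, beq_iff_eq, ← map_mul, ← map_mul, ← inv_eq_of_mul_eq_one_right h2', mul_inv_rev,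
      inv_eq_of_mul_eq_one_right (show x * x = 1 from Subtype.ext hx),
      inv_eq_of_mul_eq_one_right (show y * y = 1 from Subtype.ext hy)]
  have hFsq : ∀ i : Fin 7, i ≠ 2 → X.f (fv i) * X.f (fv i) = 1 := fun i hi => by
    rw [← map_mul, (hinvF i hi).1, map_one]
  have hGsq : X.g (gv false 2) * X.g (gv false 2) = 1 := by rw [← map_mul, hinvG.1, map_one]
  have hFrel : ∀ i j : Fin 7, i ≠ 2 → j ≠ 2 → (X.f (fv i) * X.f (fv j)) ^ (CoxeterMatrix.A 7 i j) = 1 :=
    fun i j hi hj => by rw [← map_mul, ← map_pow, rel_fv i j hi hj, map_one]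
  have hGrel : ∀ s, ∀ i j : Fin 7, i ≠ 4 → j ≠ 4 → (X.g (gv s i) * X.g (gv s j)) ^ (CoxeterMatrix.A 7 i j) = 1 :=
    fun s i j hi hj => by rw [← map_mul, ← map_pow, rel_gv s i j hi hj, map_one]
  have hgf := fun s (i : Fin 7) (h2 : i ≠ 2) (h4 : i ≠ 4) => X.g_eq_f he s i h2 h4
  have hta : ((t : G) * (a : G)) ^ 3 = 1 := by
    show (X.g (gv false 2) * X.f (fv 3)) ^ 3 = 1
    rw [← hgf false 3 (by decide) (by decide)]
    exact hGrel false 2 3 (by decide) (by decide)
  have hte : ∀ i : Fin 7, i = 5 ∨ i = 6 → ((t : G) * X.f (fv i)) ^ 2 = 1 := by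
    rintro i (rfl | rfl)
    · show (X.g (gv false 2) * _) ^ 2 = 1
      rw [← hgf false 5 (by decide) (by decide)]
      exact hGrel false 2 5 (by decide) (by decide)
    · show (X.g (gv false 2) * _) ^ 2 = 1
      rw [← hgf false 6 (by decide) (by decide)]
      exact hGrel false 2 6 (by decide) (by decide)
  have hne34 : (a : G) ≠ b := fun h => absurd (X.f_inj h) (by decide +kernel)
  have hne45 : (b : G) ≠ e := fun h => absurd (X.f_inj h) (by decide +kernel)
  have hne56 : (e : G) ≠ q := fun h => absurd (X.f_inj h) (by decide +kernel)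
  have hnet : (t : G) ≠ a := fun h => absurd (X.g_inj (h.trans (hgf false 3 (by decide) (by decide)).symm))
    (by decide +kernel)
  have hext := chain_extends' (hFmem 3 (by decide)) (hFmem 4 (by decide)) (hFmem 5 (by decide))
    (hFmem 6 (by decide)) htmem
    (hbraid a b (hFsq 3 (by decide)) (hFsq 4 (by decide)) (hFrel 3 4 (by decide) (by decide)) hne34)
    (hbraid b e (hFsq 4 (by decide)) (hFsq 5 (by decide)) (hFrel 4 5 (by decide) (by decide)) hne45)
    (hcm a e (hFsq 3 (by decide)) (hFsq 5 (by decide)) (hFrel 3 5 (by decide) (by decide)))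
    (hbraid e q (hFsq 5 (by decide)) (hFsq 6 (by decide)) (hFrel 5 6 (by decide) (by decide)) hne56)
    (hcm a q (hFsq 3 (by decide)) (hFsq 6 (by decide)) (hFrel 3 6 (by decide) (by decide)))
    (hcm b q (hFsq 4 (by decide)) (hFsq 6 (by decide)) (hFrel 4 6 (by decide) (by decide)))
    (hbraid t a hGsq (hFsq 3 (by decide)) hta hnet)
    (hcm t e hGsq (hFsq 5 (by decide)) (hte 5 (Or.inl rfl)))
    (hcm t q hGsq (hFsq 6 (by decide)) (hte 6 (Or.inr rfl)))
  obtain ⟨s, u, hu, huc⟩ : ∃ (s : Bool) (u : C), (u : G) = X.g (gv s 2) ∧ comm6 (π u) (π b) = true := by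
    rcases hext with h | h
    · exact ⟨false, t, rfl, h⟩
    · refine ⟨true, a * t * a, ?_, by rw [map_mul, map_mul]; exact h⟩
      show X.f (fv 3) * X.g (gv false 2) * X.f (fv 3) = _
      rw [gv_facts.1, gv_facts.2.2.2, map_mul, map_mul, X.g_vals.2.2.1]
      rfl
  -- lifting the commutation
  have hub : (u * b) ^ 2 = 1 := by
    rw [comm6, beq_iff_eq, ← map_mul, ← map_mul] at huc
    have hub1 : π ((b * u)⁻¹ * (u * b)) = 1 := by rw [map_mul, map_inv, huc, inv_mul_cancel]
    have hu2 : u * u = 1 := Subtype.ext (by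
      rw [Subgroup.coe_mul, hu, ← map_mul,
        (show ∀ s, gv s 2 * gv s 2 = 1 by decide +kernel) s, map_one, Subgroup.coe_one])
    have hb2 : b * b = 1 := Subtype.ext (hFsq 4 (by decide))
    rcases (hπ _).1 hub1 with h | h
    · have e1 : u * b = b * u := (inv_mul_eq_one.1 (Subtype.ext h)).symm
      rw [pow_two]
      calc u * b * (u * b) = (u * b) * (b * u) := by rw [← e1]
        _ = u * (b * b) * u := by group
        _ = 1 := by rw [hb2, mul_one, hu2]
    · exfalso
      -- conjugating a braid relation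
      set dC : C := ⟨d, Subgroup.mem_centralizer_singleton_iff.2 rfl⟩
      have e1 : u * b = b * u * dC := inv_mul_eq_iff_eq_mul.1 (Subtype.ext h)
      have hdcen : ∀ x : C, Commute dC x := fun x => Subtype.ext
        (Subgroup.mem_centralizer_singleton_iff.1 x.2).symm
      have hdd : dC * dC = 1 := Subtype.ext hd2
      have hconj : u * b * u⁻¹ = b * dC := by
        rw [e1, mul_assoc b u dC, ← (hdcen u).eq, ← mul_assoc, mul_inv_cancel_right]
      have hue : (u * e) ^ 2 = 1 := Subtype.ext (by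
        show ((u : G) * X.f (fv 5)) ^ 2 = 1
        rw [hu, ← hgf s 5 (by decide) (by decide)]
        exact hGrel s 2 5 (by decide) (by decide))
      have he2 : e * e = 1 := Subtype.ext (hFsq 5 (by decide))
      have hconj2 : u * e * u⁻¹ = e := by
        rw [inv_eq_of_mul_eq_one_right hu2]
        calc u * e * u = (u * e) ^ 2 * e⁻¹ := by simp only [pow_succ, pow_zero, one_mul]; group
          _ = e := by rw [hue, one_mul, inv_eq_of_mul_eq_one_right he2]
      have hbe : (b * e) ^ 3 = 1 := Subtype.ext (hFrel 4 5 (by decide) (by decide))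
      have h3 : (b * dC * e) ^ 3 = 1 := by
        rw [← hconj]
        nth_rewrite 1 [← hconj2]
        rw [conj_mul, conj_pow, hbe, mul_one, mul_inv_cancel]
      rw [mul_assoc, (hdcen e).eq, ← mul_assoc, (show Commute (b * e) dC from (hdcen _).symm).mul_pow, hbe,
        one_mul, pow_succ, pow_two, hdd, one_mul] at h3
      exact X.c_ne (by
        obtain ⟨k, hk⟩ := isConj_iff.1 hdc
        have hd1 : d = 1 := congrArg Subtype.val h3
        rw [hd1] at hk
        exact conj_eq_one_iff.1 hk)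
  let x : Fin 7 → G := fun i => if i = 2 then X.g (gv s 2) else X.f (fv i)
  have hlift : (CoxeterMatrix.A 7).IsLiftable x := by
    intro i j
    have hxg : ∀ k : Fin 7, k ≠ 4 → x k = X.g (gv s k) := fun k hk => by
      by_cases h2 : k = 2
      · rw [h2]; rfl
      · show (if k = 2 then _ else _) = _
        rw [if_neg h2, hgf s k h2 hk]
    by_cases hg : i ≠ 4 ∧ j ≠ 4
    · rw [hxg i hg.1, hxg j hg.2]; exact hGrel s i j hg.1 hg.2
    by_cases hF : i ≠ 2 ∧ j ≠ 2
    · show ((if i = 2 then _ else _) * (if j = 2 then _ else _)) ^ _ = 1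
      rw [if_neg hF.1, if_neg hF.2]; exact hFrel i j hF.1 hF.2
    have hub' : (X.g (gv s 2) * X.f (fv 4)) ^ 2 = 1 := by
      rw [← hu]; exact congrArg Subtype.val hub
    rcases (show (i = 4 ∧ j = 2) ∨ (i = 2 ∧ j = 4) by omega) with ⟨rfl, rfl⟩ | ⟨rfl, rfl⟩
    · show (X.f (fv 4) * X.g (gv s 2)) ^ 2 = 1
      have h1 : X.f (fv 4) * X.f (fv 4) = 1 := hFsq 4 (by decide)
      calc (X.f (fv 4) * X.g (gv s 2)) ^ 2
          = (X.f (fv 4)) * (X.g (gv s 2) * X.f (fv 4)) ^ 2 * (X.f (fv 4))⁻¹ := by simp only [pow_succ, pow_zero, one_mul]; group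
        _ = 1 := by rw [hub', mul_one, mul_inv_cancel]
    · exact hub'
  obtain ⟨cs, hcs⟩ := CfsgLib.Perm.Groups.exists_coxeterSystem_sym 7
  have hφ : ∀ i : Fin 7, cs.lift ⟨x, hlift⟩ (swap i.castSucc i.succ) = x i := fun i => by
    rw [← hcs]; exact cs.lift_apply_simple hlift i
  exact ⟨cs.lift ⟨x, hlift⟩, hφ 0, hφ 1, hφ 3, hφ 4, hφ 5, hφ 6⟩

end Frame

end CfsgLib.Spor.SymEightLocal
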