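import Cfsg.Agent.Lib.Spor.SymEightLocal.Coxeter
import Cfsg.Agent.Lib.Spor.AltEightLocal.Data
import Cfsg.Agent.Lib.Fusion.Tate

/-!
# The symmetric orientation gives the symmetric group of degree eight
-/

set_option autoImplicit false
set_option linter.style.haveILetI false
set_option linter.unusedSectionVars false
set_option synthInstance.maxSize 4000
set_option synthInstance.maxHeartbeats 80000

namespace CfsgLib.Spor.SymEightLocal

open Equiv Subgroup

attribute [local instance 5000] List.decidableBAll List.decidableBEx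

abbrev P8 := Equiv.Perm (Fin 8)

/-- a double transposition -/
def r22 : P8 := swap 0 1 * swap 2 3
/-- a triple transposition -/
def r222 : P8 := swap 0 5 * swap 1 6 * swap 2 7
/-- a product of four transpositions -/
def r2222 : P8 := swap 0 1 * swap 2 3 * swap 4 5 * swap 6 7

/-- a Sylow-type list commuting with `r22` and `r2222` -/
def L64 : List P8 :=
  (([1, swap 0 1, swap 2 3, swap 0 1 * swap 2 3] : List P8).flatMap fun a =>
    [1, swap 0 2 * swap 1 3].map fun b => a * b).flatMap fun x =>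
  (([1, swap 4 5, swap 6 7, swap 4 5 * swap 6 7] : List P8).flatMap fun a =>
    [1, swap 4 6 * swap 5 7].map fun b => a * b).map fun y => x * y

theorem L64_facts : (1 : P8) ∈ L64 ∧ (∀ a ∈ L64, ∀ b ∈ L64, a * b ∈ L64) ∧ L64.toFinset.card = 64 ∧
    (∀ a ∈ L64, a * r22 = r22 * a ∧ a * r2222 = r2222 * a) := by decide +kernel

theorem rep_types : (swap (0 : Fin 8) 1).cycleType = Multiset.replicate 1 2 ∧
    r22.cycleType = Multiset.replicate 2 2 ∧ r222.cycleType = Multiset.replicate 3 2 ∧
    r2222.cycleType = Multiset.replicate 4 2 := by decide +kernel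

theorem rep_facts : r222 * (swap (0 : Fin 8) 1 * swap 1 2 * (swap 5 6 * swap 6 7)) =
    swap (0 : Fin 8) 1 * swap 1 2 * (swap 5 6 * swap 6 7) * r222 ∧ r222 ≠ swap 3 4 ∧
    zZ = ((swap 0 1 : P3), (1 : P5)) * (swap 1 2, 1) ∧ zW = ((1 : P3), (swap 2 3 : P5)) * (1, swap 3 4) := by
  decide +kernel

theorem cT_conj_swap (i j : Fin 5) (h : i ≠ j) : IsConj (cT : F) ((1 : P3), swap i j) := by
  obtain ⟨p, hp⟩ := isConj_iff.1 (Equiv.Perm.isConj_swap (show (0 : Fin 5) ≠ 1 by decide) h)
  exact isConj_iff.2 ⟨(1, p), Prod.ext (by simp [cT]) (by simpa [cT] using hp)⟩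

theorem first_conj_swap (i j : Fin 3) (h : i ≠ j) :
    IsConj ((swap 0 1 : P3), (1 : P5)) (swap i j, (1 : P5)) := by
  obtain ⟨p, hp⟩ := isConj_iff.1 (Equiv.Perm.isConj_swap (show (0 : Fin 3) ≠ 1 by decide) h)
  exact isConj_iff.2 ⟨(p, 1), Prod.ext (by simpa using hp) (by simp)⟩

/-- the product of the two signs -/
theorem par_facts : (∀ q : AltEightLocal.E, Equiv.Perm.sign q.1.1 * Equiv.Perm.sign q.1.2 = 1) ∧
    AltEightLocal.eZ.1 = zZ ∧ AltEightLocal.eW.1 = zW := by
  refine ⟨fun q => MonoidHom.mem_ker.1 q.2, ?_, ?_⟩ <;> decide +kernel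

theorem inD_listD : ∀ q : F, q ∈ listD →
    ∃ e : AltEightLocal.E, AltEightLocal.inD e = true ∧ e.1 = q := by decide +kernel

variable {G : Type*} [Group G] [Finite G]

theorem card_centralizer_isConj {a b : G} (h : IsConj a b) :
    Nat.card (centralizer ({b} : Set G)) = Nat.card (centralizer ({a} : Set G)) := by
  obtain ⟨g, rfl⟩ := isConj_iff.1 h
  rw [AltEightLocal.centralizer_conj_map]
  exact card_map_of_injective (MulAut.conj g).injective

theorem nonempty_sym_eight {X : Frame G} (H : Hyp X) (he : X.eps = false) :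
    Nonempty (G ≃* Equiv.Perm (Fin 8)) := by
  classical
  haveI : Fact (Nat.Prime 2) := ⟨Nat.prime_two⟩
  obtain ⟨φ, h01, h12, h34, -, h56, h67⟩ := X.exists_hom he H
  set d := X.f ((swap 0 1 : P3), (1 : P5)) with hd
  have hcd : IsConj (X.f cT) d := by
    refine (X.conj_sA he).trans (isConj_iff.2 ⟨X.f zZ⁻¹, ?_⟩)
    rw [← map_inv, ← map_mul, ← map_mul, inv_inv, gv_facts.2.1]
  have hz : φ (swap 0 1 * swap 1 2) = X.f zZ := by rw [map_mul, h01, h12, rep_facts.2.2.1, map_mul]
  have hw : φ (swap 5 6 * swap 6 7) = X.f zW := by rw [map_mul, h56, h67, rep_facts.2.2.2, map_mul]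
  haveI : IsSimpleGroup (alternatingGroup (Fin 8)) := alternatingGroup.isSimpleGroup (by simp)
  -- injectivity
  have hinj : Function.Injective φ := by
    rw [← MonoidHom.ker_eq_bot_iff]
    have hKA : φ.ker.subgroupOf (alternatingGroup (Fin 8)) = ⊥ := by
      refine (IsSimpleGroup.eq_bot_or_eq_top_of_normal _ inferInstance).resolve_right fun h => ?_
      have hm : swap (0 : Fin 8) 1 * swap 1 2 ∈ alternatingGroup (Fin 8) :=
        Equiv.Perm.mem_alternatingGroup.2 (by decide +kernel)
      have h1 : φ (swap 0 1 * swap 1 2) = 1 := MonoidHom.mem_ker.1 (subgroupOf_eq_top.1 h hm)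
      rw [hz] at h1
      exact gen_facts.2.2.2.1 (X.f_inj (h1.trans (map_one X.f).symm))
    refine eq_bot_iff.2 fun k hk => mem_bot.2 ?_
    have hcom : ∀ p : P8, k * p * k⁻¹ * p⁻¹ = 1 := by
      intro p
      have h1 : k * p * k⁻¹ * p⁻¹ ∈ φ.ker := by
        rw [show k * p * k⁻¹ * p⁻¹ = k * (p * k⁻¹ * p⁻¹) by group]
        exact mul_mem hk ((inferInstance : φ.ker.Normal).conj_mem _ (inv_mem hk) p)
      have h2 : k * p * k⁻¹ * p⁻¹ ∈ alternatingGroup (Fin 8) := by
        rw [Equiv.Perm.mem_alternatingGroup]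
        simp [mul_comm, mul_left_comm]
      have h3 : (⟨_, h2⟩ : alternatingGroup (Fin 8)) ∈ φ.ker.subgroupOf (alternatingGroup (Fin 8)) :=
        mem_subgroupOf.2 h1
      rw [hKA, mem_bot] at h3
      exact congrArg Subtype.val h3
    have hc : k ∈ center P8 := mem_center_iff.2 fun p =>
      (mul_inv_eq_iff_eq_mul.1 (mul_inv_eq_one.1 (hcom p))).symm
    refine Equiv.ext fun a => ?_
    by_contra hka
    replace hka : k a ≠ a := hka
    obtain ⟨c, hca, hcb⟩ : ∃ c : Fin 8, c ≠ a ∧ c ≠ k a :=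
      (show ∀ a b : Fin 8, ∃ c : Fin 8, c ≠ a ∧ c ≠ b by decide) a (k a)
    have h2 := congrArg (fun p : P8 => p a) (mem_center_iff.1 hc (swap a c))
    simp only [Equiv.Perm.mul_apply, swap_apply_left] at h2
    rw [swap_apply_of_ne_of_ne hka hcb.symm] at h2
    exact hca (k.injective h2).symm
  set Hs := φ.range with hHs
  -- the centralizer of a transposition
  obtain ⟨π, hπs, hπ⟩ := X.exists_perm_hom he H d hcd
  have hd2 : d * d = 1 := by rw [← h01, ← map_mul, swap_mul_self, map_one]
  have hC1440 : Nat.card (centralizer ({d} : Set G)) ≤ 1440 := by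
    rw [← π.ker.card_mul_index, index_ker, MonoidHom.range_eq_top.2 hπs, card_top, Nat.card_perm, Nat.card_fin]
    have h2 : Nat.card π.ker ≤ 2 := by
      let k : π.ker → Bool := fun x => decide ((x : G) = 1)
      have hk : Function.Injective k := fun x y h => by
        have hiff := decide_eq_decide.1 h
        refine Subtype.ext (Subtype.ext ?_)
        rcases (hπ x).1 x.2 with e1 | e1 <;> rcases (hπ y).1 y.2 with e2 | e2
        · rw [e1, e2]
        · rw [e1]; exact (hiff.1 e1).symm
        · rw [e2]; exact hiff.2 e2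
        · rw [e1, e2]
      simpa using Nat.card_le_card_of_injective k hk
    calc Nat.card π.ker * Nat.factorial 6 ≤ 2 * Nat.factorial 6 := Nat.mul_le_mul_right _ h2
      _ = 1440 := by norm_num [Nat.factorial]
  have hCd : centralizer ({d} : Set G) ≤ Hs := by
    let ι : Perm (Fin 2) × Perm (Fin 6) →* P8 :=
      (finSumFinEquiv (m := 2) (n := 6)).permCongrHom.toMonoidHom.comp (Equiv.Perm.sumCongrHom (Fin 2) (Fin 6))
    have hιi : Function.Injective ι :=
      (finSumFinEquiv (m := 2) (n := 6)).permCongrHom.injective.comp Equiv.Perm.sumCongrHom_injective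
    have hι : ι (swap 0 1, 1) = swap 0 1 := by decide +kernel
    have hle : ι.range.map φ ≤ centralizer ({d} : Set G) := by
      rintro _ ⟨_, ⟨p, rfl⟩, rfl⟩
      rw [mem_centralizer_singleton_iff, ← h01, ← map_mul, ← map_mul, ← hι, ← map_mul, ← map_mul]
      have hp : ∀ a : Perm (Fin 2), a * swap 0 1 = swap 0 1 * a := by decide +kernel
      congr 2
      exact Prod.ext (hp p.1) (by simp)
    have hc : Nat.card (ι.range.map φ) = 1440 := by
      rw [card_map_of_injective hinj, ← Nat.card_congr (MonoidHom.ofInjective hιi).toEquiv, Nat.card_prod,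
        Nat.card_perm, Nat.card_perm, Nat.card_fin, Nat.card_fin]
      norm_num [Nat.factorial]
    rw [← eq_of_le_of_card_ge hle (by rw [hc]; exact hC1440)]
    rintro _ ⟨p, -, rfl⟩
    exact ⟨p, rfl⟩
  have hCd' : Nat.card (centralizer ({d} : Set G)) ∣ 1440 := by
    refine dvd_of_eq (le_antisymm hC1440 ?_)
    have hd8 : d ≠ 1 := fun h => X.c_ne (by
      obtain ⟨g, hg⟩ := isConj_iff.1 hcd
      rw [h] at hg
      exact conj_eq_one_iff.1 hg)
    rw [← π.ker.card_mul_index, index_ker, MonoidHom.range_eq_top.2 hπs, card_top, Nat.card_perm, Nat.card_fin]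
    have h2 : 2 ≤ Nat.card π.ker := by
      refine (Finite.one_lt_card_iff_nontrivial.2 ((Subgroup.nontrivial_iff_exists_ne_one _).2
        ⟨⟨d, mem_centralizer_singleton_iff.2 rfl⟩, MonoidHom.mem_ker.2 ((hπ _).2 (Or.inr rfl)),
          fun h => hd8 (congrArg Subtype.val h)⟩))
    calc 1440 = 2 * Nat.factorial 6 := by norm_num [Nat.factorial]
      _ ≤ _ := Nat.mul_le_mul_right _ h2
  -- involutions of the image in the class of `c`
  have hclass : ∀ h : P8, IsConj (X.f cT) (φ h) → IsConj (swap (0 : Fin 8) 1) h := by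
    intro h hh
    obtain ⟨g, hg⟩ := isConj_iff.1 hh
    have h2 : h * h = 1 := hinj (by rw [map_mul, ← hg, conj_mul, X.c_sq, mul_one, mul_inv_cancel, map_one])
    have h1 : h ≠ 1 := fun e => X.c_ne (by
      rw [e, map_one] at hg
      exact conj_eq_one_iff.1 hg)
    have ho : orderOf h = 2 := orderOf_eq_prime (by rw [pow_two]; exact h2) h1
    obtain ⟨n, hn⟩ := Equiv.Perm.cycleType_prime_order (σ := h) (by rw [ho]; exact Nat.prime_two)
    rw [ho] at hn
    have hs := Equiv.Perm.sum_cycleType_le h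
    rw [hn, Multiset.sum_replicate, Fintype.card_fin, smul_eq_mul] at hs
    obtain ⟨t1, t2, t3, t4⟩ := rep_types
    have h64 : ∀ r : P8, (∀ a ∈ L64, a * r = r * a) → IsConj r h → False := by
      intro r hr hrh
      have hconj : IsConj d (φ r) := (hcd.symm.trans hh).trans (φ.map_isConj hrh).symm
      let L := AltEightLocal.listSubgroup L64 L64_facts.1 L64_facts.2.1
      have hle : L.map φ ≤ centralizer ({φ r} : Set G) := by
        rintro _ ⟨a, ha, rfl⟩
        rw [mem_centralizer_singleton_iff, ← map_mul, ← map_mul, hr a ha]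
      have hL := (card_dvd_of_le hle).trans (dvd_of_eq (card_centralizer_isConj hconj) |>.trans hCd')
      rw [card_map_of_injective hinj, AltEightLocal.card_listSubgroup, L64_facts.2.2.1] at hL
      norm_num at hL
    rcases (show n = 0 ∨ n = 1 ∨ n = 2 ∨ n = 3 by omega) with rfl | rfl | rfl | rfl
    · exact (Equiv.Perm.isConj_iff_cycleType_eq.2 (hn.trans t1.symm)).symm
    · exact (h64 r22 (fun a ha => (L64_facts.2.2.2 a ha).1)
        (Equiv.Perm.isConj_iff_cycleType_eq.2 (t2.trans hn.symm))).elim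
    · exfalso
      have hr : IsConj (X.f cT) (φ r222) :=
        hh.trans (φ.map_isConj (Equiv.Perm.isConj_iff_cycleType_eq.2 (hn.trans t3.symm)))
      refine rep_facts.2.1 (hinj ((H.eq_c mixed_coords.2.2.1 mixed_coords.1 mixed_coords.2.1 hr ?_).trans h34.symm))
      rw [map_mul X.f, ← hz, ← hw, ← map_mul, ← map_mul, ← map_mul, rep_facts.1]
    · exact (h64 r2222 (fun a ha => (L64_facts.2.2.2 a ha).2)
        (Equiv.Perm.isConj_iff_cycleType_eq.2 (t4.trans hn.symm))).elim
  -- a Sylow subgroup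
  have h2P : IsPGroup 2 (zpowers (swap (0 : Fin 8) 1)) := IsPGroup.of_card (n := 1) (by
    rw [Nat.card_zpowers, pow_one]
    exact orderOf_eq_prime (by rw [pow_two, swap_mul_self]) (by decide))
  obtain ⟨T, hT⟩ := h2P.exists_le_sylow
  have hsT : swap (0 : Fin 8) 1 ∈ (T : Subgroup P8) := hT (mem_zpowers _)
  set T' := (T : Subgroup P8).map φ with hT'
  have hT'p : IsPGroup 2 T' := T.2.map φ
  have hNT : normalizer (T' : Set G) ≤ Hs := by
    intro x hx
    obtain ⟨h, hh, he'⟩ := (mem_normalizer_iff.1 hx d).1 ⟨_, hsT, h01⟩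
    obtain ⟨p, hp⟩ := isConj_iff.1 (hclass h (he'.symm ▸ hcd.trans (isConj_iff.2 ⟨x, rfl⟩)))
    have hm : (φ p)⁻¹ * x ∈ centralizer ({d} : Set G) := by
      have e : x * d * x⁻¹ = φ p * d * (φ p)⁻¹ := by
        rw [← he', ← hp, map_mul, map_mul, map_inv, h01]
      rw [mem_centralizer_singleton_iff]
      calc (φ p)⁻¹ * x * d = (φ p)⁻¹ * (x * d * x⁻¹) * x := by group
        _ = (φ p)⁻¹ * (φ p * d * (φ p)⁻¹) * x := by rw [e]
        _ = _ := by group
    have := mul_mem (show φ p ∈ Hs from ⟨p, rfl⟩) (hCd hm)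
    rwa [mul_inv_cancel_left] at this
  obtain ⟨P, hP⟩ := hT'p.exists_le_sylow
  have hPT : (P : Subgroup G) = T' := by
    by_contra hne
    have hlt : T'.subgroupOf (P : Subgroup G) < ⊤ := lt_top_iff_ne_top.2 fun h =>
      hne (le_antisymm (subgroupOf_eq_top.1 h) hP)
    haveI : Group.IsNilpotent (P : Subgroup G) := P.2.isNilpotent
    obtain ⟨x, hx, hxT⟩ := SetLike.exists_of_lt (Group.normalizerCondition_of_isNilpotent _ hlt)
    have hxN : (x : G) ∈ normalizer (T' : Set G) := by
      rw [mem_normalizer_iff]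
      intro t
      constructor
      · intro ht
        exact mem_subgroupOf.1 ((mem_normalizer_iff.1 hx ⟨t, hP ht⟩).1 (mem_subgroupOf.2 ht))
      · intro ht
        have htP : t ∈ (P : Subgroup G) := by
          have := mul_mem (mul_mem (inv_mem x.2) (hP ht)) x.2
          simpa [mul_assoc] using this
        exact mem_subgroupOf.1 ((mem_normalizer_iff.1 hx ⟨t, htP⟩).2 (mem_subgroupOf.2 ht))
    obtain ⟨x', hx'⟩ := hNT hxN
    have hsup : IsPGroup 2 (((P : Subgroup G).comap φ : Subgroup P8)) :=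
      P.2.comap_of_injective φ hinj
    have := T.3 hsup (fun t ht => hP ⟨t, ht, rfl⟩)
    exact hxT (mem_subgroupOf.2 ⟨x', this ▸ (show φ x' ∈ (P : Subgroup G) from hx' ▸ x.2), hx'⟩)
  -- transfer
  set Q := ((T : Subgroup P8) ⊓ alternatingGroup (Fin 8)).map φ with hQ
  have hQP : Q ≤ (P : Subgroup G) := hPT ▸ map_mono inf_le_left
  have hQi : Q.relIndex (P : Subgroup G) = 2 := by
    rw [hPT, hQ, hT', relIndex_map_map_of_injective _ _ hinj, inf_relIndex_left]
    refine relIndex_eq_two_iff.2 ⟨swap 0 1, hsT, fun b _ => ?_⟩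
    rw [Equiv.Perm.mem_alternatingGroup, Equiv.Perm.mem_alternatingGroup, map_mul,
      Equiv.Perm.sign_swap (by decide)]
    rcases Int.units_eq_one_or (Equiv.Perm.sign b) with h | h <;> rw [h] <;> decide
  obtain ⟨G0, hG0n, hG0i, hdG0⟩ := CfsgLib.Fusion.thompson_transfer P hQP hQi
    (u := d) (by rw [pow_two]; exact hd2) (fun g hg => by
      obtain ⟨h, ⟨-, hA⟩, he'⟩ := hg
      obtain ⟨p, hp⟩ := isConj_iff.1 (hclass h (he'.symm ▸ hcd.trans (isConj_iff.2 ⟨g, rfl⟩)))
      replace hA : h ∈ alternatingGroup (Fin 8) := hA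
      rw [Equiv.Perm.mem_alternatingGroup, ← hp, map_mul, map_mul, map_inv,
        Equiv.Perm.sign_swap (by decide)] at hA
      rcases Int.units_eq_one_or (Equiv.Perm.sign p) with e | e <;> rw [e] at hA <;> exact absurd hA (by decide))
  haveI := hG0n
  have hout : ∀ x, IsConj d x → x ∉ G0 := fun x hx hxG => hdG0 (by
    obtain ⟨g, rfl⟩ := isConj_iff.1 hx
    have := hG0n.conj_mem _ hxG g⁻¹
    simpa [mul_assoc] using this)
  have hcG0 : X.f cT ∉ G0 := hout _ hcd.symm
  have hsw5 : ∀ i j : Fin 5, i ≠ j → X.f ((1 : P3), swap i j) ∉ G0 := fun i j hij =>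
    hout _ (hcd.symm.trans (X.f.map_isConj (cT_conj_swap i j hij)))
  have hsw3 : ∀ i j : Fin 3, i ≠ j → X.f (swap i j, (1 : P5)) ∉ G0 := fun i j hij =>
    hout _ (X.f.map_isConj (first_conj_swap i j hij))
  have hsign3 : ∀ a : P3, X.f (a, (1 : P5)) ∈ G0 ↔ Equiv.Perm.sign a = 1 := by
    intro a
    induction a using Equiv.Perm.swap_induction_on with
    | one => simp [show ((1 : P3), (1 : P5)) = (1 : F) from rfl, one_mem]
    | swap_mul σ i j hij ih =>
      rw [show ((swap i j * σ : P3), (1 : P5)) = ((swap i j : P3), (1 : P5)) * (σ, 1) from Prod.ext rfl (mul_one _).symm,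
        map_mul, mul_mem_iff_of_index_two hG0i, map_mul, Equiv.Perm.sign_swap hij, ih]
      rcases Int.units_eq_one_or (Equiv.Perm.sign σ) with e | e <;> simp [e, hsw3 i j hij]
  have hsign5 : ∀ b : P5, X.f ((1 : P3), b) ∈ G0 ↔ Equiv.Perm.sign b = 1 := by
    intro b
    induction b using Equiv.Perm.swap_induction_on with
    | one => simp [show ((1 : P3), (1 : P5)) = (1 : F) from rfl, one_mem]
    | swap_mul σ i j hij ih =>
      rw [show ((1 : P3), (swap i j * σ : P5)) = ((1 : P3), (swap i j : P5)) * (1, σ) from Prod.ext (mul_one _).symm rfl,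
        map_mul, mul_mem_iff_of_index_two hG0i, map_mul, Equiv.Perm.sign_swap hij, ih]
      rcases Int.units_eq_one_or (Equiv.Perm.sign σ) with e | e <;> simp [e, hsw5 i j hij]
  have hsign : ∀ q : F, X.f q ∈ G0 ↔ Equiv.Perm.sign q.1 * Equiv.Perm.sign q.2 = 1 := by
    intro q
    rw [show q = (q.1, (1 : P5)) * ((1 : P3), q.2) from Prod.ext (mul_one _).symm (one_mul _).symm, map_mul,
      mul_mem_iff_of_index_two hG0i, hsign3, hsign5]
    rcases Int.units_eq_one_or (Equiv.Perm.sign q.1) with e | e <;>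
      rcases Int.units_eq_one_or (Equiv.Perm.sign q.2) with e' | e' <;> simp [e, e']
  -- coordinates in the subgroup of index two
  have hmm : ∀ (K : Subgroup G0) (y : G0), (y : G) ∈ K.map G0.subtype ↔ y ∈ K := fun K y =>
    mem_map_iff_mem (subtype_injective G0)
  let f0 : AltEightLocal.E →* G0 :=
    (X.f.comp AltEightLocal.par.ker.subtype).codRestrict G0 fun q => (hsign q.1).2 (par_facts.1 q)
  have hf0 : Function.Injective f0 := fun a b h => Subtype.ext (X.f_inj (congrArg Subtype.val h))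
  have hzE : (f0 AltEightLocal.eZ : G) = X.f zZ := by
    show X.f AltEightLocal.eZ.1 = _; rw [par_facts.2.1]
  have hwE : (f0 AltEightLocal.eW : G) = X.f zW := by
    show X.f AltEightLocal.eW.1 = _; rw [par_facts.2.2]
  have hf0r : f0.range = normalizer ((zpowers (f0 AltEightLocal.eZ) : Subgroup G0) : Set G0) := by
    have hmap : (zpowers (f0 AltEightLocal.eZ)).map G0.subtype = zpowers (X.f zZ) := by
      rw [MonoidHom.map_zpowers, coe_subtype, hzE]
    ext x
    constructor
    · rintro ⟨q, rfl⟩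
      have hn : X.f q.1 ∈ normalizer ((zpowers (X.f zZ) : Subgroup G) : Set G) := X.f_range ▸ ⟨q.1, rfl⟩
      rw [mem_normalizer_iff]
      intro y
      have := mem_normalizer_iff.1 hn (y : G)
      rw [← hmap, hmm,
        show X.f q.1 * (y : G) * (X.f q.1)⁻¹ = ((f0 q * y * (f0 q)⁻¹ : G0) : G) from rfl, hmm] at this
      exact this
    · intro hx
      have hn : (x : G) ∈ normalizer ((zpowers (X.f zZ) : Subgroup G) : Set G) := by
        rw [← hmap]
        exact le_normalizer_map G0.subtype ⟨x, hx, rfl⟩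
      rw [← X.f_range] at hn
      obtain ⟨q, hq⟩ := hn
      have hk : q ∈ AltEightLocal.par.ker := MonoidHom.mem_ker.2 ((hsign q).1 (hq ▸ x.2))
      exact ⟨⟨q, hk⟩, Subtype.ext hq⟩
  set D0 := AltEightLocal.eD.map f0 with hD0
  have hD0X : D0.map G0.subtype = X.D := by
    refine le_antisymm ?_ ?_
    · rintro _ ⟨_, ⟨e, he1, rfl⟩, rfl⟩
      obtain ⟨i, j, rfl⟩ := AltEightLocal.inD_spec e he1
      rw [map_mul, map_pow, map_pow, map_mul, map_pow, map_pow, coe_subtype, hzE, hwE]
      exact mul_mem (pow_mem X.z_mem _) (pow_mem X.w_mem _)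
    · rintro _ ⟨q, hq, rfl⟩
      obtain ⟨e, he1, rfl⟩ := inD_listD q hq
      exact ⟨_, ⟨e, he1, rfl⟩, rfl⟩
  have hNeq : ∀ x : G0, x ∈ normalizer (D0 : Set G0) ↔ (x : G) ∈ normalizer (X.D : Set G) := by
    intro x
    constructor
    · intro hx
      rw [← hD0X]
      exact le_normalizer_map G0.subtype ⟨x, hx, rfl⟩
    · intro hx
      rw [mem_normalizer_iff]
      intro y
      have := mem_normalizer_iff.1 hx (y : G)
      rw [← hD0X, hmm,
        show (x : G) * (y : G) * (x : G)⁻¹ = ((x * y * x⁻¹ : G0) : G) from rfl, hmm] at this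
      exact this
  have hhalf : ∀ K : Subgroup G, X.f cT ∈ K → 2 * Nat.card (G0.subgroupOf K) = Nat.card K := by
    intro K hK
    rw [← (G0.subgroupOf K).card_mul_index, mul_comm (Nat.card _)]
    congr 1
    show 2 = G0.relIndex K
    refine (relIndex_eq_two_iff.2 ⟨X.f cT, hK, fun b _ => ?_⟩).symm
    rw [mul_mem_iff_of_index_two hG0i, iff_false_right hcG0]
    by_cases hb : b ∈ G0 <;> simp [Xor, hb]
  have hND0 : Nat.card (normalizer (D0 : Set G0)) = 72 := by
    have h := hhalf _ (X.mem_ND normD_gens.2.2)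
    rw [H.card_ND] at h
    have e : Nat.card (G0.subgroupOf (normalizer (X.D : Set G))) = Nat.card (normalizer (D0 : Set G0)) :=
      Nat.card_congr ⟨fun x => ⟨⟨x.1.1, x.2⟩, (hNeq _).2 x.1.2⟩, fun x => ⟨⟨x.1.1, (hNeq _).1 x.2⟩, x.1.2⟩,
        fun _ => rfl, fun _ => rfl⟩
    omega
  obtain ⟨F0, hF0⟩ := AltEightLocal.exists_frame f0 hf0 hf0r (by rw [← hD0]; exact hND0)
  have hFD : F0.D = D0 := by rw [AltEightLocal.Frame.D, hF0]
  obtain ⟨hy1, hy2, hyl, -, -⟩ := mixed_coords
  set y : G0 := f0 (AltEightLocal.eZ * AltEightLocal.eW) with hy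
  have hyG : (y : G) = X.f (zZ * zW) := by
    rw [hy, map_mul f0, Subgroup.coe_mul, hzE, hwE, map_mul]
  obtain ⟨hyc, hyN⟩ := H.mixed _ hyl hy1 hy2
  have hH : AltEightLocal.Hyp F0 := by
    refine F0.hyp_of_data (y := y) ?_ ?_ ?_ ?_ ?_ ?_ ?_ ?_
    · refine le_antisymm (fun x hx => ?_) fun x hx => mem_centralizer_iff.2 fun z hz => F0.D_comm hz hx
      rw [hFD] at hx ⊢
      have hxc : ∀ d ∈ X.D, (x : G) * d = d * x := by
        intro d hd
        rw [← hD0X] at hd
        obtain ⟨e, he1, rfl⟩ := hd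
        exact (congrArg Subtype.val (mem_centralizer_iff.1 hx e he1)).symm
      rcases X.cent_D_mem hxc with h | ⟨dd, hdd, h⟩
      · rw [← hD0X] at h
        obtain ⟨e, he1, hex⟩ := h
        rwa [← Subtype.ext hex]
      · exfalso
        rw [← hD0X] at hdd
        obtain ⟨e, -, rfl⟩ := hdd
        refine hcG0 ?_
        have := mul_mem (inv_mem e.2) x.2
        rwa [h, coe_subtype, inv_mul_cancel_left] at this
    · rw [hFD]
      intro h3
      refine H.index_D ?_
      rw [← hD0X, index_map, G0.ker_subtype, sup_bot_eq, G0.range_subtype]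
      exact dvd_mul_of_dvd_left h3 _
    · rw [hFD]; exact hND0
    · rw [hFD]; exact ⟨_, mul_mem (AltEightLocal.inD_one.2.1 : _ ∈ AltEightLocal.eD) AltEightLocal.inD_one.2.2, rfl⟩
    · intro h
      have := congrArg Subtype.val h
      rw [hyG, Subgroup.coe_one, ← map_one X.f] at this
      exact hy1 (by rw [X.f_inj this]; rfl)
    · intro h
      rw [hF0] at h
      obtain ⟨n, hn⟩ := mem_zpowers_iff.1 h
      have h' := congrArg Subtype.val hn
      rw [SubgroupClass.coe_zpow, hzE, hyG, ← map_zpow] at h'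
      refine hy2 ?_
      rw [← X.f_inj h', Prod.pow_snd]
      exact one_zpow n
    · have h := hhalf _ (show X.f cT ∈ centralizer ({X.f (zZ * zW)} : Set G) from
        mem_centralizer_singleton_iff.2 (X.c_comm_D (X.mem_D hyl)))
      rw [hyc] at h
      have e : Nat.card (G0.subgroupOf (centralizer ({X.f (zZ * zW)} : Set G))) =
          Nat.card (centralizer ({y} : Set G0)) :=
        Nat.card_congr ⟨fun x => ⟨⟨x.1.1, x.2⟩, mem_centralizer_singleton_iff.2 (Subtype.ext (by
            show x.1.1 * (y : G) = (y : G) * x.1.1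
            rw [hyG]; exact mem_centralizer_singleton_iff.1 x.1.2))⟩,
          fun x => ⟨⟨x.1.1, mem_centralizer_singleton_iff.2 (by
            rw [← hyG]; exact congrArg Subtype.val (mem_centralizer_singleton_iff.1 x.2))⟩, x.1.2⟩,
          fun _ => rfl, fun _ => rfl⟩
      omega
    · intro x hx
      rw [hFD, hNeq]
      refine hyN (mem_centralizer_singleton_iff.2 ?_)
      rw [← hyG]
      exact congrArg Subtype.val (mem_centralizer_singleton_iff.1 hx)
  obtain ⟨eA⟩ := AltEightLocal.nonempty_mulEquiv F0 hH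
  have hG : Nat.card G = Nat.card P8 := by
    rw [← G0.card_mul_index, hG0i, Nat.card_congr eA.toEquiv, nat_card_alternatingGroup, Nat.card_perm, Nat.card_fin]
    norm_num [Nat.factorial]
  exact ⟨(MulEquiv.ofBijective φ ((Nat.bijective_iff_injective_and_card φ).2 ⟨hinj, hG.symm⟩)).symm⟩

end CfsgLib.Spor.SymEightLocal
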