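import Cfsg.Agent.Lib.Spor.SymEightLocal.ExcMain
import Cfsg.Agent.Lib.Spor.SymEightLocal.SymMain

/-!
# The local hypotheses from the data
-/

set_option autoImplicit false
set_option linter.style.haveILetI false
set_option linter.unusedSectionVars false
set_option synthInstance.maxSize 4000
set_option synthInstance.maxHeartbeats 80000

namespace CfsgLib.Spor.SymEightLocal

open Subgroup

attribute [local instance 5000] List.decidableBAll List.decidableBEx

theorem mixed_conj : ∀ i j k l : Fin 3, (i : ℕ) ≠ 0 → (j : ℕ) ≠ 0 → (k : ℕ) ≠ 0 → (l : ℕ) ≠ 0 →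
    ∃ s ∈ [1, sA], s * (zZ ^ (i : ℕ) * zW ^ (j : ℕ)) * s⁻¹ = zZ ^ (k : ℕ) * zW ^ (l : ℕ) ∨
      s * (zZ ^ (i : ℕ) * zW ^ (j : ℕ)) * s⁻¹ = (zZ ^ (k : ℕ) * zW ^ (l : ℕ))⁻¹ := by decide +kernel

theorem coord_zero : ∀ i j : Fin 3, ((zZ ^ (i : ℕ) * zW ^ (j : ℕ)).1 = 1 ↔ (i : ℕ) = 0) ∧
    ((zZ ^ (i : ℕ) * zW ^ (j : ℕ)).2 = 1 ↔ (j : ℕ) = 0) := by decide +kernel

theorem model_squares : ∀ a b q : DihedralGroup 4 × Multiplicative (ZMod 2),
    a * b * a⁻¹ * b⁻¹ ≠ 1 → q * q = 1 ∨ q * q = a * b * a⁻¹ * b⁻¹ := by decide +kernel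

theorem normD_one : normD 1 = true := by decide +kernel

variable {G : Type*} [Group G] [Finite G]

/-- The mixed elements have small centralizers. -/
theorem Frame.mixed_of_data (X : Frame G) {y : G} (hyD : y ∈ X.D) (hyz : y ∉ zpowers (X.f zZ))
    (hyc : Nat.card (centralizer ({y} : Set G)) = 36)
    (hyn : centralizer ({y} : Set G) ≤ normalizer (X.D : Set G)) :
    ∀ q ∈ listD, q.1 ≠ 1 → q.2 ≠ 1 → Nat.card (centralizer ({X.f q} : Set G)) = 36 ∧
      centralizer ({X.f q} : Set G) ≤ normalizer (X.D : Set G) := by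
  obtain ⟨q0, hq0, rfl⟩ := hyD
  obtain ⟨i, j, rfl⟩ := listD_spec q0 hq0
  have hj : (j : ℕ) ≠ 0 := fun e => hyz (by
    rw [e, pow_zero, mul_one, map_pow]; exact pow_mem (mem_zpowers _) _)
  have hi : (i : ℕ) ≠ 0 := fun e => by
    rw [e, pow_zero, one_mul, map_pow] at hyc
    have hle : ((centralizer ({zZ} : Set F)).map X.g) ≤ centralizer ({X.f zW ^ (j : ℕ)} : Set G) := by
      rintro _ ⟨q, hq, rfl⟩
      rw [mem_centralizer_singleton_iff]
      have hc : Commute (X.g q) (X.f zW) := by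
        show _ = _
        rw [← X.g_vals.1, ← map_mul, ← map_mul, mem_centralizer_singleton_iff.1 hq]
      exact (hc.pow_right _).eq
    have h := card_le_of_le hle
    rw [card_map_of_injective X.g_inj, hyc] at h
    have hcard : Nat.card (centralizer ({zZ} : Set F)) = 360 := by
      rw [← card_cent_z, ← Nat.card_eq_fintype_card]
      exact Nat.card_congr (Equiv.subtypeEquivRight fun q => mem_centralizer_singleton_iff)
    omega
  intro q hq h1 h2
  obtain ⟨k, l, rfl⟩ := listD_spec q hq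
  obtain ⟨s, hs, e⟩ := mixed_conj i j k l hi hj (fun h => h1 ((coord_zero k l).1.2 h))
    (fun h => h2 ((coord_zero k l).2.2 h))
  have hsN : X.f s ∈ normalizer (X.D : Set G) := X.mem_ND (by
    simp only [List.mem_cons, List.not_mem_nil, or_false] at hs
    rcases hs with rfl | rfl
    · exact normD_one
    · exact normD_gens.1)
  have key : centralizer ({X.f (zZ ^ (k : ℕ) * zW ^ (l : ℕ))} : Set G) =
      (centralizer ({X.f (zZ ^ (i : ℕ) * zW ^ (j : ℕ))} : Set G)).map (MulAut.conj (X.f s)).toMonoidHom := by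
    rcases e with e | e
    · rw [← e, map_mul, map_mul, map_inv, AltEightLocal.centralizer_conj_map]
    · rw [← inv_inv (zZ ^ (k : ℕ) * zW ^ (l : ℕ)), ← e, map_inv, AltEightLocal.centralizer_inv_singleton,
        map_mul, map_mul, map_inv, AltEightLocal.centralizer_conj_map]
  rw [key]
  refine ⟨(card_map_of_injective (MulAut.conj _).injective).trans hyc, ?_⟩
  rintro _ ⟨c, hc, rfl⟩
  exact mul_mem (mul_mem hsN (hyn hc)) (inv_mem hsN)

/-- The squares in the normalizer of the subgroup of order nine. -/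
theorem squares_of_data {D : Subgroup G} [(D.subgroupOf (normalizer (D : Set G))).Normal]
    (eN : normalizer (D : Set G) ⧸ D.subgroupOf (normalizer (D : Set G)) ≃*
      DihedralGroup 4 × Multiplicative (ZMod 2)) :
    ∀ a ∈ normalizer (D : Set G), ∀ b ∈ normalizer (D : Set G), ∀ q ∈ normalizer (D : Set G),
      a * b * a⁻¹ * b⁻¹ ∉ D → q * q ∈ D ∨ q * q * (a * b * a⁻¹ * b⁻¹)⁻¹ ∈ D := by
  intro a ha b hb q hq hab
  let π : normalizer (D : Set G) →* DihedralGroup 4 × Multiplicative (ZMod 2) :=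
    eN.toMonoidHom.comp (QuotientGroup.mk' (D.subgroupOf (normalizer (D : Set G))))
  have hker : ∀ x : normalizer (D : Set G), π x = 1 ↔ (x : G) ∈ D := fun x => by
    rw [MonoidHom.comp_apply, MulEquiv.coe_toMonoidHom, eN.map_eq_one_iff]
    exact (QuotientGroup.eq_one_iff x).trans mem_subgroupOf
  set A : normalizer (D : Set G) := ⟨a, ha⟩
  set B : normalizer (D : Set G) := ⟨b, hb⟩
  set Q : normalizer (D : Set G) := ⟨q, hq⟩
  have hne : π A * π B * (π A)⁻¹ * (π B)⁻¹ ≠ 1 := fun h => hab ((hker (A * B * A⁻¹ * B⁻¹)).1 (by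
    rw [map_mul, map_mul, map_mul, map_inv, map_inv, h]))
  rcases model_squares (π A) (π B) (π Q) hne with h | h
  · exact Or.inl ((hker (Q * Q)).1 (by rw [map_mul, h]))
  · refine Or.inr ((hker (Q * Q * (A * B * A⁻¹ * B⁻¹)⁻¹)).1 ?_)
    rw [map_mul, map_mul, map_inv, map_mul, map_mul, map_mul, map_inv, map_inv, h, mul_inv_cancel]

end CfsgLib.Spor.SymEightLocal
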