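import Cfsg.Agent.Lib.Spor.SymEightLocal.CentS
import Cfsg.Agent.Lib.Coprime.Component

/-!
# The exceptional configuration
-/

set_option autoImplicit false
set_option linter.style.haveILetI false
set_option linter.unusedSectionVars false
set_option synthInstance.maxSize 4000
set_option synthInstance.maxHeartbeats 80000

namespace CfsgLib.Spor.SymEightLocal

open Equiv Subgroup
open scoped commutatorElement

attribute [local instance 5000] List.decidableBAll List.decidableBEx

theorem no_root : ∀ a : P5, a * a = 1 → Perm.sign a = -1 →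
    (swap 0 1 * a) * (swap 0 1 * a) * ((swap 0 1 * a) * (swap 0 1 * a)) = 1 →
    (swap 0 1 * a) * (swap 0 1 * a) = 1 := by decide +kernel

theorem dihedral_pow {K : Type*} [Group K] {c u : K} (hc : c * c = 1) (hu : u * u = 1) (m : ℕ) :
    c * (c * u) ^ (2 * m + 1) = ((c * u) ^ m)⁻¹ * u * (c * u) ^ m ∧
    c * (c * u) ^ (2 * m) = ((c * u) ^ m)⁻¹ * c * (c * u) ^ m := by
  have hci : c⁻¹ = c := inv_eq_of_mul_eq_one_right hc
  have hui : u⁻¹ = u := inv_eq_of_mul_eq_one_right hu
  have h : c * (c * u) ^ m = ((c * u) ^ m)⁻¹ * c := by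
    have h1 : c * (c * u) * c⁻¹ = (c * u)⁻¹ := by
      rw [mul_inv_rev, hui, hci, ← mul_assoc c c u, hc, one_mul]
    have h2 := conj_pow (a := c) (b := c * u) (i := m)
    rw [h1, inv_pow] at h2
    rw [h2, inv_mul_cancel_right]
  constructor
  · rw [show 2 * m + 1 = m + (1 + m) by omega, pow_add, pow_add, pow_one, ← mul_assoc, ← mul_assoc, h,
      mul_assoc ((c * u) ^ m)⁻¹ c (c * u), ← mul_assoc c c u, hc, one_mul]
  · rw [two_mul, pow_add, ← mul_assoc, h]

variable {G : Type*} [Group G] [Finite G] {X : Frame G} (H : Hyp X) (he : X.eps = true)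
include H he

/-- The centralizer of an involution of the extension of the class of `c` or of `s` lies in the extension. -/
theorem Hyp.cent_le_ext {x : G} (hx : x ∈ H.ext he) (h2 : x * x = 1)
    (h : IsConj (X.f cT) x ∨ IsConj (X.f sA) x) : centralizer ({x} : Set G) ≤ H.ext he := by
  have key : ∀ {v n : G}, n ∈ H.ext he → centralizer ({v} : Set G) ≤ H.ext he →
      centralizer ({n * v * n⁻¹} : Set G) ≤ H.ext he := by
    intro v n hn hv
    rw [AltEightLocal.centralizer_conj_map]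
    rintro _ ⟨a, ha, rfl⟩
    exact mul_mem (mul_mem hn (hv ha)) (inv_mem hn)
  have hs : centralizer ({X.f sA} : Set G) ≤ H.ext he := (H.cent_s_le he).trans (H.range_le_ext he)
  obtain ⟨q, rfl⟩ := H.mem_range_of_conj he hx h2 h
  rcases h with h | h
  · obtain ⟨-, n, hn, e⟩ := H.conj_c_cases he q h
    exact e ▸ key (H.range_le_ext he hn) (H.cent_c_le_ext he)
  · rcases H.conj_s_cases he q h with ⟨-, n, hn, e⟩ | ⟨-, n, hn, e⟩
    · exact e ▸ key (H.range_le_ext he hn) hs
    · refine e ▸ key (H.range_le_ext he hn) ?_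
      rw [← X.g_sA he, X.g_apply]
      exact key (H.gamma_mem he) hs

/-- The extension is the whole group. -/
theorem Hyp.ext_eq_top : H.ext he = ⊤ := by
  refine eq_top_iff.2 fun g _ => ?_
  set c := X.f cT with hc
  set u := g * X.f sA * g⁻¹ with hu
  have hcH : c ∈ H.ext he := H.range_le_ext he (H.f_mem he cT)
  have hsu : IsConj (X.f sA) u := isConj_iff.2 ⟨g, rfl⟩
  have hu2 : u * u = 1 := by rw [hu, conj_mul, sq_sA X, mul_one, mul_inv_cancel]
  have hc2 : c * c = 1 := X.c_sq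
  have hncu : ¬ IsConj c u := fun h => H.not_conj_c_a he (h.trans hsu.symm)
  suffices huH : u ∈ H.ext he by
    -- conjugate back to the first involution
    obtain ⟨q, hq⟩ := H.mem_range_of_conj he huH hu2 (Or.inr hsu)
    have hfin : ∀ {v n : G}, n ∈ H.ext he → n * v * n⁻¹ = u → (∃ m ∈ H.ext he, m * X.f sA * m⁻¹ = v) →
        g ∈ H.ext he := by
      rintro v n hn rfl' ⟨m, hm, rfl⟩
      have hk : (n * m)⁻¹ * g ∈ centralizer ({X.f sA} : Set G) := by
        rw [mem_centralizer_singleton_iff]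
        calc (n * m)⁻¹ * g * X.f sA = (n * m)⁻¹ * (g * X.f sA * g⁻¹) * g := by group
          _ = (n * m)⁻¹ * (n * (m * X.f sA * m⁻¹) * n⁻¹) * g := by rw [← hu, rfl']
          _ = _ := by group
      have := mul_mem (mul_mem hn hm) (H.range_le_ext he (H.cent_s_le he hk))
      rwa [mul_inv_cancel_left] at this
    rcases H.conj_s_cases he q (hq ▸ hsu) with ⟨-, n, hn, e⟩ | ⟨-, n, hn, e⟩
    · exact hfin (H.range_le_ext he hn) (e.trans hq) ⟨1, one_mem _, by group⟩
    · exact hfin (H.range_le_ext he hn) (e.trans hq) ⟨X.γ, H.gamma_mem he, by rw [← X.g_apply, X.g_sA he]⟩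
  set v := c * u with hv
  -- the product has even order
  have hord : v ^ orderOf v = 1 := pow_orderOf_eq_one v
  rcases Nat.even_or_odd' (orderOf v) with ⟨k, hk | hk⟩
  rotate_left
  · exfalso
    rw [hk] at hord
    have h := (dihedral_pow hc2 hu2 k).1
    rw [← hv, hord, mul_one] at h
    refine hncu (IsConj.symm (isConj_iff.2 ⟨(v ^ k)⁻¹, ?_⟩))
    rw [inv_inv, ← h]
  have hk0 : 0 < k := by have := orderOf_pos v; omega
  set x := v ^ k with hxdef
  have hx1 : x ≠ 1 := fun h => absurd (orderOf_dvd_of_pow_eq_one h) (Nat.not_dvd_of_pos_of_lt hk0 (by omega))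
  have hx2 : x * x = 1 := by rw [hxdef, ← pow_add, ← two_mul, ← hk, hord]
  have hxi : x⁻¹ = x := inv_eq_of_mul_eq_one_right hx2
  have hxc : x * c = c * x := by
    have h := conj_pow (a := c) (b := v) (i := k)
    rw [show c * v * c⁻¹ = v⁻¹ by
      rw [hv, mul_inv_rev, inv_eq_of_mul_eq_one_right hu2, inv_eq_of_mul_eq_one_right hc2, ← mul_assoc c c u,
        hc2, one_mul], inv_pow, ← hxdef, hxi] at h
    exact eq_mul_inv_iff_mul_eq.1 h
  have hxu : x * u = u * x := by
    have e : u = c * v := by rw [hv, ← mul_assoc, hc2, one_mul]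
    rw [e, ← mul_assoc, hxc, mul_assoc, mul_assoc c v x, (Commute.pow_self v k).eq]
  have hxH : x ∈ H.ext he := H.cent_c_le_ext he (mem_centralizer_singleton_iff.2 hxc)
  have hclose : ∀ y, y ∈ H.ext he → y * y = 1 → (IsConj c y ∨ IsConj (X.f sA) y) → y * u = u * y →
      u ∈ H.ext he := fun y hy h2 h hyu =>
    H.cent_le_ext he hy h2 h (mem_centralizer_singleton_iff.2 hyu.symm)
  by_cases hxcs : IsConj c x ∨ IsConj (X.f sA) x
  · exact hclose x hxH hx2 hxcs hxu
  exfalso
  -- the class of the product with `c`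
  have hcx : IsConj c (c * x) ∧ Even k ∨ IsConj (X.f sA) (c * x) ∧ ¬ Even k := by
    rcases Nat.even_or_odd' k with ⟨m, hm | hm⟩
    · refine Or.inl ⟨isConj_iff.2 ⟨(v ^ m)⁻¹, ?_⟩, hm ▸ even_two_mul m⟩
      rw [inv_inv, hxdef, hm, hv, (dihedral_pow hc2 hu2 m).2]
    · refine Or.inr ⟨hsu.trans (isConj_iff.2 ⟨(v ^ m)⁻¹, ?_⟩), hm ▸ Nat.not_even_two_mul_add_one m⟩
      rw [inv_inv, hxdef, hm, hv, (dihedral_pow hc2 hu2 m).1]
  have hcxH : c * x ∈ H.ext he := mul_mem hcH hxH
  have hcx2 : (c * x) * (c * x) = 1 := by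
    rw [mul_assoc, ← mul_assoc x, hxc, mul_assoc c x x, hx2, mul_one, hc2]
  obtain ⟨p, hp⟩ := H.mem_range_of_conj he hcxH hcx2 (hcx.imp And.left And.left)
  set qc : E2 := ⟨(swap 0 1, swap 0 1), mem_E2.2 rfl⟩
  have hqc : H.psi he qc = c := by
    rw [hc, ← X.B_tau, ← H.psi_B he (swap 0 1)]
    exact congrArg _ (Subtype.ext (Prod.ext (by simp [par5, qc]) rfl))
  have hq : H.psi he (qc * p) = x := by rw [map_mul, hqc, hp, ← mul_assoc, hc2, one_mul]
  obtain ⟨n, hn, ⟨-, e⟩ | ⟨hq1, hq2, hq3, -⟩ | ⟨-, e⟩ | ⟨-, e⟩⟩ := H.psi_invol he (qc * p)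
    (H.psi_inj he (by rw [map_mul, map_one, hq, hx2]))
    fun h => hx1 (by rw [← hq, h, map_one])
  · exact hxcs (Or.inl (isConj_iff.2 ⟨n, e.trans hq⟩))
  rotate_left
  · exact hxcs (Or.inr (isConj_iff.2 ⟨n, e.trans hq⟩))
  · exact hxcs (Or.inr ((H.conj_a_b he).trans (isConj_iff.2 ⟨n, e.trans hq⟩)))
  have hpodd : Perm.sign p.1.1 = -1 := by
    have h : Perm.sign (swap (0 : Fin 5) 1 * p.1.1) = 1 := hq3
    rw [map_mul, gen_parts.2.2.2.2.1] at h
    rcases Int.units_eq_one_or (Perm.sign p.1.1) with e | e <;> rw [e] at h ⊢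
    exact absurd h (by decide)
  rcases hcx with ⟨hcc, hek⟩ | ⟨hcs, -⟩
  rotate_left
  · rcases H.conj_s_cases he p (hp ▸ hcs) with ⟨h, -⟩ | ⟨h, -⟩
    · rw [mem_E2.1 p.2, h, map_one] at hpodd; exact absurd hpodd (by decide)
    · rw [h, map_one] at hpodd; exact absurd hpodd (by decide)
  -- a square root of the involution
  obtain ⟨m, rfl⟩ := hek
  obtain ⟨-, n', hn', hne⟩ := H.conj_c_cases he p (hp ▸ hcc)
  set e := v ^ m with he_def
  have hee : e * e = x := by rw [he_def, ← pow_add]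
  have hec : c * e = e⁻¹ * c := by
    have h := conj_pow (a := c) (b := v) (i := m)
    rw [show c * v * c⁻¹ = v⁻¹ by
      rw [hv, mul_inv_rev, inv_eq_of_mul_eq_one_right hu2, inv_eq_of_mul_eq_one_right hc2, ← mul_assoc c c u,
        hc2, one_mul], inv_pow, ← he_def] at h
    rw [h, inv_mul_cancel_right]
  have heH : e ∈ H.ext he := by
    have hcen : e * n' ∈ centralizer ({c} : Set G) := by
      rw [mem_centralizer_singleton_iff]
      calc e * n' * c = e * (n' * c * n'⁻¹) * n' := by group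
        _ = e * (c * x) * n' := by rw [hne, hp]
        _ = e * (c * e) * e * n' := by rw [← hee]; group
        _ = c * (e * n') := by rw [hec]; group
    have := mul_mem (H.cent_c_le_ext he hcen) (inv_mem (H.range_le_ext he hn'))
    rwa [mul_inv_cancel_right] at this
  -- its product with `c`
  set j := c * e with hj
  have hj2 : j * j = 1 := by
    nth_rewrite 1 [hec]
    rw [hj, mul_assoc, ← mul_assoc c c, hc2, one_mul, inv_mul_cancel]
  have hjconj : IsConj c j ∨ IsConj (X.f sA) j := by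
    rcases Nat.even_or_odd' m with ⟨i, hi | hi⟩
    · exact Or.inl (isConj_iff.2 ⟨(v ^ i)⁻¹, by rw [inv_inv, hj, he_def, hi, hv, (dihedral_pow hc2 hu2 i).2]⟩)
    · exact Or.inr (hsu.trans (isConj_iff.2
        ⟨(v ^ i)⁻¹, by rw [inv_inv, hj, he_def, hi, hv, (dihedral_pow hc2 hu2 i).1]⟩))
  obtain ⟨r, hr⟩ := H.mem_range_of_conj he (mul_mem hcH heH) hj2 hjconj
  have hsq : qc * r * (qc * r) = qc * p := H.psi_inj he (by
    rw [map_mul, map_mul, hqc, hr, ← mul_assoc c c e, hc2, one_mul, hee, hq])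
  have hr2 : r * r = 1 := H.psi_inj he (by rw [map_mul, map_one, hr, hj2])
  rcases hjconj with h | h
  · obtain ⟨hs, -⟩ := H.conj_c_cases he r (hr ▸ h)
    have ha : r.1.1 * r.1.1 = 1 := congrArg (fun w : E2 => w.1.1) hr2
    have hsq1 : swap 0 1 * r.1.1 * (swap 0 1 * r.1.1) = (qc * p).1.1 := congrArg (fun w : E2 => w.1.1) hsq
    have hx4 : (qc * p).1.1 * (qc * p).1.1 = 1 := congrArg (fun w : E2 => w.1.1)
      (H.psi_inj he (show H.psi he (qc * p * (qc * p)) = H.psi he 1 by rw [map_mul, hq, hx2, map_one]))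
    refine hq1 (hsq1.symm.trans (no_root _ ha hs ?_))
    rw [hsq1, hx4]
  · rcases H.conj_s_cases he r (hr ▸ h) with ⟨h1, -⟩ | ⟨h1, -⟩
    · refine hq2 ((congrArg (fun w : E2 => w.1.2) hsq).symm.trans ?_)
      show swap 0 1 * r.1.2 * (swap 0 1 * r.1.2) = 1
      rw [h1, mul_one, swap_mul_self]
    · refine hq1 ((congrArg (fun w : E2 => w.1.1) hsq).symm.trans ?_)
      show swap 0 1 * r.1.1 * (swap 0 1 * r.1.1) = 1
      rw [h1, mul_one, swap_mul_self]

omit he in
/-- In the twisted orientation the group is an extension of the product of two alternating groups of degree five. -/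
theorem exceptional (he : X.eps = true) :
    ∃ N : Subgroup G, N.Normal ∧ Cfsg.generalizedFittingSubgroup G = N ∧
      Nonempty (N ≃* alternatingGroup (Fin 5) × alternatingGroup (Fin 5)) ∧
      (∀ K : Subgroup G, K.Normal → K ≤ N → K = ⊥ ∨ K = N) ∧ N.index = 4 ∧ ∀ g : G, g ^ 2 ∈ N := by
  classical
  haveI := alternatingGroup.isSimpleGroup_five
  obtain ⟨g1, g2, hd, -, htau, hW, -⟩ := gen_parts
  obtain ⟨hsA, hsB⟩ := H.sA_eq he
  have htop := H.ext_eq_top he
  have hext : ∀ x : G, x ∈ (H.psi he).range ∨ X.γ * x ∈ (H.psi he).range := fun x =>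
    (htop.symm ▸ mem_top x : x ∈ H.ext he)
  let incl : alternatingGroup (Fin 5) × alternatingGroup (Fin 5) →* E2 :=
    ((alternatingGroup (Fin 5)).subtype.prodMap (alternatingGroup (Fin 5)).subtype).codRestrict E2 fun a =>
      mem_E2.2 ((Equiv.Perm.mem_alternatingGroup.1 a.1.2).trans (Equiv.Perm.mem_alternatingGroup.1 a.2.2).symm)
  have hinclinj : Function.Injective incl := fun a b h => by
    have h' := congrArg Subtype.val h
    exact Prod.ext (Subtype.ext (congrArg Prod.fst h')) (Subtype.ext (congrArg Prod.snd h'))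
  set ι := (H.psi he).comp incl with hι
  have hιinj : Function.Injective ι := (H.psi_inj he).comp hinclinj
  set N := ι.range with hN
  have hmem : ∀ q : E2, Perm.sign q.1.1 = 1 → H.psi he q ∈ N := fun q hq =>
    ⟨(⟨q.1.1, Equiv.Perm.mem_alternatingGroup.2 hq⟩,
      ⟨q.1.2, Equiv.Perm.mem_alternatingGroup.2 ((mem_E2.1 q.2).symm.trans hq)⟩), rfl⟩
  have hA : ∀ a : P5, Perm.sign a = 1 → X.A a ∈ N := fun a ha => H.psi_A he a ▸ hmem _ ha
  have hB : ∀ b : P5, Perm.sign b = 1 → X.B b ∈ N := fun b hb =>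
    H.psi_B he b ▸ hmem _ (by simp [par5, hb])
  have hιapp : ∀ a b : alternatingGroup (Fin 5), ι (a, b) = X.A (a : P5) * X.B (b : P5) := fun a b =>
    H.psi_even he (Equiv.Perm.mem_alternatingGroup.1 a.2) (Equiv.Perm.mem_alternatingGroup.1 b.2)
  -- normality
  have hrange : ∀ q : E2, ∀ n ∈ N, H.psi he q * n * (H.psi he q)⁻¹ ∈ N := by
    rintro q _ ⟨a, rfl⟩
    rw [hι, MonoidHom.comp_apply, ← map_inv, ← map_mul, ← map_mul]
    refine hmem _ ?_
    show Perm.sign (q.1.1 * (a.1 : P5) * q.1.1⁻¹) = 1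
    simp [Equiv.Perm.mem_alternatingGroup.1 a.1.2]
  have hγ : ∀ n ∈ N, X.γ * n * X.γ⁻¹ ∈ N := by
    rintro _ ⟨⟨a, b⟩, rfl⟩
    rw [hιapp, ← conj_mul, ← X.A_conj]
    refine mul_mem ?_ (hA _ (Equiv.Perm.mem_alternatingGroup.1 b.2))
    rw [X.A_conj, show X.γ * (X.γ * X.B (a : P5) * X.γ⁻¹) * X.γ⁻¹ = X.γ * X.γ * X.B (a : P5) * (X.γ * X.γ)⁻¹ by
      group]
    obtain ⟨q, hq⟩ := H.gamma_sq_mem he
    exact hq ▸ hrange q _ (hB _ (Equiv.Perm.mem_alternatingGroup.1 a.2))
  have hγi : ∀ n ∈ N, X.γ⁻¹ * n * X.γ ∈ N := by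
    intro n hn
    obtain ⟨q, hq⟩ := inv_mem (H.gamma_sq_mem he)
    have := hrange q _ (hγ n hn)
    rwa [hq, show (X.γ * X.γ)⁻¹ * (X.γ * n * X.γ⁻¹) * ((X.γ * X.γ)⁻¹)⁻¹ = X.γ⁻¹ * n * X.γ by group] at this
  haveI hNn : N.Normal := ⟨fun n hn g => by
    rcases hext g with ⟨q, rfl⟩ | ⟨q, hq⟩
    · exact hrange q n hn
    · have h := hγi _ (hrange q n hn)
      rwa [hq, show X.γ⁻¹ * (X.γ * g * n * (X.γ * g)⁻¹) * X.γ = g * n * g⁻¹ by group] at h⟩
  -- the centralizer
  have hcent : centralizer (N : Set G) = ⊥ := by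
    refine (eq_bot_iff_forall _).2 fun x hx => ?_
    have hxA : ∀ a, Perm.sign a = 1 → x * X.A a * x⁻¹ = X.A a := fun a ha => by
      rw [← mem_centralizer_iff.1 hx _ (hA a ha), mul_inv_cancel_right]
    have hxB : ∀ a, Perm.sign a = 1 → x * X.B a * x⁻¹ = X.B a := fun a ha => by
      rw [← mem_centralizer_iff.1 hx _ (hB a ha), mul_inv_cancel_right]
    rcases hext x with ⟨q, rfl⟩ | ⟨q, hq⟩
    · have hAinj : Function.Injective X.A := X.g_inj.comp fun a b h => congrArg Prod.snd h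
      have hBinj : Function.Injective X.B := X.f_inj.comp fun a b h => congrArg Prod.snd h
      have h1 : q.1.1 = 1 := cent_five _
        (mul_inv_eq_iff_eq_mul.1 (hAinj ((H.psi_conj_A he q g1).symm.trans (hxA _ g1))))
        (mul_inv_eq_iff_eq_mul.1 (hAinj ((H.psi_conj_A he q g2).symm.trans (hxA _ g2))))
      have h2 : q.1.2 = 1 := cent_five _
        (mul_inv_eq_iff_eq_mul.1 (hBinj ((H.psi_conj_B he q g1).symm.trans (hxB _ g1))))
        (mul_inv_eq_iff_eq_mul.1 (hBinj ((H.psi_conj_B he q g2).symm.trans (hxB _ g2))))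
      rw [show q = 1 from Subtype.ext (Prod.ext h1 h2), map_one]
    · exfalso
      have h := H.psi_conj_A he q g1
      rw [hq, show X.γ * x * X.A b234 * (X.γ * x)⁻¹ = X.γ * (x * X.A b234 * x⁻¹) * X.γ⁻¹ by group, hxA _ g1,
        X.A_z, X.link_z, show X.f zW = X.B b234 from congrArg X.f hW] at h
      exact five_facts.2.2.2.2.2.2.2.2.2.2.2.2 (H.A_ne_B he (by simp [g1]) g1 h.symm).2
  -- the two components
  have hfac : ∀ φ : alternatingGroup (Fin 5) →* G, Function.Injective φ → (∀ a, φ a ∈ N) →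
      (∀ n ∈ N, ∀ a, ∃ b, φ b = n * φ a * n⁻¹) → Cfsg.IsComponent φ.range := by
    intro φ hφ hle hnorm
    have hsub : (φ.range.subgroupOf N).Normal := ⟨fun k hk n => by
      obtain ⟨a, ha⟩ := mem_subgroupOf.1 hk
      obtain ⟨b, hb⟩ := hnorm n n.2 a
      exact mem_subgroupOf.2 ⟨b, by rw [hb, ha]; rfl⟩⟩
    have hle' : φ.range ≤ N := by rintro _ ⟨a, rfl⟩; exact hle a
    refine ⟨?_, ?_⟩
    · have h := hsub.isSubnormal.trans' hNn.isSubnormal
      rwa [map_subgroupOf_eq_of_le hle'] at h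
    · refine CfsgLib.Coprime.isQuasisimple_congr (MonoidHom.ofInjective hφ) ?_
      haveI : Group.IsPerfect (alternatingGroup (Fin 5)) := by
        rw [Group.isPerfect_def]
        refine ((inferInstance : (commutator (alternatingGroup (Fin 5))).Normal).eq_bot_or_eq_top).resolve_left
          fun h => ?_
        set a : alternatingGroup (Fin 5) := ⟨b234, Equiv.Perm.mem_alternatingGroup.2 g1⟩
        set b : alternatingGroup (Fin 5) := ⟨rho.2 * b234 * rho.2, Equiv.Perm.mem_alternatingGroup.2 g2⟩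
        have hab : ⁅a, b⁆ ∈ commutator (alternatingGroup (Fin 5)) :=
          commutator_mem_commutator (mem_top a) (mem_top b)
        rw [h, mem_bot, commutatorElement_eq_one_iff_mul_comm] at hab
        exact (show b234 * (rho.2 * b234 * rho.2) ≠ rho.2 * b234 * rho.2 * b234 by decide +kernel)
          (congrArg Subtype.val hab)
      exact CfsgLib.Coprime.isQuasisimple_of_normal_le_center fun K hK =>
        hK.eq_bot_or_eq_top.symm.imp id fun h => le_of_eq_of_le h bot_le
  have hcompA : Cfsg.IsComponent (X.A.comp (alternatingGroup (Fin 5)).subtype).range :=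
    hfac _ ((X.g_inj.comp fun a b h => congrArg Prod.snd h).comp Subtype.val_injective)
      (fun a => hA _ (Equiv.Perm.mem_alternatingGroup.1 a.2)) (by
      rintro _ ⟨q, rfl⟩ a
      refine ⟨q.1 * a * q.1⁻¹, ?_⟩
      have h := H.psi_conj_A he (incl q) (Equiv.Perm.mem_alternatingGroup.1 a.2)
      exact h.symm)
  have hcompB : Cfsg.IsComponent (X.B.comp (alternatingGroup (Fin 5)).subtype).range :=
    hfac _ ((X.f_inj.comp fun a b h => congrArg Prod.snd h).comp Subtype.val_injective)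
      (fun a => hB _ (Equiv.Perm.mem_alternatingGroup.1 a.2)) (by
      rintro _ ⟨q, rfl⟩ a
      refine ⟨q.2 * a * q.2⁻¹, ?_⟩
      have h := H.psi_conj_B he (incl q) (Equiv.Perm.mem_alternatingGroup.1 a.2)
      exact h.symm)
  have hlayer : Cfsg.layer G = N := by
    refine le_antisymm (sSup_le fun L hL => ?_) ?_
    · by_cases hLA : L = (X.A.comp (alternatingGroup (Fin 5)).subtype).range
      · rw [hLA]; rintro _ ⟨a, rfl⟩; exact hA _ (Equiv.Perm.mem_alternatingGroup.1 a.2)
      by_cases hLB : L = (X.B.comp (alternatingGroup (Fin 5)).subtype).range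
      · rw [hLB]; rintro _ ⟨a, rfl⟩; exact hB _ (Equiv.Perm.mem_alternatingGroup.1 a.2)
      intro x hx
      have h : x ∈ centralizer (N : Set G) := by
        refine mem_centralizer_iff.2 ?_
        rintro _ ⟨⟨a, b⟩, rfl⟩
        rw [hιapp]
        have e1 := CfsgLib.Coprime.commutator_eq_bot_iff_forall.1
          (CfsgLib.Coprime.components_commute hcompA hL (Ne.symm hLA)) _ ⟨a, rfl⟩ x hx
        have e2 := CfsgLib.Coprime.commutator_eq_bot_iff_forall.1
          (CfsgLib.Coprime.components_commute hcompB hL (Ne.symm hLB)) _ ⟨b, rfl⟩ x hx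
        exact ((show Commute (X.A (a : P5)) x from e1).mul_left (show Commute (X.B (b : P5)) x from e2)).eq
      rw [hcent, mem_bot] at h
      rw [h]; exact one_mem _
    · rintro _ ⟨⟨a, b⟩, rfl⟩
      rw [hιapp]
      exact mul_mem (CfsgLib.Coprime.component_le_layer hcompA ⟨a, rfl⟩)
        (CfsgLib.Coprime.component_le_layer hcompB ⟨b, rfl⟩)
  have hFstar : Cfsg.generalizedFittingSubgroup G = N := by
    have hF : Cfsg.fittingSubgroup G = ⊥ :=
      le_bot_iff.1 (hcent ▸ hlayer ▸ CfsgLib.Coprime.fitting_le_centralizer_layer)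
    rw [Cfsg.generalizedFittingSubgroup, hF, sup_bot_eq, hlayer]
  -- the squares
  have hγ2 : X.γ * X.γ ∈ N := by
    have hD : X.D ≤ N := X.D_le (X.A_z ▸ hA _ g1)
      (show X.f zW ∈ N from (show X.f zW = X.B b234 from congrArg X.f hW).symm ▸ hB _ g1)
    have hcomm : X.γ * X.f sA * X.γ⁻¹ * (X.f sA)⁻¹ = X.f (sB * cT * sA) := by
      rw [← X.g_apply, X.g_sA he, inv_eq_of_mul_eq_one_right (sq_sA X), ← map_mul]
    have hcN : X.f (sB * cT * sA) ∈ N := by
      rw [map_mul, hsA, hsB]; exact mul_mem (hB _ hd) (hA _ hd)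
    have hnD : X.f (sB * cT * sA) ∉ X.D := by
      rintro ⟨q, hq, hqe⟩
      rw [X.f_inj hqe] at hq
      exact absurd (mixed_coords.2.2.2.1 _ hq) (by decide +kernel)
    rcases H.squares _ X.γ_mem_ND _ (X.mem_ND normD_gens.1) _ X.γ_mem_ND (by rw [hcomm]; exact hnD) with h | h
    · exact hD h
    · rw [hcomm] at h
      have := mul_mem (hD h) hcN
      rwa [inv_mul_cancel_right] at this
  have hsq : ∀ g : G, g ^ 2 ∈ N := by
    intro g
    rw [← QuotientGroup.eq_one_iff, QuotientGroup.mk_pow]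
    set cb := ((X.f cT : G) : G ⧸ N)
    set gb := ((X.γ : G) : G ⧸ N)
    have hcb : cb ^ 2 = 1 := by
      rw [← QuotientGroup.mk_pow, pow_two, X.c_sq, QuotientGroup.mk_one]
    have hgb : gb ^ 2 = 1 := by
      rw [← QuotientGroup.mk_pow, pow_two, QuotientGroup.eq_one_iff]; exact hγ2
    have hcomm : Commute gb cb := by
      show _ = _
      rw [← QuotientGroup.mk_mul, ← QuotientGroup.mk_mul, mul_inv_eq_iff_eq_mul.1 X.link_c]
    have hr : ∀ x ∈ (H.psi he).range, (x : G ⧸ N) = 1 ∨ (x : G ⧸ N) = cb := by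
      rintro _ ⟨q, rfl⟩
      rcases Int.units_eq_one_or (Perm.sign q.1.1) with h | h
      · exact Or.inl ((QuotientGroup.eq_one_iff _).2 (hmem q h))
      · refine Or.inr (QuotientGroup.eq.2 ?_)
        rw [← X.B_tau, ← H.psi_B he (swap 0 1), ← map_inv, ← map_mul]
        refine hmem _ ?_
        show Perm.sign (q.1.1⁻¹ * par5 (swap 0 1)) = 1
        rw [map_mul, map_inv, h, par5, if_neg (by rw [htau]; decide), htau]
        decide
    rcases hext g with hg | hg
    · rcases hr g hg with h | h <;> rw [h]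
      · exact one_pow 2
      · exact hcb
    · have e : (g : G ⧸ N) = gb⁻¹ * ((X.γ * g : G) : G ⧸ N) := by
        rw [QuotientGroup.mk_mul, inv_mul_cancel_left]
      rw [e]
      rcases hr _ hg with h | h <;> rw [h]
      · rw [mul_one, inv_pow, hgb, inv_one]
      · rw [hcomm.inv_left.mul_pow, inv_pow, hgb, hcb, inv_one, one_mul]
  -- the index
  have hcardN : Nat.card N = 3600 := by
    rw [← Nat.card_congr (MonoidHom.ofInjective hιinj).toEquiv, Nat.card_prod, nat_card_alternatingGroup,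
      Nat.card_fin]
    rfl
  have hcardR : Nat.card (H.psi he).range = 7200 := by
    rw [← Nat.card_congr (MonoidHom.ofInjective (H.psi_inj he)).toEquiv, card_E2]
  have hRi : (H.psi he).range.index = 2 := by
    refine index_eq_two_iff.2 ⟨X.γ, fun b => ?_⟩
    by_cases hb : b ∈ (H.psi he).range
    · exact Or.inr ⟨hb, fun h => H.gamma_notMem he (by simpa using mul_mem (inv_mem hb) h)⟩
    · refine Or.inl ⟨?_, hb⟩
      have h := H.gamma_conj_inv he ((hext b).resolve_left hb)
      rwa [show X.γ⁻¹ * (X.γ * b) * X.γ = b * X.γ by group] at h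
  have hindex : N.index = 4 := by
    have h1 := (H.psi he).range.card_mul_index
    have h2 := N.card_mul_index
    rw [hRi, hcardR] at h1
    rw [hcardN, ← h1] at h2
    omega
  refine ⟨N, hNn, hFstar, ⟨(MonoidHom.ofInjective hιinj).symm⟩, fun K hK hKN => ?_, hindex, hsq⟩
  -- minimality
  refine or_iff_not_imp_left.2 fun hK1 => le_antisymm hKN ?_
  obtain ⟨k, hk, hk1⟩ : ∃ k ∈ K, k ≠ 1 := by
    by_contra hc
    push Not at hc
    exact hK1 ((eq_bot_iff_forall _).2 hc)
  obtain ⟨⟨a, b⟩, rfl⟩ := hKN hk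
  have hAK : (∀ a : alternatingGroup (Fin 5), X.A (a : P5) ∈ K) ∨ (∀ a : alternatingGroup (Fin 5), X.B (a : P5) ∈ K) := by
    have hstep : ∀ (φ : alternatingGroup (Fin 5) →* G) (a : alternatingGroup (Fin 5)), a ≠ 1 →
        (∀ x, φ ((a * x * a⁻¹) * x⁻¹) ∈ K) → Function.Injective φ → ∀ x, φ x ∈ K := by
      intro φ a ha hk hφ
      haveI := hK
      rcases (inferInstance : (K.comap φ).Normal).eq_bot_or_eq_top with h | h
      · exfalso
        have hc : ∀ x, a * x * a⁻¹ = x := fun x => by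
          have := hk x
          rw [← mem_comap, h, mem_bot, mul_inv_eq_one] at this
          exact this
        refine ha (Subtype.ext (cent_five _ ?_ ?_))
        · exact congrArg Subtype.val (mul_inv_eq_iff_eq_mul.1 (hc ⟨b234, Equiv.Perm.mem_alternatingGroup.2 g1⟩))
        · exact congrArg Subtype.val
            (mul_inv_eq_iff_eq_mul.1 (hc ⟨rho.2 * b234 * rho.2, Equiv.Perm.mem_alternatingGroup.2 g2⟩))
      · exact fun x => (h ▸ mem_top x : x ∈ K.comap φ)
    haveI := hK
    have hc : ∀ y : G, ι (a, b) * y * (ι (a, b))⁻¹ * y⁻¹ ∈ K := fun y => by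
      rw [mul_assoc (ι (a, b)), mul_assoc (ι (a, b))]
      exact mul_mem hk (hK.conj_mem _ (inv_mem hk) y)
    by_cases ha : a = 1
    · right
      refine hstep (X.B.comp (alternatingGroup (Fin 5)).subtype) b
        (fun h => hk1 (by rw [ha, h, show ((1 : alternatingGroup (Fin 5)), (1 : alternatingGroup (Fin 5))) = 1 from rfl,
          map_one])) (fun x => ?_) ((X.f_inj.comp fun a b h => congrArg Prod.snd h).comp Subtype.val_injective)
      have h := hc (X.B (x : P5))
      rwa [hι, MonoidHom.comp_apply, H.psi_conj_B he (incl (a, b)) (Equiv.Perm.mem_alternatingGroup.1 x.2),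
        ← map_inv, ← map_mul] at h
    · left
      refine hstep (X.A.comp (alternatingGroup (Fin 5)).subtype) a ha (fun x => ?_)
        ((X.g_inj.comp fun a b h => congrArg Prod.snd h).comp Subtype.val_injective)
      have h := hc (X.A (x : P5))
      rwa [hι, MonoidHom.comp_apply, H.psi_conj_A he (incl (a, b)) (Equiv.Perm.mem_alternatingGroup.1 x.2),
        ← map_inv, ← map_mul] at h
  have hboth : ∀ a : alternatingGroup (Fin 5), X.A (a : P5) ∈ K ∧ X.B (a : P5) ∈ K := by
    intro a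
    rcases hAK with h | h
    · refine ⟨h a, ?_⟩
      have := hK.conj_mem _ (h a) X.γ⁻¹
      rwa [inv_inv, X.A_conj, show X.γ⁻¹ * (X.γ * X.B (a : P5) * X.γ⁻¹) * X.γ = X.B (a : P5) by group] at this
    · exact ⟨X.A_conj _ ▸ hK.conj_mem _ (h a) X.γ, h a⟩
  rintro _ ⟨⟨a, b⟩, rfl⟩
  rw [hιapp]
  exact mul_mem (hboth a).1 (hboth b).2

end CfsgLib.Spor.SymEightLocal
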