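import Cfsg.Agent.Lib.Spor.SymEightLocal.NoSix

/-!
# In the twisted orientation the two alternating factors commute
-/

set_option autoImplicit false
set_option linter.style.haveILetI false
set_option linter.unusedSectionVars false
set_option synthInstance.maxSize 4000
set_option synthInstance.maxHeartbeats 80000

namespace CfsgLib.Spor.SymEightLocal

open Equiv Subgroup

attribute [local instance 5000] List.decidableBAll List.decidableBEx

theorem cent_eight : ∀ q : F, q * cT = cT * q → q * sA = sA * q → q * (sB * cT) = sB * cT * q →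
    ∃ i j k : Fin 2, q = cT ^ (i : ℕ) * sA ^ (j : ℕ) * (sB * cT) ^ (k : ℕ) := by decide +kernel

theorem inverted_line : ∀ q ∈ listD, sA * q * sA = q⁻¹ → q = 1 ∨ q = zZ ∨ q = zZ⁻¹ := by decide +kernel

theorem second_gen : ∀ b : P5, Perm.sign b = 1 → ∃ i j k l m n : Fin 3, ((1, b) : F) =
    zW ^ (i : ℕ) * (rho * zW * rho) ^ (j : ℕ) * zW ^ (k : ℕ) * (rho * zW * rho) ^ (l : ℕ) * zW ^ (m : ℕ) *
      (rho * zW * rho) ^ (n : ℕ) := by decide +kernel

/-- the central involution as a word in elements centralizing the linked three-element -/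
theorem word_c : cT = zW * zW * (rho * cT) * zW * (rho * cT) * zW * (sB * cT) * (rho * cT) * zW *
    (rho * cT) * zW * (rho * cT) := by decide +kernel

theorem linked_facts : cT * (rho * zW * rho) * cT = (rho * zW * rho)⁻¹ ∧
    sB * cT * (rho * zW * rho) * (sB * cT) = (rho * zW * rho)⁻¹ ∧
    sA * (rho * zW * rho) = rho * zW * rho * sA ∧
    zZ * (rho * zW * rho) = rho * zW * rho * zZ ∧
    (rho * zW * rho) * (rho * zW * rho) ≠ 1 ∧
    rho * sA = sA * rho ∧ rho * (sB * cT) = sB * cT * rho ∧ rho * zZ = zZ * rho ∧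
    cT * cT = 1 ∧ sA * sA = 1 ∧ (sB * cT) * (sB * cT) = 1 := by decide +kernel

variable {G : Type*} [Group G] [Finite G] {X : Frame G}

/-- The centralizer of the elementary group of order eight generated by `c`, `s`, `s'`. -/
theorem Hyp.mem_eight (H : Hyp X) (he : X.eps = true) {x : G} (hc : x * X.f cT = X.f cT * x)
    (hs : x * X.f sA = X.f sA * x) (hs' : x * X.f (sB * cT) = X.f (sB * cT) * x) :
    ∃ i j k : Fin 2, x = X.f (cT ^ (i : ℕ) * sA ^ (j : ℕ) * (sB * cT) ^ (k : ℕ)) := by
  have hxN : x ∈ normalizer (X.D : Set G) := H.cent_c_le he (mem_centralizer_singleton_iff.2 hc)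
  obtain ⟨q, hq, hq'⟩ : x * X.f zZ * x⁻¹ ∈ X.D := (mem_normalizer_iff.1 hxN _).1 X.z_mem
  obtain ⟨-, -, -, -, -, -, -, -, -, hA, -⟩ := linked_facts
  have hinv : sA * q * sA = q⁻¹ := by
    refine X.f_inj ?_
    rw [map_inv, map_mul, map_mul, hq']
    calc X.f sA * (x * X.f zZ * x⁻¹) * X.f sA = (X.f sA * x) * X.f zZ * (x⁻¹ * X.f sA) := by group
      _ = (x * X.f sA) * X.f zZ * (X.f sA * x⁻¹) := by
        rw [← hs, (Commute.inv_left (hs : Commute x (X.f sA))).eq]
      _ = x * X.f (sA * zZ * sA) * x⁻¹ := by rw [map_mul, map_mul]; group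
      _ = _ := by
        rw [show sA * zZ * sA = zZ⁻¹ by decide +kernel, map_inv]
        group
  obtain ⟨p, rfl⟩ : x ∈ X.f.range := by
    rw [X.f_range, mem_normalizer_iff_map_conj_eq, MonoidHom.map_zpowers]
    show zpowers (x * X.f zZ * x⁻¹) = _
    rcases inverted_line q hq hinv with h | h | h
    · exfalso
      rw [h, map_one, eq_comm, conj_eq_one_iff] at hq'
      exact gen_facts.2.2.2.1 (X.f_inj (hq'.trans (map_one X.f).symm))
    · rw [← hq', h]
    · rw [← hq', h, map_inv, Subgroup.zpowers_inv]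
  obtain ⟨i, j, k, h⟩ := cent_eight p (X.f_inj (by rw [map_mul, map_mul, hc]))
    (X.f_inj (by rw [map_mul, map_mul, hs])) (X.f_inj (by rw [map_mul X.f p, map_mul X.f _ p, hs']))
  exact ⟨i, j, k, congrArg X.f h⟩

/-- The linked three-element commutes with the second factor. -/
theorem Hyp.linked_commute (H : Hyp X) (he : X.eps = true) :
    ∀ a : P5, Perm.sign a = 1 → Commute (X.f (1, a)) (X.g (rho * zW * rho)) := by
  obtain ⟨t1, t2, t3, t4, t5, r1, r2, r3, c2, a2, b2⟩ := linked_facts
  obtain ⟨hr2, -, -, hrc, -⟩ := rho_facts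
  set z1 := X.g (rho * zW * rho) with hz1
  set r := X.g rho with hr
  set r' := X.f rho with hr'
  have hrr : r * r = 1 := by rw [hr, ← map_mul, hr2, map_one]
  have hrr' : r' * r' = 1 := by rw [hr', ← map_mul, hr2, map_one]
  have hzr : r * X.f zZ * r = z1 := by rw [hr, ← X.g_vals.2.1, ← map_mul, ← map_mul]
  have hsr : Commute r (X.f sA) := by
    show _ = _
    rw [hr, ← X.g_sBc he, ← map_mul, ← map_mul, r2]
  have hs'r : Commute r (X.f (sB * cT)) := by
    show _ = _
    rw [hr, ← X.g_sA he, ← map_mul, ← map_mul, r1]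
  have hsr' : Commute r' (X.f sA) := by show _ = _; rw [hr', ← map_mul, ← map_mul, r1]
  have hs'r' : Commute r' (X.f (sB * cT)) := by show _ = _; rw [hr', ← map_mul, ← map_mul, r2]
  have hzr' : Commute r' (X.f zZ) := by show _ = _; rw [hr', ← map_mul, ← map_mul, r3]
  have hrc1 : r * X.f cT * r = X.f sA * X.f cT := by
    rw [hr, ← X.g_vals.2.2.1, ← X.g_sBc he, ← map_mul, ← map_mul, hrc, ← map_mul, mul_assoc, c2, mul_one]
  have hrc2 : r' * X.f cT * r' = X.f (sB * cT) * X.f cT := by
    rw [hr', ← map_mul, ← map_mul, hrc, ← map_mul, mul_assoc, c2, mul_one]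
  -- the commutator of the two linking elements
  set K := r' * r * r' * r with hK
  have hKs : Commute K (X.f sA) := ((hsr'.mul_left hsr).mul_left hsr').mul_left hsr
  have hKs' : Commute K (X.f (sB * cT)) := ((hs'r'.mul_left hs'r).mul_left hs'r').mul_left hs'r
  have hS2 : X.f sA * X.f sA = 1 := by rw [← map_mul, a2, map_one]
  have hS'2 : X.f (sB * cT) * X.f (sB * cT) = 1 := by rw [← map_mul, b2, map_one]
  have hKc : K * X.f cT = X.f cT * K := by
    have e1 : r * X.f cT = X.f sA * X.f cT * r := by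
      rw [← hrc1, mul_assoc, hrr, mul_one]
    have e2 : r' * X.f cT = X.f (sB * cT) * X.f cT * r' := by
      rw [← hrc2, mul_assoc, hrr', mul_one]
    calc K * X.f cT = r' * r * r' * (r * X.f cT) := by rw [hK]; group
      _ = r' * r * (r' * X.f sA) * X.f cT * r := by rw [e1]; group
      _ = r' * (r * X.f sA) * (r' * X.f cT) * r := by rw [hsr'.eq]; group
      _ = r' * X.f sA * (r * X.f (sB * cT)) * X.f cT * r' * r := by rw [hsr.eq, e2]; group
      _ = r' * X.f sA * X.f (sB * cT) * (r * X.f cT) * r' * r := by rw [hs'r.eq]; group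
      _ = (r' * X.f sA) * X.f (sB * cT) * X.f sA * X.f cT * r * r' * r := by rw [e1]; group
      _ = X.f sA * (r' * X.f (sB * cT)) * X.f sA * X.f cT * r * r' * r := by rw [hsr'.eq]; group
      _ = X.f sA * X.f (sB * cT) * (r' * X.f sA) * X.f cT * r * r' * r := by rw [hs'r'.eq]; group
      _ = X.f sA * X.f (sB * cT) * X.f sA * (r' * X.f cT) * r * r' * r := by rw [hsr'.eq]; group
      _ = X.f sA * (X.f (sB * cT) * X.f sA) * X.f (sB * cT) * X.f cT * (r' * r * r' * r) := by rw [e2]; group
      _ = (X.f sA * X.f sA) * (X.f (sB * cT) * X.f (sB * cT)) * X.f cT * K := by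
        rw [show X.f (sB * cT) * X.f sA = X.f sA * X.f (sB * cT) by
          rw [← map_mul, ← map_mul, pair_facts.2.2.1], hK]
        group
      _ = X.f cT * K := by rw [hS2, hS'2, one_mul, one_mul]
  -- it normalizes the linked subgroup of order three
  set N := normalizer ((zpowers z1 : Subgroup G) : Set G)
  have hNmem : ∀ x : G, (x * z1 * x⁻¹ = z1 ∨ x * z1 * x⁻¹ = z1⁻¹) → x ∈ N := fun x hx => by
    rw [mem_normalizer_iff_map_conj_eq, MonoidHom.map_zpowers]
    show zpowers (x * z1 * x⁻¹) = _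
    rcases hx with h | h <;> rw [h]
    rw [Subgroup.zpowers_inv]
  have hfix : X.f cT * z1 * X.f cT = z1⁻¹ := by
    rw [hz1, ← X.g_vals.2.2.1, ← map_mul, ← map_mul, t1, map_inv]
  have hcN : X.f cT ∈ N := hNmem _ (Or.inr (by rw [inv_eq_of_mul_eq_one_right X.c_sq, hfix]))
  have hsN : X.f sA ∈ N := hNmem _ (Or.inr (by
    rw [inv_eq_of_mul_eq_one_right hS2, hz1, ← X.g_sBc he, ← map_mul, ← map_mul, t2, map_inv]))
  have hs'fix : Commute (X.f (sB * cT)) z1 := by
    show _ = _
    rw [hz1, ← X.g_sA he, ← map_mul, ← map_mul, t3]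
  have hs'N : X.f (sB * cT) ∈ N := hNmem _ (Or.inl (by rw [hs'fix.eq, mul_inv_cancel_right]))
  have hKN : K ∈ N := by
    obtain ⟨i, j, k, e⟩ := H.mem_eight he hKc hKs.eq hKs'.eq
    rw [e, map_mul, map_mul, map_pow, map_pow, map_pow]
    exact mul_mem (mul_mem (pow_mem hcN _) (pow_mem hsN _)) (pow_mem hs'N _)
  have h3 : z1 ^ 3 = 1 := by
    rw [hz1, ← map_pow, show (rho * zW * rho) ^ 3 = 1 by decide +kernel, map_one]
  have hne : z1 ≠ z1⁻¹ := fun h => t5 (X.g_inj (by
    rw [map_mul, map_one, ← hz1]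
    exact mul_eq_one_iff_eq_inv.2 h))
  have hr'z : r' * z1 * r' = K * z1 * K⁻¹ := by
    have hzz : X.f zZ = r' * X.f zZ * r' := by rw [hzr'.eq, mul_assoc, hrr', mul_one]
    have hKi : K⁻¹ = r * r' * r * r' := inv_eq_of_mul_eq_one_right (by
      calc K * (r * r' * r * r') = r' * r * r' * (r * r) * r' * r * r' := by rw [hK]; group
        _ = r' * r * (r' * r') * r * r' := by rw [hrr]; group
        _ = r' * (r * r) * r' := by rw [hrr']; group
        _ = 1 := by rw [hrr, mul_one, hrr'])
    calc r' * z1 * r' = r' * r * X.f zZ * r * r' := by rw [← hzr]; group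
      _ = r' * r * (r' * X.f zZ * r') * r * r' := by rw [← hzz]
      _ = r' * r * r' * (r * r) * X.f zZ * (r * r) * r' * r * r' := by rw [hrr]; group
      _ = K * (r * X.f zZ * r) * (r * r' * r * r') := by rw [hK]; group
      _ = K * z1 * K⁻¹ := by rw [hzr, hKi]
  -- the linking element of the second factor centralizes it
  have hr'fix : r' * z1 * r' = z1 := by
    rw [hr'z]
    have hm : K * z1 * K⁻¹ ∈ zpowers z1 := (mem_normalizer_iff.1 hKN z1).1 (mem_zpowers _)
    rcases mem_zpowers_three h3 hm with h | h | h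
    · exfalso
      rw [conj_eq_one_iff] at h
      exact hne (by rw [h, inv_one])
    · exact h
    · exfalso
      set M := (centralizer ({z1} : Set G)).comap X.f with hM
      have hmem : ∀ q : F, X.f q * z1 = z1 * X.f q → q ∈ M := fun q hq => by
        rw [hM, mem_comap, mem_centralizer_singleton_iff, hq]
      have hw : zW ∈ M := hmem _ (by
        rw [hz1, ← X.g_vals.1, ← map_mul, ← map_mul, t4])
      have hd : sB * cT ∈ M := hmem _ hs'fix.eq
      have he' : rho * cT ∈ M := hmem _ (by
        rw [map_mul, ← hr']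
        calc r' * X.f cT * z1 = r' * X.f cT * z1 * (X.f cT * X.f cT) := by rw [X.c_sq, mul_one]
          _ = r' * (X.f cT * z1 * X.f cT) * X.f cT := by group
          _ = r' * z1⁻¹ * X.f cT := by rw [hfix]
          _ = (r' * z1 * r'⁻¹)⁻¹ * r' * X.f cT := by group
          _ = z1 * (r' * X.f cT) := by
            rw [inv_eq_of_mul_eq_one_right hrr', hr'z, h, inv_inv, mul_assoc])
      have hcM : cT ∈ M := by
        rw [word_c]
        exact (mul_mem (mul_mem (mul_mem (mul_mem (mul_mem (mul_mem (mul_mem (mul_mem (mul_mem (mul_mem (mul_mem hw hw) he') hw) he') hw) hd) he') hw) he') hw) he')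
      refine hne ?_
      rw [hM, mem_comap, mem_centralizer_singleton_iff] at hcM
      rw [← hfix, hcM, mul_assoc, X.c_sq, mul_one]
  have hw1 : Commute (X.f zW) z1 := by
    show _ = _
    rw [hz1, ← X.g_vals.1, ← map_mul, ← map_mul, t4]
  have hr'1 : Commute r' z1 := by
    show _ = _
    calc r' * z1 = r' * z1 * r' * r' := by rw [mul_assoc _ r' r', hrr', mul_one]
      _ = _ := by rw [hr'fix]
  intro a ha
  obtain ⟨i, j, k, l, m, n, e⟩ := second_gen a ha
  have hw2 : Commute (X.f (rho * zW * rho)) z1 := by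
    rw [map_mul, map_mul]
    exact (hr'1.mul_left hw1).mul_left hr'1
  rw [e, map_mul, map_mul, map_mul, map_mul, map_mul, map_pow, map_pow, map_pow, map_pow, map_pow, map_pow]
  exact ((((((hw1.pow_left _).mul_left (hw2.pow_left _)).mul_left (hw1.pow_left _)).mul_left (hw2.pow_left _)).mul_left
    (hw1.pow_left _)).mul_left (hw2.pow_left _))

/-- The two alternating factors commute. -/
theorem Hyp.factors_commute (H : Hyp X) (he : X.eps = true) {a b : P5} (ha : Perm.sign a = 1)
    (hb : Perm.sign b = 1) : Commute (X.f (1, a)) (X.g (1, b)) := by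
  obtain ⟨i, j, k, l, m, n, e⟩ := second_gen b hb
  have hw : Commute (X.f (1, a)) (X.g zW) := by
    rw [X.g_vals.2.1]
    show _ = _
    rw [← map_mul, ← map_mul]
    exact congrArg X.f (Prod.ext (by simp [zZ]) (by simp [zZ]))
  have hw2 := H.linked_commute he a ha
  rw [e, map_mul, map_mul, map_mul, map_mul, map_mul, map_pow, map_pow, map_pow, map_pow, map_pow, map_pow]
  exact ((((((hw.pow_right _).mul_right (hw2.pow_right _)).mul_right (hw.pow_right _)).mul_right
    (hw2.pow_right _)).mul_right (hw.pow_right _)).mul_right (hw2.pow_right _))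

end CfsgLib.Spor.SymEightLocal
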