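import Cfsg.Agent.Lib.Spor.SymEightLocal.Model

/-!
# Coordinates at two commuting elements of order three, and their orientation
-/

set_option autoImplicit false
set_option linter.style.haveILetI false
set_option linter.unusedSectionVars false
set_option synthInstance.maxSize 4000
set_option synthInstance.maxHeartbeats 80000

namespace CfsgLib.Spor.SymEightLocal

open Subgroup

attribute [local instance 5000] List.decidableBAll List.decidableBEx

/-- the subgroup of order nine -/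
def eD : Subgroup F where
  carrier := {q | q ∈ listD}
  one_mem' := List.mem_cons_self ..
  mul_mem' {a b} ha hb := (gen_facts.2.2.2.2.2.2.2.2.2.2.2.1 a ha b hb).1
  inv_mem' {a} ha := (gen_facts.2.2.2.2.2.2.2.2.2.2.2.1 a ha a ha).2.2

theorem mem_eD {q : F} : q ∈ eD ↔ q ∈ listD := Iff.rfl

theorem nat_card_eD : Nat.card eD = 9 := by
  rw [← gen_facts.2.2.2.2.2.2.2.2.2.2.2.2, ← Nat.card_eq_finsetCard]
  exact Nat.card_congr (Equiv.subtypeEquivRight fun a => by simp [mem_eD])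

theorem zZ_mem : zZ ∈ eD ∧ zW ∈ eD := by
  constructor <;> rw [mem_eD] <;> decide +kernel

theorem eD_le {H : Subgroup F} (hz : zZ ∈ H) (hw : zW ∈ H) : eD ≤ H := fun q hq => by
  obtain ⟨i, j, rfl⟩ := listD_spec q hq
  exact mul_mem (pow_mem hz _) (pow_mem hw _)

variable (G : Type*) [Group G]

/-- coordinates at `z` together with an element interchanging `z` and `w` -/
structure Frame where
  /-- the coordinates -/
  f : F →* G
  /-- the interchanging element -/
  γ : G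
  /-- the orientation -/
  eps : Bool
  f_inj : Function.Injective f
  f_range : f.range = normalizer ((zpowers (f zZ) : Subgroup G) : Set G)
  link_z : γ * f zZ * γ⁻¹ = f zW
  link_w : γ * f zW * γ⁻¹ = f zZ
  link_c : γ * f cT * γ⁻¹ = f cT
  link_a : γ * f (sB * tw eps) * γ⁻¹ = f sA
  link_b : γ * f (sA * tw eps) * γ⁻¹ = f sB

variable {G}

/-- the subgroup of order nine -/
def Frame.D (X : Frame G) : Subgroup G := eD.map X.f

/-- the coordinates at `w` -/
def Frame.g (X : Frame G) : F →* G := (MulAut.conj X.γ).toMonoidHom.comp X.f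

theorem Frame.g_apply (X : Frame G) (q : F) : X.g q = X.γ * X.f q * X.γ⁻¹ := rfl

theorem Frame.g_inj (X : Frame G) : Function.Injective X.g :=
  (MulAut.conj X.γ).injective.comp X.f_inj

theorem mem_zpowers_three {x a : G} (hx : x ^ 3 = 1) (ha : a ∈ zpowers x) : a = 1 ∨ a = x ∨ a = x⁻¹ := by
  obtain ⟨n, rfl⟩ := mem_zpowers_iff.1 ha
  have h : x ^ (3 : ℤ) = 1 := by exact_mod_cast hx
  rw [← Int.emod_add_mul_ediv n 3, zpow_add, zpow_mul, h, one_zpow, mul_one]
  rcases (show n % 3 = 0 ∨ n % 3 = 1 ∨ n % 3 = 2 by omega) with e | e | e <;> rw [e]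
  · simp
  · simp
  · refine Or.inr (Or.inr (eq_inv_of_mul_eq_one_left ?_))
    rw [← zpow_add_one]
    exact_mod_cast hx

theorem range_comp_conj (f : F →* G) (p : F) : (f.comp (MulAut.conj p).toMonoidHom).range = f.range := by
  rw [MonoidHom.range_comp, (MonoidHom.range_eq_top (f := (MulAut.conj p).toMonoidHom)).2
    (MulAut.conj p).surjective]
  exact (MonoidHom.range_eq_map f).symm

/-- The coordinates at the first element. -/
theorem exists_first [Finite G] (z : G) (hz : z ^ 3 = 1) (hz1 : z ≠ 1)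
    (e : normalizer ((zpowers z : Subgroup G) : Set G) ≃* F) (D : Subgroup G) (hzD : z ∈ D)
    (hcard : Nat.card D = 9) (hexp : ∀ a ∈ D, a ^ 3 = 1) (hcomm : ∀ a ∈ D, ∀ b ∈ D, a * b = b * a) :
    ∃ f : F →* G, Function.Injective f ∧ f zZ = z ∧ f.range = normalizer ((zpowers z : Subgroup G) : Set G) ∧
      eD.map f = D := by
  classical
  let f0 : F →* G := (normalizer ((zpowers z : Subgroup G) : Set G)).subtype.comp e.symm.toMonoidHom
  have hf0 : Function.Injective f0 := (Subgroup.subtype_injective _).comp e.symm.injective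
  have hr0 : f0.range = normalizer ((zpowers z : Subgroup G) : Set G) := by
    refine le_antisymm ?_ fun x hx => ⟨e ⟨x, hx⟩, ?_⟩
    · rintro _ ⟨q, rfl⟩
      exact (e.symm q).2
    · show ((e.symm (e ⟨x, hx⟩) : normalizer _) : G) = x
      rw [MulEquiv.symm_apply_apply]
  obtain ⟨q, hq⟩ : z ∈ f0.range := hr0 ▸ le_normalizer (mem_zpowers z)
  have hq3 : q ^ 3 = 1 := hf0 (by rw [map_pow, hq, hz, map_one])
  have hq1 : q ≠ 1 := fun h => hz1 (by rw [← hq, h, map_one])
  have hqn : ∀ r : F, r * q * r⁻¹ = q ∨ r * q * r⁻¹ = q⁻¹ := by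
    intro r
    have h1 : f0 r * z * (f0 r)⁻¹ ∈ zpowers z :=
      (mem_normalizer_iff.1 (hr0 ▸ ⟨r, rfl⟩ : f0 r ∈ normalizer ((zpowers z : Subgroup G) : Set G)) z).1
        (mem_zpowers z)
    rcases mem_zpowers_three hz h1 with h | h | h
    · exact absurd (conj_eq_one_iff.1 h) hz1
    · exact Or.inl (hf0 (by rw [map_mul, map_mul, map_inv, hq, h]))
    · exact Or.inr (hf0 (by rw [map_mul, map_mul, map_inv, map_inv, hq, h]))
  obtain ⟨p, hp⟩ := normal_three q hq3 hq1 hqn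
  let f1 : F →* G := f0.comp (MulAut.conj p).toMonoidHom
  have hf1 : f1 zZ = z := by show f0 (p * zZ * p⁻¹) = z; rw [hp, hq]
  have hi1 : Function.Injective f1 := hf0.comp (MulAut.conj p).injective
  have hr1 : f1.range = normalizer ((zpowers z : Subgroup G) : Set G) := by rw [range_comp_conj, hr0]
  obtain ⟨d, hdD, hd⟩ : ∃ d ∈ D, d ∉ zpowers z := by
    by_contra hc
    push Not at hc
    have := card_le_of_le (show D ≤ zpowers z from hc)
    rw [hcard, Nat.card_zpowers, orderOf_eq_prime hz hz1] at this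
    omega
  obtain ⟨r, hr⟩ : d ∈ f1.range := by
    refine hr1 ▸ centralizer_le_normalizer _ (mem_centralizer_iff.2 fun x hx => ?_)
    obtain ⟨n, rfl⟩ := mem_zpowers_iff.1 hx
    exact ((show Commute z d from hcomm z hzD d hdD).zpow_left n).eq
  have hr3 : r ^ 3 = 1 := hi1 (by rw [map_pow, hr, hexp d hdD, map_one])
  have hrc : r * zZ = zZ * r := hi1 (by rw [map_mul, map_mul, hr, hf1, hcomm d hdD z hzD])
  have hr2 : r.2 ≠ 1 := by
    intro h
    refine hd ?_
    rcases three_first r hr3 h with e | e | e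
    · rw [← hr, e, map_one]; exact one_mem _
    · rw [← hr, e, hf1]; exact mem_zpowers _
    · rw [← hr, e, map_inv, hf1]; exact inv_mem (mem_zpowers _)
  obtain ⟨p', hp'z, k, hp'⟩ := three_commuting r hr3 hrc hr2
  let f : F →* G := f1.comp (MulAut.conj p').toMonoidHom
  have hz' : f zZ = z := by show f1 (p' * zZ * p'⁻¹) = z; rw [hp'z, hf1]
  have hw' : f zW ∈ D := by
    show f1 (p' * zW * p'⁻¹) ∈ D
    rw [hp', map_mul, map_pow, hr, hf1]
    exact mul_mem hdD (pow_mem hzD _)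
  have hi : Function.Injective f := hi1.comp (MulAut.conj p').injective
  refine ⟨f, hi, hz', by rw [range_comp_conj, hr1], ?_⟩
  refine eq_of_le_of_card_ge (map_le_iff_le_comap.2 (eD_le (hz'.symm ▸ hzD : f zZ ∈ D) hw')) ?_
  rw [hcard, card_map_of_injective hi, nat_card_eD]

/-- An element conjugate to `c` which commutes with a three-element commutes with a Sylow subgroup containing it. -/
theorem nine_dvd_of_isConj [Finite G] (D : Subgroup G) (hD : Nat.card D = 9) (hidx : ¬ 3 ∣ D.index)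
    (hcomm : ∀ a ∈ D, ∀ b ∈ D, a * b = b * a) {c j x : G} (hc : ∀ d ∈ D, d * c = c * d) (hj : IsConj c j)
    (hx3 : x ^ 3 = 1) (hxj : x * j = j * x) :
    9 ∣ Nat.card (centralizer ({j} : Set G) ⊓ centralizer ({x} : Set G) : Subgroup G) := by
  haveI : Fact (Nat.Prime 3) := ⟨Nat.prime_three⟩
  obtain ⟨g, rfl⟩ := isConj_iff.1 hj
  set C := centralizer ({g * c * g⁻¹} : Set G)
  have hxC : x ∈ C := mem_centralizer_singleton_iff.2 hxj
  have hD' : (D.map (MulAut.conj g).toMonoidHom) ≤ C := by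
    rintro _ ⟨d, hd, rfl⟩
    rw [mem_centralizer_singleton_iff]
    show g * d * g⁻¹ * (g * c * g⁻¹) = g * c * g⁻¹ * (g * d * g⁻¹)
    rw [conj_mul, conj_mul, hc d hd]
  have hD3 : IsPGroup 3 D := IsPGroup.of_card (n := 2) (by rw [hD]; norm_num)
  let SD : Sylow 3 G := hD3.toSylow hidx
  have hc9 : 9 ∣ Nat.card C := by
    rw [← hD, ← card_map_of_injective (MulAut.conj g).injective (f := (MulAut.conj g).toMonoidHom)]
    exact card_dvd_of_le hD'
  have hp : IsPGroup 3 (zpowers (⟨x, hxC⟩ : C)) := fun w => by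
    obtain ⟨n, hn⟩ := mem_zpowers_iff.1 w.2
    refine ⟨1, Subtype.ext ?_⟩
    rw [pow_one, SubgroupClass.coe_pow, ← hn, ← zpow_natCast, ← zpow_mul, mul_comm, zpow_mul, zpow_natCast,
      show (⟨x, hxC⟩ : C) ^ 3 = 1 from Subtype.ext hx3, one_zpow, Subgroup.coe_one]
  obtain ⟨R, hR⟩ := hp.exists_le_sylow
  set R' := (R : Subgroup C).map C.subtype
  obtain ⟨P, hP⟩ := (R.2.map C.subtype : IsPGroup 3 R').exists_le_sylow
  obtain ⟨k, hk⟩ := MulAction.exists_smul_eq G P SD
  have hPc : ∀ a ∈ (P : Subgroup G), ∀ b ∈ (P : Subgroup G), a * b = b * a := fun a ha b hb => by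
    have hm : ∀ u ∈ (P : Subgroup G), k * u * k⁻¹ ∈ D := fun u hu => by
      have h : k * u * k⁻¹ ∈ ((k • P : Sylow 3 G) : Subgroup G) := by
        rw [Sylow.coe_subgroup_smul]; exact ⟨u, hu, rfl⟩
      rw [hk] at h
      exact h
    have h := hcomm _ (hm a ha) _ (hm b hb)
    rw [conj_mul, conj_mul] at h
    exact mul_left_cancel (mul_right_cancel h)
  have hR9 : 9 ∣ Nat.card R' := by
    rw [card_map_of_injective C.subtype_injective]
    exact R.pow_dvd_card_of_pow_dvd_card (n := 2) hc9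
  refine hR9.trans (card_dvd_of_le (le_inf ?_ fun a ha => mem_centralizer_singleton_iff.2
    (hPc a (hP ha) x (hP ⟨_, hR (mem_zpowers _), rfl⟩))))
  rintro _ ⟨a, -, rfl⟩
  exact a.2

/-- A double transposition is not conjugate to the central involution. -/
theorem not_conj_double [Finite G] {f : F →* G} (hi : Function.Injective f)
    (hr : f.range = normalizer ((zpowers (f zZ) : Subgroup G) : Set G))
    (hidx : ¬ 3 ∣ (eD.map f).index) : ¬ IsConj (f cT) (f (sB * cT)) := by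
  intro h
  obtain ⟨hz3, -, -, -, -, -, -, hcz, hcw, -, -, hmul, -⟩ := gen_facts
  have h9 := nine_dvd_of_isConj (eD.map f) (by rw [card_map_of_injective hi, nat_card_eD]) hidx
    (fun a ⟨p, hp, hpa⟩ b ⟨q, hq, hqb⟩ => by
      rw [← hpa, ← hqb, ← map_mul, ← map_mul, (hmul p hp q hq).2.1])
    (c := f cT) (fun d ⟨p, hp, hpd⟩ => by
      obtain ⟨i, j, rfl⟩ := listD_spec p hp
      rw [← hpd, ← map_mul, ← map_mul]
      exact congrArg f (((show Commute cT zZ from hcz).pow_right _).mul_right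
        ((show Commute cT zW from hcw).pow_right _)).eq.symm)
    h (x := f zZ) (by rw [← map_pow, hz3, map_one]) (by
      rw [← map_mul, ← map_mul]; exact congrArg f (by decide +kernel))
  have hle : (centralizer ({f (sB * cT)} : Set G) ⊓ centralizer ({f zZ} : Set G) : Subgroup G) ≤
      (centralizer ({zZ} : Set F) ⊓ centralizer ({sB * cT} : Set F) : Subgroup F).map f := by
    rintro x ⟨h1, h2⟩
    have hm : x ∈ f.range := hr ▸ centralizer_le_normalizer _ (mem_centralizer_iff.2 fun y hy => by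
      obtain ⟨n, rfl⟩ := mem_zpowers_iff.1 hy
      exact ((show Commute (f zZ) x from (mem_centralizer_singleton_iff.1 h2).symm).zpow_left n).eq)
    obtain ⟨q, rfl⟩ := hm
    refine ⟨q, ⟨mem_centralizer_singleton_iff.2 (hi ?_), mem_centralizer_singleton_iff.2 (hi ?_)⟩, rfl⟩
    · rw [map_mul, map_mul]; exact mem_centralizer_singleton_iff.1 h2
    · rw [map_mul f q, map_mul f _ q]; exact mem_centralizer_singleton_iff.1 h1
  have := h9.trans (card_dvd_of_le hle)
  rw [card_map_of_injective hi] at this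
  have h24 : Nat.card (centralizer ({zZ} : Set F) ⊓ centralizer ({sB * cT} : Set F) : Subgroup F) = 24 := by
    rw [← card_cent_double, ← Nat.card_eq_fintype_card]
    exact Nat.card_congr (Equiv.subtypeEquivRight fun q => by
      rw [mem_inf, mem_centralizer_singleton_iff, mem_centralizer_singleton_iff])
  rw [h24] at this
  norm_num at this

/-- The coordinates with an interchanging element. -/
theorem exists_frame [Finite G] (f : F →* G) (hi : Function.Injective f)
    (hr : f.range = normalizer ((zpowers (f zZ) : Subgroup G) : Set G))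
    (hN : Nat.card (normalizer ((eD.map f : Subgroup G) : Set G)) = 144)
    (hidx : ¬ 3 ∣ (eD.map f).index) :
    ∃ X : Frame G, X.f = f := by
  classical
  set D := eD.map f with hD
  obtain ⟨hz3, hw3, hzw, hz1, hw1, hc1, hc2, hcz, hcw, -, -, hmul, -⟩ := gen_facts
  have hn1 : ∀ q : F, f q ∈ normalizer (D : Set G) ↔ normD q = true := by
    intro q
    constructor
    · intro h
      have key : ∀ a ∈ eD, q * a * q⁻¹ ∈ listD := fun a ha => by
        obtain ⟨b, hb, hb'⟩ := (mem_normalizer_iff.1 h (f a)).1 ⟨a, ha, rfl⟩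
        rw [← map_inv, ← map_mul, ← map_mul] at hb'
        rw [← hi hb']
        exact hb
      rw [normD, Bool.and_eq_true, decide_eq_true_iff, decide_eq_true_iff]
      exact ⟨key _ zZ_mem.1, key _ zZ_mem.2⟩
    · intro h
      rw [normD, Bool.and_eq_true, decide_eq_true_iff, decide_eq_true_iff] at h
      refine (mem_normalizer_iff_map_conj_eq).2 (eq_of_le_of_card_ge ?_ ?_)
      · rintro _ ⟨_, ⟨a, ha, rfl⟩, rfl⟩
        refine ⟨q * a * q⁻¹, ?_, by simp⟩
        obtain ⟨i, j, rfl⟩ := listD_spec a ha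
        rw [SetLike.mem_coe, ← conj_mul, ← conj_pow, ← conj_pow]
        exact mul_mem (pow_mem (show _ ∈ eD from h.1) _) (pow_mem (show _ ∈ eD from h.2) _)
      · exact (card_map_of_injective (MulAut.conj (f q)).injective).ge
  set N := normalizer (D : Set G)
  have hN1card : Nat.card (N ⊓ f.range : Subgroup G) = 72 := by
    have e : (N ⊓ f.range : Subgroup G) = (N.comap f).map f := by rw [Subgroup.map_comap_eq, inf_comm]
    rw [e, card_map_of_injective hi, ← normD_card, ← Nat.card_eq_fintype_card]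
    exact Nat.card_congr (Equiv.subtypeEquivRight fun q => hn1 q)
  set N1 := (N ⊓ f.range : Subgroup G) with hN1
  have hidx2 : (N1.subgroupOf N).index = 2 := by
    have := (N1.subgroupOf N).card_mul_index
    rw [Nat.card_congr (subgroupOfEquivOfLe inf_le_left).toEquiv, hN1card, hN] at this
    omega
  haveI := normal_of_index_eq_two hidx2
  obtain ⟨γ, hγN, hγ⟩ : ∃ γ ∈ N, γ ∉ f.range := by
    by_contra hc
    push Not at hc
    have := card_le_of_le (show N ≤ N1 from le_inf le_rfl hc)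
    rw [hN1card, hN] at this
    omega
  have hDmem : ∀ x ∈ D, γ * x * γ⁻¹ ∈ D := fun x hx => (mem_normalizer_iff.1 hγN x).1 hx
  have hback : ∀ {γ : G}, γ ∈ N → ∀ q : F, normD q = true → ∃ r : F, f r = γ⁻¹ * f q * γ := by
    intro γ hγN q hq
    have htN : (⟨f q, (hn1 q).2 hq⟩ : N) ∈ N1.subgroupOf N := mem_subgroupOf.2 ⟨(hn1 q).2 hq, q, rfl⟩
    have h := mem_subgroupOf.1 (Normal.conj_mem inferInstance _ htN ⟨γ, hγN⟩⁻¹)
    obtain ⟨r, hr'⟩ : γ⁻¹ * f q * γ ∈ f.range := by simpa using h.2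
    exact ⟨r, hr'⟩
  have hzk : ∀ x ∈ f.range, x * f zZ * x⁻¹ = f zZ ∨ x * f zZ * x⁻¹ = (f zZ)⁻¹ := by
    rintro _ ⟨q, rfl⟩
    rcases z_normal q with e | e
    · exact Or.inl (by rw [← map_inv, ← map_mul, ← map_mul, e])
    · exact Or.inr (by rw [← map_inv, ← map_mul, ← map_mul, e, map_inv])
  obtain ⟨hsAn, hsBn, hcn⟩ := normD_gens
  -- `sB` fixes the line of the image of `z`
  obtain ⟨a, ha, hγz⟩ := hDmem (f zZ) ⟨zZ, zZ_mem.1, rfl⟩
  obtain ⟨u, hu⟩ := hback hγN sB hsBn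
  have hline : sB * a * sB⁻¹ = a ∨ sB * a * sB⁻¹ = a⁻¹ := by
    have e1 : f sB * (γ * f zZ * γ⁻¹) * (f sB)⁻¹ =
        γ * ((γ⁻¹ * f sB * γ) * f zZ * (γ⁻¹ * f sB * γ)⁻¹) * γ⁻¹ := by group
    rw [← hγz, ← map_inv, ← map_mul, ← map_mul, ← hu] at e1
    rcases hzk _ ⟨u, rfl⟩ with e | e
    · rw [e, ← hγz] at e1
      exact Or.inl (hi e1)
    · rw [e] at e1
      refine Or.inr (hi ?_)
      rw [e1, map_inv, hγz]
      group
  have hak : a = zW ∨ a = zW⁻¹ := by
    have key : ∀ a ∈ listD, (sB * a * sB⁻¹ = a ∨ sB * a * sB⁻¹ = a⁻¹) →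
        a = 1 ∨ a = zZ ∨ a = zZ⁻¹ ∨ a = zW ∨ a = zW⁻¹ := by decide +kernel
    rcases key a ha hline with h | h | h | h | h
    · exfalso
      rw [h, map_one, eq_comm, conj_eq_one_iff] at hγz
      exact hz1 (hi (hγz.trans (map_one f).symm))
    · exfalso
      refine hγ (hr.symm ▸ mem_normalizer_iff_map_conj_eq.2 ?_)
      rw [MonoidHom.map_zpowers]
      show zpowers (γ * f zZ * γ⁻¹) = _
      rw [← hγz, h]
    · exfalso
      refine hγ (hr.symm ▸ mem_normalizer_iff_map_conj_eq.2 ?_)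
      rw [MonoidHom.map_zpowers]
      show zpowers (γ * f zZ * γ⁻¹) = _
      rw [← hγz, h, map_inv, Subgroup.zpowers_inv]
    · exact Or.inl h
    · exact Or.inr h
  have hγγ : γ * γ ∈ f.range := (mem_subgroupOf.1 (mul_self_mem_of_index_two hidx2 (⟨γ, hγN⟩ : N))).2
  obtain ⟨s, hs⟩ : ∃ s : Bool, γ * f zZ * γ⁻¹ = f (cond s zW zW⁻¹) := by
    rcases hak with h | h
    · exact ⟨true, by rw [← hγz, h]; rfl⟩
    · exact ⟨false, by rw [← hγz, h]; rfl⟩
  obtain ⟨r, hr'⟩ : ∃ r : Bool, γ * f zW * γ⁻¹ = f (cond r zZ zZ⁻¹) := by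
    have e : γ * f (cond s zW zW⁻¹) * γ⁻¹ = (γ * γ) * f zZ * (γ * γ)⁻¹ := by rw [← hs]; group
    cases s
    · rw [cond_false, map_inv, ← conj_inv, inv_eq_iff_eq_inv] at e
      rcases hzk _ hγγ with h | h <;> rw [h] at e
      · exact ⟨false, by rw [e, cond_false, map_inv]⟩
      · exact ⟨true, by rw [e, inv_inv, cond_true]⟩
    · rw [cond_true] at e
      rcases hzk _ hγγ with h | h <;> rw [h] at e
      · exact ⟨true, e⟩
      · exact ⟨false, by rw [e, cond_false, map_inv]⟩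
  obtain ⟨q, hqn, hqz, hqw⟩ := swap_fix s r
  obtain ⟨γ1, hγ1N, h1z, h1w⟩ : ∃ γ1 ∈ N, γ1 * f zZ * γ1⁻¹ = f zW ∧ γ1 * f zW * γ1⁻¹ = f zZ := by
    refine ⟨γ * f q, mul_mem hγN ((hn1 q).2 hqn), ?_, ?_⟩
    · rw [show γ * f q * f zZ * (γ * f q)⁻¹ = γ * f (q * zZ * q⁻¹) * γ⁻¹ by simp [mul_assoc], hqz]
      cases s
      · rw [cond_false, map_inv, ← conj_inv, hs, cond_false, map_inv, inv_inv]
      · rw [cond_true, hs, cond_true]
    · rw [show γ * f q * f zW * (γ * f q)⁻¹ = γ * f (q * zW * q⁻¹) * γ⁻¹ by simp [mul_assoc], hqw]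
      cases r
      · rw [cond_false, map_inv, ← conj_inv, hr', cond_false, map_inv, inv_inv]
      · rw [cond_true, hr', cond_true]
  -- pulling back relations through the interchanging element
  have hpull : ∀ {γ : G}, γ * f zZ * γ⁻¹ = f zW → γ * f zW * γ⁻¹ = f zZ → ∀ {q r : F}, f r = γ⁻¹ * f q * γ →
      ∀ {a b a' b' : F}, q * a = b * q → γ * f a' * γ⁻¹ = f a → γ * f b' * γ⁻¹ = f b → r * a' = b' * r := by
    intro γ _ _ q r hr a b a' b' hq ha hb
    refine hi ?_
    rw [map_mul, map_mul, hr]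
    calc γ⁻¹ * f q * γ * f a' = γ⁻¹ * (f q * (γ * f a' * γ⁻¹)) * γ := by group
      _ = γ⁻¹ * (f b * f q) * γ := by rw [ha, ← map_mul, hq, map_mul]
      _ = _ := by rw [← hb]; group
  -- the central involution is fixed
  have h1c : γ1 * f cT * γ1⁻¹ = f cT := by
    obtain ⟨v, hv⟩ := hback hγ1N cT hcn
    have e : v = cT := by
      refine (cent_D_invol v (hpull h1z h1w hv hcw h1z h1z) (hpull h1z h1w hv hcz h1w h1w) (hi ?_)).resolve_left ?_
      · rw [map_pow, hv, show γ1⁻¹ * f cT * γ1 = γ1⁻¹ * f cT * (γ1⁻¹)⁻¹ by group, conj_pow, ← map_pow, hc2,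
          map_one, mul_one, mul_inv_cancel]
      · intro h
        rw [h, map_one] at hv
        refine hc1 (hi ?_)
        rw [map_one]
        calc f cT = γ1 * (γ1⁻¹ * f cT * γ1) * γ1⁻¹ := by group
          _ = 1 := by rw [← hv, mul_one, mul_inv_cancel]
    rw [e] at hv
    calc γ1 * f cT * γ1⁻¹ = γ1 * (γ1⁻¹ * f cT * γ1) * γ1⁻¹ := by rw [← hv]
      _ = f cT := by group
  obtain ⟨hab1, hab2, hba1, hba2, -, -⟩ := rel_ab
  -- adjusting the first transposition
  obtain ⟨ua, hua⟩ := hback hγ1N sA hsAn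
  obtain ⟨k, ea, hka⟩ := lift_a ua
    (hi (by rw [map_pow, hua, show γ1⁻¹ * f sA * γ1 = γ1⁻¹ * f sA * (γ1⁻¹)⁻¹ by group, conj_pow, ← map_pow,
      gen_facts.2.2.2.2.2.2.2.2.2.1, map_one, mul_one, mul_inv_cancel]))
    (hpull h1z h1w hua hab2 h1z h1z) (hpull h1z h1w hua hab1 h1w
      (by rw [map_inv, ← conj_inv, h1w, map_inv]))
  obtain ⟨ub, hub⟩ := hback hγ1N sB hsBn
  obtain ⟨l, eb, hlb⟩ := lift_b ub
    (hi (by rw [map_pow, hub, show γ1⁻¹ * f sB * γ1 = γ1⁻¹ * f sB * (γ1⁻¹)⁻¹ by group, conj_pow, ← map_pow,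
      gen_facts.2.2.2.2.2.2.2.2.2.2.1, map_one, mul_one, mul_inv_cancel]))
    (hpull h1z h1w hub hba1 h1w h1w) (hpull h1z h1w hub hba2 h1z
      (by rw [map_inv, ← conj_inv, h1z, map_inv]))
  set p : F := zW ^ (k : ℕ) * zZ ^ (l : ℕ) with hp
  obtain ⟨γ2, hγ2⟩ : ∃ γ2, γ2 = γ1 * f p := ⟨_, rfl⟩
  have hconj : ∀ x : F, γ2 * f x * γ2⁻¹ = γ1 * f (p * x * p⁻¹) * γ1⁻¹ := fun x => by
    rw [hγ2]; simp [mul_assoc]
  have hpfix : ∀ k l : Fin 3, zW ^ (k : ℕ) * zZ ^ (l : ℕ) * zZ * (zW ^ (k : ℕ) * zZ ^ (l : ℕ))⁻¹ = zZ ∧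
      zW ^ (k : ℕ) * zZ ^ (l : ℕ) * zW * (zW ^ (k : ℕ) * zZ ^ (l : ℕ))⁻¹ = zW ∧
      zW ^ (k : ℕ) * zZ ^ (l : ℕ) * cT * (zW ^ (k : ℕ) * zZ ^ (l : ℕ))⁻¹ = cT ∧
      (∀ e : Bool, zW ^ (k : ℕ) * zZ ^ (l : ℕ) * (sB * tw e) * (zW ^ (k : ℕ) * zZ ^ (l : ℕ))⁻¹ =
          zW ^ (k : ℕ) * (sB * tw e) * (zW ^ (k : ℕ))⁻¹ ∧
        zW ^ (k : ℕ) * zZ ^ (l : ℕ) * (sA * tw e) * (zW ^ (k : ℕ) * zZ ^ (l : ℕ))⁻¹ =
          zZ ^ (l : ℕ) * (sA * tw e) * (zZ ^ (l : ℕ))⁻¹) := by decide +kernel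
  obtain ⟨pz, pw, pc, pe⟩ := hpfix k l
  have h2a : γ2 * f (sB * tw ea) * γ2⁻¹ = f sA := by
    rw [hconj, hp, (pe ea).1, ← hka, hua]; group
  have h2b : γ2 * f (sA * tw eb) * γ2⁻¹ = f sB := by
    rw [hconj, hp, (pe eb).2, ← hlb, hub]; group
  have h2c : γ2 * f cT * γ2⁻¹ = f cT := by rw [hconj, hp, pc, h1c]
  -- the orientations agree
  have hA : ea = false → IsConj (f cT) (f sA) := by
    intro h
    rw [h, show tw false = 1 from rfl, mul_one] at h2a
    refine (isConj_iff.2 ?_ : IsConj (f cT) (f sB)).trans (isConj_iff.2 ⟨γ2, h2a⟩)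
    obtain ⟨p', hp'⟩ : ∃ p' : F, p' * cT * p'⁻¹ = sB := by decide +kernel
    exact ⟨f p', by rw [← map_inv, ← map_mul, ← map_mul, hp']⟩
  have hnd := not_conj_double hi hr hidx
  have heq : ea = eb := by
    cases ea <;> cases eb
    · rfl
    · exfalso
      refine hnd ((hA rfl).trans (isConj_iff.2 ⟨γ2, ?_⟩))
      rw [show tw true = cT from rfl, map_mul, ← conj_mul, h2c] at h2b
      calc γ2 * f sA * γ2⁻¹ = f sB * (f cT)⁻¹ := by rw [← h2b, mul_inv_cancel_right]
        _ = f (sB * cT) := by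
          rw [map_mul, ← map_inv, show (cT : F)⁻¹ = cT by decide +kernel]
    · exfalso
      -- the first transposition is then conjugate to a double transposition
      rw [show tw true = cT from rfl] at h2a
      rw [show tw false = 1 from rfl, mul_one] at h2b
      obtain ⟨p', hp'⟩ : ∃ p' : F, p' * cT * p'⁻¹ = sB := by decide +kernel
      have h1 : IsConj (f cT) (f sB) := isConj_iff.2 ⟨f p', by rw [← map_inv, ← map_mul, ← map_mul, hp']⟩
      exact hnd ((h1.trans (isConj_iff.2 ⟨γ2, h2b⟩).symm).trans (isConj_iff.2 ⟨γ2, h2a⟩).symm)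
    · rfl
  refine ⟨⟨f, γ2, ea, hi, hr, ?_, ?_, h2c, h2a, heq ▸ h2b⟩, rfl⟩
  · rw [hconj, hp, pz, h1z]
  · rw [hconj, hp, pw, h1w]

end CfsgLib.Spor.SymEightLocal
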