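import Mathlib

/-!
# The product of the symmetric groups of degrees three and five as a model
-/

set_option autoImplicit false
set_option linter.style.haveILetI false
set_option synthInstance.maxSize 4000
set_option synthInstance.maxHeartbeats 80000

namespace CfsgLib.Spor.SymEightLocal

open Equiv

attribute [local instance 5000] List.decidableBAll List.decidableBEx

abbrev P3 := Equiv.Perm (Fin 3)
abbrev P5 := Equiv.Perm (Fin 5)

/-- the model of the normalizer of a subgroup of order three -/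
abbrev F := P3 × P5

def a012 : P3 := swap 0 1 * swap 1 2
def b234 : P5 := swap 2 3 * swap 3 4

/-- the normal three-element -/
def zZ : F := (a012, 1)
/-- the second three-element -/
def zW : F := (1, b234)
/-- the involution centralizing both -/
def cT : F := (1, swap 0 1)
/-- a transposition of the first coordinate -/
def sA : F := (swap 1 2, 1)
/-- a transposition of the second coordinate -/
def sB : F := (1, swap 3 4)

/-- the subgroup of order nine, as a list -/
def listD : List F :=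
  [1, zZ, zZ * zZ, zW, zW * zW, zZ * zW, zZ * zZ * (zW * zW), zZ * (zW * zW), zZ * zZ * zW]

/-- the normalizer of the subgroup of order nine -/
def normD (x : F) : Bool := (x * zZ * x⁻¹ ∈ listD : Bool) && (x * zW * x⁻¹ ∈ listD : Bool)

/-- the twist of the two transpositions -/
def tw (e : Bool) : F := cond e cT 1

theorem gen_facts : zZ ^ 3 = 1 ∧ zW ^ 3 = 1 ∧ zZ * zW = zW * zZ ∧ zZ ≠ 1 ∧ zW ≠ 1 ∧ cT ≠ 1 ∧ cT ^ 2 = 1 ∧
    cT * zZ = zZ * cT ∧ cT * zW = zW * cT ∧ sA ^ 2 = 1 ∧ sB ^ 2 = 1 ∧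
    (∀ a ∈ listD, ∀ b ∈ listD, a * b ∈ listD ∧ a * b = b * a ∧ a⁻¹ ∈ listD) ∧
    listD.toFinset.card = 9 := by decide +kernel

theorem listD_spec : ∀ a ∈ listD, ∃ i j : Fin 3, a = zZ ^ (i : ℕ) * zW ^ (j : ℕ) := by decide +kernel

theorem listD_pow : ∀ i j : Fin 3, zZ ^ (i : ℕ) * zW ^ (j : ℕ) ∈ listD := by decide +kernel

/-- a subgroup of order three normal in the model is the first factor -/
theorem normal_three : ∀ q : F, q ^ 3 = 1 → q ≠ 1 →
    (∀ r : F, r * q * r⁻¹ = q ∨ r * q * r⁻¹ = q⁻¹) → ∃ p : F, p * zZ * p⁻¹ = q := by decide +kernel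

theorem three_commuting : ∀ q : F, q ^ 3 = 1 → q * zZ = zZ * q → q.2 ≠ 1 →
    ∃ p : F, p * zZ * p⁻¹ = zZ ∧ ∃ k : Fin 3, p * zW * p⁻¹ = q * zZ ^ (k : ℕ) := by decide +kernel

theorem three_first : ∀ q : F, q ^ 3 = 1 → q.2 = 1 → q = 1 ∨ q = zZ ∨ q = zZ⁻¹ := by decide +kernel

theorem z_normal : ∀ q : F, q * zZ * q⁻¹ = zZ ∨ q * zZ * q⁻¹ = zZ⁻¹ := by decide +kernel

theorem normD_card : Fintype.card {q : F // normD q = true} = 72 := by decide +kernel

theorem normD_gens : normD sA = true ∧ normD sB = true ∧ normD cT = true := by decide +kernel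

theorem swap_fix : ∀ s t : Bool, ∃ q : F, normD q = true ∧ q * zZ * q⁻¹ = cond s zZ zZ⁻¹ ∧
    q * zW * q⁻¹ = cond t zW zW⁻¹ := by decide +kernel

theorem cent_D : ∀ q : F, q * zZ = zZ * q → q * zW = zW * q →
    q ∈ listD ∨ ∃ d ∈ listD, q = d * cT := by decide +kernel

theorem cent_D_invol : ∀ q : F, q * zZ = zZ * q → q * zW = zW * q → q ^ 2 = 1 → q = 1 ∨ q = cT := by
  decide +kernel

theorem lift_a : ∀ q : F, q ^ 2 = 1 → q * zZ = zZ * q → q * zW = zW⁻¹ * q →
    ∃ (k : Fin 3) (e : Bool), q = zW ^ (k : ℕ) * (sB * tw e) * (zW ^ (k : ℕ))⁻¹ := by decide +kernel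

theorem lift_b : ∀ q : F, q ^ 2 = 1 → q * zW = zW * q → q * zZ = zZ⁻¹ * q →
    ∃ (k : Fin 3) (e : Bool), q = zZ ^ (k : ℕ) * (sA * tw e) * (zZ ^ (k : ℕ))⁻¹ := by decide +kernel

theorem rel_ab : sA * zZ = zZ⁻¹ * sA ∧ sA * zW = zW * sA ∧ sB * zZ = zZ * sB ∧ sB * zW = zW⁻¹ * sB ∧
    sA * cT = cT * sA ∧ sB * cT = cT * sB := by decide +kernel

theorem card_cent_z : Fintype.card {q : F // q * zZ = zZ * q} = 360 := by decide +kernel

/-- a double transposition with its centralizer in the centralizer of `zZ` -/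
theorem card_cent_double : Fintype.card {q : F // q * zZ = zZ * q ∧ q * (sB * cT) = sB * cT * q} = 24 := by
  decide +kernel

end CfsgLib.Spor.SymEightLocal
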