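import Cfsg.Agent.Lib.Spor.SymEightLocal.Coxeter

/-!
# In the twisted orientation the centralizer of `c` normalizes `D`
-/

set_option autoImplicit false
set_option linter.style.haveILetI false
set_option linter.unusedSectionVars false
set_option synthInstance.maxSize 4000
set_option synthInstance.maxHeartbeats 80000

namespace CfsgLib.Spor.SymEightLocal

open Equiv Subgroup

attribute [local instance 5000] List.decidableBAll List.decidableBEx

/-- elements of order three on six points -/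
def threes6 : List P6 :=
  ((List.finRange 6).flatMap fun i => (List.finRange 6).flatMap fun j =>
    ((List.finRange 6).filter fun k => decide (i < j ∧ i < k ∧ j ≠ k)).map fun k => swap i j * swap j k) ++
  ((List.finRange 6).flatMap fun i => (List.finRange 6).flatMap fun j => (List.finRange 6).flatMap fun k =>
    (List.finRange 6).flatMap fun l => (List.finRange 6).flatMap fun m =>
    ((List.finRange 6).filter fun n => decide (i < j ∧ i < k ∧ j ≠ k ∧ i < l ∧ l < m ∧ l < n ∧ m ≠ n ∧
      j ≠ l ∧ j ≠ m ∧ j ≠ n ∧ k ≠ l ∧ k ≠ m ∧ k ≠ n)).map fun n => swap i j * swap j k * (swap l m * swap m n))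

theorem mem_threes6 : ∀ a : P6, a * a * a = 1 → a ≠ 1 → a ∈ threes6 := by decide +kernel

/-- representatives of the classes of elements of order three -/
def threeReps : List P6 := [swap 0 1 * swap 1 2, swap 0 1 * swap 1 2 * (swap 3 4 * swap 4 5)]

theorem exists_three_rep : ∀ a ∈ threes6, ∃ p : P6, p * a * p⁻¹ ∈ threeReps := by decide +kernel

/-- the configuration of two involutions inverting and centralizing the two three-elements -/
def config6 (Z W A B : P6) : Bool :=
  Z * W == W * Z && W != Z && W != Z * Z && A * Z * A == Z * Z && A * W == W * A && B * Z == Z * B &&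
    B * W * B == W * W && A * B == B * A && A != B

/-- the third involution and its conjugators -/
def third6 (Z W A B : P6) : Bool :=
  invs6.any fun U => A * U == U * A && B * U == U * B && U != A && U != B && U != A * B &&
    (invs6.any fun q => q * A * q == U && q * B * q == B) &&
    (invs6.any fun r => r * A * r == A && r * B * r == U) &&
    (threes6.any fun y => (A * B * U) * y == y * (A * B * U) &&
      (invs6 ++ threes6 ++ [1]).any fun h => (invs6 ++ threes6 ++ [1]).any fun k =>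
        h * k * (Z * W) == y * (h * k)) &&
    (invs6.all fun x => !(x * A == A * x && x * B == B * x) ||
      [A, B, A * B, U, A * U, B * U, A * B * U].contains x)

theorem config_third : ∀ Z ∈ threeReps, ∀ W ∈ threes6, Z * W = W * Z → ∀ A ∈ invs6, A * Z * A = Z * Z →
    A * W = W * A → ∀ B ∈ invs6, config6 Z W A B = true → third6 Z W A B = true := by decide +kernel

theorem third_of_config {Z W A B : P6} (hZ : Z ∈ threes6) (hW : W ∈ threes6) (hA : A ∈ invs6) (hB : B ∈ invs6)
    (h : config6 Z W A B = true) :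
    ∃ U q r h : P6, A * U = U * A ∧ B * U = U * B ∧ U ≠ A ∧ U ≠ B ∧ U ≠ A * B ∧
      q * A * q⁻¹ = U ∧ q * B * q⁻¹ = B ∧ r * A * r⁻¹ = A ∧ r * B * r⁻¹ = U ∧
      A * B * U * (h * (Z * W) * h⁻¹) = h * (Z * W) * h⁻¹ * (A * B * U) ∧
      ∀ x : P6, x * x = 1 → x ≠ 1 → x * A = A * x → x * B = B * x →
        x ∈ [A, B, A * B, U, A * U, B * U, A * B * U] := by
  obtain ⟨p, hp⟩ := exists_three_rep Z hZ
  set e := MulAut.conj p with he
  have hinvs : ∀ x ∈ invs6, x * x = 1 ∧ x ≠ 1 := by decide +kernel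
  have hthr : ∀ x ∈ threes6, x * x * x = 1 ∧ x ≠ 1 := by decide +kernel
  have hi : ∀ {x : P6}, x ∈ invs6 → e x ∈ invs6 := fun {x} hx =>
    mem_invs6 _ (by rw [← map_mul, (hinvs x hx).1, map_one]) fun h' =>
      (hinvs x hx).2 (e.injective (h'.trans (map_one e).symm))
  have hcfg := h
  simp only [config6, Bool.and_eq_true, beq_iff_eq, bne_iff_ne] at h
  obtain ⟨⟨⟨⟨⟨⟨⟨⟨c1, c2⟩, c3⟩, c4⟩, c5⟩, c6⟩, c7⟩, c8⟩, c9⟩ := h
  have hWe : e W ∈ threes6 := mem_threes6 _ (by rw [← map_mul, ← map_mul, (hthr W hW).1, map_one]) fun h' =>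
    (hthr W hW).2 (e.injective (h'.trans (map_one e).symm))
  have hcfg' : config6 (e Z) (e W) (e A) (e B) = true := by
    simp only [config6, Bool.and_eq_true, beq_iff_eq, bne_iff_ne, ← map_mul]
    exact ⟨⟨⟨⟨⟨⟨⟨⟨congrArg e c1, fun h' => c2 (e.injective h')⟩, fun h' => c3 (e.injective h')⟩, congrArg e c4⟩,
      congrArg e c5⟩, congrArg e c6⟩, congrArg e c7⟩, congrArg e c8⟩, fun h' => c9 (e.injective h')⟩
  have h3 := config_third (e Z) hp (e W) hWe (by rw [← map_mul, ← map_mul, c1]) (e A) (hi hA)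
    (by simp only [← map_mul, c4]) (by simp only [← map_mul, c5]) (e B) (hi hB) hcfg'
  simp only [third6, List.any_eq_true, Bool.and_eq_true, beq_iff_eq, bne_iff_ne, List.all_eq_true,
    Bool.or_eq_true, Bool.not_eq_true', List.contains_iff_mem] at h3
  obtain ⟨U, hU, ⟨⟨⟨⟨⟨⟨⟨⟨u1, u2⟩, u3⟩, u4⟩, u5⟩, q, hqm, uq1, uq2⟩, r, hrm, ur1, ur2⟩, y, -, uy, a, -, b, -, uab⟩,
    uall⟩⟩ := h3
  obtain ⟨U, rfl⟩ := e.surjective U
  obtain ⟨q, rfl⟩ := e.surjective q
  obtain ⟨r, rfl⟩ := e.surjective r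
  obtain ⟨y, rfl⟩ := e.surjective y
  obtain ⟨k, hk⟩ := e.surjective (a * b)
  rw [← hk] at uab
  simp only [← map_mul] at u1 u2 u5 uq1 uq2 ur1 ur2 uy uab
  have hy : k * (Z * W) * k⁻¹ = y := by rw [e.injective uab, mul_inv_cancel_right]
  have hinv : ∀ x : P6, e x ∈ invs6 → x⁻¹ = x := fun x hx => inv_eq_of_mul_eq_one_right
    (e.injective (by rw [map_mul, (hinvs _ hx).1, map_one]))
  refine ⟨U, q, r, k, e.injective u1, e.injective u2, fun h' => u3 (congrArg e h'), fun h' => u4 (congrArg e h'),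
    fun h' => u5 (congrArg e h'), ?_, ?_, ?_, ?_, ?_, ?_⟩
  · rw [hinv q hqm]; exact e.injective uq1
  · rw [hinv q hqm]; exact e.injective uq2
  · rw [hinv r hrm]; exact e.injective ur1
  · rw [hinv r hrm]; exact e.injective ur2
  · rw [hy]; exact e.injective uy
  · intro x hx hx1 hxA hxB
    rcases uall (e x) (hi (mem_invs6 x hx hx1)) with hh | hh
    · simp only [← map_mul, hxA, hxB, beq_self_eq_true, Bool.and_self, Bool.true_eq_false] at hh
    · simp only [← map_mul, List.mem_cons, List.not_mem_nil, or_false, e.injective.eq_iff] at hh ⊢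
      exact hh

variable {G : Type*} [Group G] [Finite G] {X : Frame G}

namespace Frame

variable (he : X.eps = true)
include he

theorem g_sBc : X.g (sB * cT) = X.f sA := by
  have := X.g_vals.2.2.2.1
  rwa [he, show tw true = cT from rfl] at this

theorem g_sAc : X.g (sA * cT) = X.f sB := by
  have := X.g_vals.2.2.2.2
  rwa [he, show tw true = cT from rfl] at this

theorem g_sA : X.g sA = X.f (sB * cT) := by
  rw [map_mul X.f, ← X.g_sAc he, ← X.g_vals.2.2.1, ← map_mul, mul_assoc,
    show (cT : F) * cT = 1 from (pow_two cT).symm.trans gen_facts.2.2.2.2.2.2.1, mul_one]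

theorem g_sB : X.g sB = X.f (sA * cT) := by
  rw [map_mul X.f, ← X.g_sBc he, ← X.g_vals.2.2.1, ← map_mul, mul_assoc,
    show (cT : F) * cT = 1 from (pow_two cT).symm.trans gen_facts.2.2.2.2.2.2.1, mul_one]

end Frame

theorem conj_facts : (∃ p : F, p * (sA * cT) * p⁻¹ = sA * sB) ∧ (∃ p : F, p * cT * p⁻¹ = sB) ∧
    (∀ q : F, q * sA = sA * q → q * zW = zW * q → q * zZ = zZ⁻¹ * q ∨ q * zZ = zZ * q) := by decide +kernel

theorem pair_facts : sA * cT = cT * sA ∧ sB * cT = cT * sB ∧ sA * (sB * cT) = sB * cT * sA ∧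
    cT * sA * (sB * cT) = sA * sB ∧ sA ≠ cT ∧ sA ≠ 1 ∧ sB * cT ≠ cT ∧ sB * cT ≠ 1 ∧ sB * cT ≠ sA ∧
    sA * cT ≠ cT ∧ sA * (sB * cT) ≠ 1 ∧ sA * (sB * cT) ≠ cT := by decide +kernel

/-- the linking element at `w` -/
def rho : F := (1, swap 0 3 * swap 1 4)

theorem rho_facts : rho * rho = 1 ∧ rho * (sB * cT) * rho = sB * cT ∧ rho * sA * rho = sA ∧
    rho * cT * rho = sB ∧ sB = (sB * cT) * cT := by decide +kernel

/-- The first class of involutions: not conjugate to `c`. -/
theorem Hyp.not_conj_c_a (H : Hyp X) (he : X.eps = true) : ¬ IsConj (X.f cT) (X.f sA) := by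
  intro h
  refine not_conj_double X.f_inj X.f_range H.index_D ?_
  have h1 : IsConj (X.f (sB * cT)) (X.f sA) := isConj_iff.2 ⟨X.γ, X.g_sBc he⟩
  exact h.trans h1.symm

theorem Hyp.conj_a_b (H : Hyp X) (he : X.eps = true) : IsConj (X.f sA) (X.f (sB * cT)) :=
  isConj_iff.2 ⟨X.γ, X.g_sA he⟩

/-- No conjugate of the first involution centralizes a mixed element. -/
theorem Hyp.not_cent_mixed (H : Hyp X) (he : X.eps = true) {q : F} (hq : q ∈ listD) (h1 : q.1 ≠ 1) (h2 : q.2 ≠ 1)
    {j : G} (hj : IsConj (X.f sA) j) (hjy : j * X.f q = X.f q * j) : False := by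
  haveI : Fact (Nat.Prime 3) := ⟨Nat.prime_three⟩
  obtain ⟨g, rfl⟩ := isConj_iff.1 hj
  obtain ⟨hz3, hw3, -, -, hw1, -⟩ := gen_facts
  set W := centralizer ({X.f sA} : Set G)
  have hwW : X.f zW ∈ W := mem_centralizer_singleton_iff.2 (by
    rw [← map_mul, ← map_mul]; exact congrArg X.f rel_ab.2.1.symm)
  set y := g⁻¹ * X.f q * g with hy
  have hy3 : y ^ 3 = 1 := by
    rw [hy, show g⁻¹ * X.f q * g = g⁻¹ * X.f q * g⁻¹⁻¹ by group, conj_pow, ← map_pow,
      mixed_coords.2.2.2.1 q hq, map_one, mul_one, mul_inv_cancel]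
  have hy1 : y ≠ 1 := fun e => by
    have e' : X.f q = 1 := by
      calc X.f q = g * (g⁻¹ * X.f q * g) * g⁻¹ := by group
        _ = 1 := by rw [← hy, e, mul_one, mul_inv_cancel]
    exact h1 (by rw [X.f_inj (e'.trans (map_one X.f).symm)]; rfl)
  have hyW : y ∈ W := by
    rw [mem_centralizer_singleton_iff, hy]
    calc g⁻¹ * X.f q * g * X.f sA = g⁻¹ * (X.f q * (g * X.f sA * g⁻¹)) * g := by group
      _ = g⁻¹ * ((g * X.f sA * g⁻¹) * X.f q) * g := by rw [hjy]
      _ = _ := by group
  -- the Sylow subgroup of the centralizer has order three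
  have h24 : ¬ 9 ∣ Nat.card (W ⊓ centralizer ({X.f zW} : Set G) : Subgroup G) := by
    intro h9
    have hle : (W ⊓ centralizer ({X.f zW} : Set G) : Subgroup G) ≤
        (centralizer ({zZ} : Set F) ⊓ centralizer ({sB * cT} : Set F) : Subgroup F).map X.g := by
      rintro x ⟨hxa, hxw⟩
      obtain ⟨p, rfl, hpz⟩ := X.exists_coord_w (mem_centralizer_singleton_iff.1 hxw)
      refine ⟨p, ⟨mem_centralizer_singleton_iff.2 hpz, mem_centralizer_singleton_iff.2 (X.g_inj ?_)⟩, rfl⟩
      rw [map_mul X.g p, map_mul X.g _ p, X.g_sBc he]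
      exact mem_centralizer_singleton_iff.1 hxa
    have := h9.trans (card_dvd_of_le hle)
    rw [card_map_of_injective X.g_inj, show Nat.card (centralizer ({zZ} : Set F) ⊓
      centralizer ({sB * cT} : Set F) : Subgroup F) = 24 from (by
        rw [← card_cent_double, ← Nat.card_eq_fintype_card]
        exact Nat.card_congr (Equiv.subtypeEquivRight fun p => by
          rw [mem_inf, mem_centralizer_singleton_iff, mem_centralizer_singleton_iff]))] at this
    norm_num at this
  have hp : IsPGroup 3 (zpowers (⟨X.f zW, hwW⟩ : W)) := IsPGroup.of_card (n := 1) (by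
    rw [Nat.card_zpowers, pow_one, Subgroup.orderOf_mk]
    exact orderOf_eq_prime (by rw [← map_pow, hw3, map_one]) fun e => hw1 (X.f_inj (e.trans (map_one X.f).symm)))
  obtain ⟨P, hP⟩ := hp.exists_le_sylow
  obtain ⟨S, hS⟩ := (P.2.map W.subtype).exists_le_sylow
  have hDS : IsPGroup 3 X.D := IsPGroup.of_card (n := 2) (by rw [X.card_D]; norm_num)
  obtain ⟨k, hk⟩ := MulAction.exists_smul_eq G S (hDS.toSylow H.index_D)
  have hm : ∀ u ∈ (P : Subgroup W), k * (u : G) * k⁻¹ ∈ X.D := fun u hu => by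
    have h : k * (u : G) * k⁻¹ ∈ ((k • S : Sylow 3 G) : Subgroup G) := by
      rw [Sylow.coe_subgroup_smul]; exact ⟨u, hS ⟨u, hu, rfl⟩, rfl⟩
    rw [hk] at h
    exact h
  have hP9 : Nat.card (P : Subgroup W) = 3 := by
    obtain ⟨n, hn⟩ := IsPGroup.iff_card.1 P.2
    have hle : (P : Subgroup W).map W.subtype ≤ (W ⊓ centralizer ({X.f zW} : Set G) : Subgroup G) := by
      rintro _ ⟨u, hu, rfl⟩
      refine ⟨u.2, mem_centralizer_singleton_iff.2 ?_⟩
      have h := X.D_comm (hm u hu) (hm _ (hP (mem_zpowers _)))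
      rw [conj_mul, conj_mul] at h
      exact mul_left_cancel (mul_right_cancel h)
    have hd := card_dvd_of_le hle
    rw [card_map_of_injective W.subtype_injective, hn] at hd
    have h3 : 3 ≤ Nat.card (P : Subgroup W) := by
      have := card_le_of_le hP
      rwa [Nat.card_zpowers, Subgroup.orderOf_mk, orderOf_eq_prime (by rw [← map_pow, hw3, map_one])
        fun e => hw1 (X.f_inj (e.trans (map_one X.f).symm))] at this
    rcases n with _ | _ | n
    · rw [hn] at h3; norm_num at h3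
    · rw [hn]; norm_num
    · exact absurd ((pow_dvd_pow 3 (show 2 ≤ n + 2 by omega)).trans hd) h24
  have hPz : (P : Subgroup W) = zpowers (⟨X.f zW, hwW⟩ : W) := by
    refine (eq_of_le_of_card_ge hP ?_).symm
    rw [hP9, Nat.card_zpowers, Subgroup.orderOf_mk, orderOf_eq_prime (by rw [← map_pow, hw3, map_one])
      fun e => hw1 (X.f_inj (e.trans (map_one X.f).symm))]
  obtain ⟨R, hR⟩ := (show IsPGroup 3 (zpowers (⟨y, hyW⟩ : W)) from IsPGroup.of_card (n := 1) (by
    rw [Nat.card_zpowers, pow_one, Subgroup.orderOf_mk, orderOf_eq_prime hy3 hy1])).exists_le_sylow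
  obtain ⟨l, hl⟩ := MulAction.exists_smul_eq W R P
  have hly : l * ⟨y, hyW⟩ * l⁻¹ ∈ zpowers (⟨X.f zW, hwW⟩ : W) := by
    rw [← hPz, ← hl, Sylow.coe_subgroup_smul]
    exact ⟨_, hR (mem_zpowers _), rfl⟩
  obtain ⟨n, hn⟩ := mem_zpowers_iff.1 hly
  set v := (l : G) * y * (l : G)⁻¹
  have hv : v ∈ zpowers (X.f zW) := mem_zpowers_iff.2 ⟨n, by
    have := congrArg Subtype.val hn
    simpa using this⟩
  -- so the mixed element has a large centralizer
  have hcv : Nat.card (centralizer ({v} : Set G)) = 36 := by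
    have e : IsConj (X.f q) v := isConj_iff.2 ⟨(l : G) * g⁻¹, by show _ = (l : G) * y * (l : G)⁻¹; rw [hy]; group⟩
    obtain ⟨k, hk⟩ := isConj_iff.1 e
    rw [← (H.mixed q hq h1 h2).1, ← hk]
    refine Nat.card_congr (((MulAut.conj k).toEquiv.subtypeEquiv fun x => ?_).symm)
    rw [mem_centralizer_singleton_iff, mem_centralizer_singleton_iff]
    show _ ↔ k * x * k⁻¹ * (k * X.f q * k⁻¹) = k * X.f q * k⁻¹ * (k * x * k⁻¹)
    rw [conj_mul, conj_mul]
    exact ⟨fun h => by rw [h], fun h => mul_left_cancel (mul_right_cancel h)⟩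
  obtain ⟨m, hm'⟩ := mem_zpowers_iff.1 hv
  have hle : (centralizer ({zZ} : Set F)).map X.g ≤ centralizer ({v} : Set G) := by
    rintro _ ⟨p, hp, rfl⟩
    rw [mem_centralizer_singleton_iff, ← hm']
    have hc : Commute (X.g p) (X.f zW) := by
      show _ = _
      rw [← X.g_vals.1, ← map_mul, ← map_mul, mem_centralizer_singleton_iff.1 hp]
    exact (hc.zpow_right m).eq
  have := card_le_of_le hle
  rw [card_map_of_injective X.g_inj, hcv, show Nat.card (centralizer ({zZ} : Set F)) = 360 from (by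
    rw [← card_cent_z, ← Nat.card_eq_fintype_card]
    exact Nat.card_congr (Equiv.subtypeEquivRight fun q => mem_centralizer_singleton_iff))] at this
  omega

/-- In the twisted orientation the centralizer of `c` normalizes `D`. -/
theorem Hyp.cent_c_le (H : Hyp X) (he : X.eps = true) :
    centralizer ({X.f cT} : Set G) ≤ normalizer (X.D : Set G) := by
  classical
  refine H.cent_c.resolve_right ?_
  set C := centralizer ({X.f cT} : Set G) with hCdef
  rintro ⟨π, hπs, hπ⟩
  obtain ⟨pac, pbc, pab, pcab, pa1, pa2, pb1, pb2, pba, pac1, pab1, pab2⟩ := pair_facts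
  obtain ⟨-, -, hzw, hz1, hw1, -, -, hcz, hcw, ha2, hb2, -, -⟩ := gen_facts
  obtain ⟨hza, hwa, hzb, hwb, -, -⟩ := rel_ab
  have hmem : ∀ q : F, q * cT = cT * q → X.f q ∈ C := fun q hq => by
    rw [hCdef, mem_centralizer_singleton_iff, ← map_mul, ← map_mul, hq]
  set z : C := ⟨_, hmem zZ hcz.symm⟩
  set w : C := ⟨_, hmem zW hcw.symm⟩
  set s : C := ⟨_, hmem sA pac⟩
  set s' : C := ⟨_, hmem (sB * cT) (by rw [← mul_assoc cT sB cT, ← pbc])⟩
  set c : C := ⟨X.f cT, hmem cT rfl⟩
  have hker : ∀ x : C, π x = 1 → x = 1 ∨ x = c := fun x hx =>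
    ((hπ x).1 hx).imp (fun h => Subtype.ext h) (fun h => Subtype.ext h)
  have hcc : c * c = 1 := Subtype.ext X.c_sq
  have hccen : ∀ x : C, Commute c x := fun x => Subtype.ext (mem_centralizer_singleton_iff.1 x.2).symm
  have hFC : ∀ {p q : F} (hp : p * cT = cT * p) (hq : q * cT = cT * q), p = q →
      (⟨_, hmem p hp⟩ : C) = ⟨_, hmem q hq⟩ := fun {p q} hp hq h => Subtype.ext (congrArg X.f h)
  -- relations in the centralizer
  have hs2 : s * s = 1 := Subtype.ext (by
    show X.f sA * X.f sA = 1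
    rw [← map_mul, ← pow_two, ha2, map_one])
  have hs'2 : s' * s' = 1 := Subtype.ext (by
    show X.f (sB * cT) * X.f (sB * cT) = 1
    rw [← map_mul, show (sB * cT) * (sB * cT) = 1 by decide +kernel, map_one])
  have hval : ∀ (a b : C) (p q : F), (a : G) = X.f p → (b : G) = X.f q → p = q → a = b := fun a b p q ha hb h =>
    Subtype.ext (by rw [ha, hb, h])
  have hz3 : z * z * z = 1 := hval _ _ (zZ * zZ * zZ) 1 (by simp [z]) (map_one X.f).symm (by decide +kernel)
  have hw3 : w * w * w = 1 := hval _ _ (zW * zW * zW) 1 (by simp [w]) (map_one X.f).symm (by decide +kernel)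
  have hne : ∀ (a : C) (p : F), (a : G) = X.f p → p ≠ 1 → p ≠ cT → π a ≠ 1 := by
    intro a p ha h1 h2 h
    rcases hker a h with e | e
    · rw [e] at ha; exact h1 (X.f_inj (ha.symm.trans (map_one X.f).symm))
    · rw [e] at ha; exact h2 (X.f_inj ha.symm)
  have hA : π s ∈ invs6 := mem_invs6 _ (by rw [← map_mul, hs2, map_one]) (hne s sA rfl pa2 pa1)
  have hB : π s' ∈ invs6 := mem_invs6 _ (by rw [← map_mul, hs'2, map_one]) (hne s' _ rfl pb2 pb1)
  have hZ : π z ∈ threes6 := mem_threes6 _ (by rw [← map_mul, ← map_mul, hz3, map_one])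
    (hne z zZ rfl hz1 (by decide +kernel))
  have hW : π w ∈ threes6 := mem_threes6 _ (by rw [← map_mul, ← map_mul, hw3, map_one])
    (hne w zW rfl hw1 (by decide +kernel))
  have hAB : π s ≠ π s' := fun h => hne (s * s') (sA * (sB * cT)) (map_mul X.f _ _).symm pab1 pab2
    (by rw [map_mul, ← h, ← map_mul, hs2, map_one])
  have hneq : ∀ (a b : C) (p q : F), (a : G) = X.f p → (b : G) = X.f q → p ≠ q → p ≠ q * cT → π a ≠ π b := by
    intro a b p q ha hb h1 h2 h
    have e : π (b⁻¹ * a) = 1 := by rw [map_mul, map_inv, h, inv_mul_cancel]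
    rcases hker _ e with e' | e'
    · rw [inv_mul_eq_one] at e'
      exact h1 (X.f_inj (by rw [← ha, ← hb, e']))
    · rw [inv_mul_eq_iff_eq_mul] at e'
      exact h2 (X.f_inj (by rw [← ha, e', map_mul, ← hb]; rfl))
  have hcfg : config6 (π z) (π w) (π s) (π s') = true := by
    simp only [config6, Bool.and_eq_true, beq_iff_eq, bne_iff_ne, ← map_mul]
    refine ⟨⟨⟨⟨⟨⟨⟨⟨?_, ?_⟩, ?_⟩, ?_⟩, ?_⟩, ?_⟩, ?_⟩, ?_⟩, hAB⟩
    · exact congrArg π (hval _ _ (zZ * zW) (zW * zZ) (by simp [z, w]) (by simp [z, w]) hzw)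
    · exact hneq w z zW zZ rfl rfl (by decide +kernel) (by decide +kernel)
    · exact hneq w (z * z) zW (zZ * zZ) rfl (by simp [z]) (by decide +kernel) (by decide +kernel)
    · exact congrArg π (hval _ _ (sA * zZ * sA) (zZ * zZ) (by simp [z, s]) (by simp [z]) (by decide +kernel))
    · exact congrArg π (hval _ _ (sA * zW) (zW * sA) (by simp [w, s]) (by simp [w, s]) hwa)
    · exact congrArg π (hval _ _ (sB * cT * zZ) (zZ * (sB * cT)) (by simp [z, s']) (by simp [z, s']) (by decide +kernel))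
    · exact congrArg π (hval _ _ (sB * cT * zW * (sB * cT)) (zW * zW) (by simp [w, s']) (by simp [w]) (by decide +kernel))
    · exact congrArg π (hval _ _ (sA * (sB * cT)) (sB * cT * sA) (by simp [s, s']) (by simp [s, s']) pab)
  obtain ⟨U, Q, R, K, hAU, hBU, hUA, hUB, hUAB, hQA, hQB, hRA, hRB, hYc, hall⟩ := third_of_config hZ hW hA hB hcfg
  obtain ⟨q, rfl⟩ := hπs Q
  obtain ⟨r, rfl⟩ := hπs R
  obtain ⟨k, rfl⟩ := hπs K
  set u : C := q * s * q⁻¹ with hu
  have hπu : π u = U := by rw [hu, map_mul, map_mul, map_inv, hQA]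
  -- the classes
  have hnca : ¬ IsConj (X.f cT) (X.f sA) := H.not_conj_c_a he
  have hsc : IsConj (X.f cT) ((s : G) * X.f cT) := by
    refine isConj_iff.2 ?_
    obtain ⟨p, hp⟩ := conj_facts.2.1
    refine ⟨X.g p, ?_⟩
    show _ = X.f sA * X.f cT
    rw [← map_mul, ← X.g_sB he, ← X.g_vals.2.2.1, ← map_inv, ← map_mul, ← map_mul, hp]
  have hs'c : IsConj (X.f cT) ((s' : G) * X.f cT) := by
    obtain ⟨p, hp⟩ := conj_facts.2.1
    refine isConj_iff.2 ⟨X.f p, ?_⟩
    show _ = X.f (sB * cT) * X.f cT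
    rw [← map_inv, ← map_mul, ← map_mul, hp, ← map_mul, mul_assoc,
      show (cT : F) * cT = 1 by decide +kernel, mul_one]
  have hcsym : ∀ (x : C) (a : G), IsConj a ((x : G)) → ∀ k : C, IsConj a ((k * x * k⁻¹ : C) : G) := fun x a h k =>
    h.trans (isConj_iff.2 ⟨k, rfl⟩)
  have hss' : IsConj (X.f sA) (s' : G) := H.conj_a_b he
  -- lifts in the first class are unique
  have hlift : ∀ (x y : C) (k : C), (x = k * s * k⁻¹ ∨ x = k * s' * k⁻¹) → IsConj (X.f sA) (y : G) → π x = π y →
      x = y := by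
    intro x y k hx hy hxy
    have e : π (x⁻¹ * y) = 1 := by rw [map_mul, map_inv, hxy, inv_mul_cancel]
    rcases hker _ e with e' | e'
    · exact (inv_mul_eq_one.1 e')
    · exfalso
      rw [inv_mul_eq_iff_eq_mul] at e'
      refine hnca (IsConj.trans ?_ hy.symm)
      rcases hx with rfl | rfl
      · rw [e', show k * s * k⁻¹ * c = k * (s * c) * k⁻¹ by
          rw [mul_assoc, ← (hccen k⁻¹).eq]; group]
        exact hcsym (s * c) _ hsc k
      · rw [e', show k * s' * k⁻¹ * c = k * (s' * c) * k⁻¹ by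
          rw [mul_assoc, ← (hccen k⁻¹).eq]; group]
        exact hcsym (s' * c) _ hs'c k
  have hus : IsConj (X.f sA) (u : G) := isConj_iff.2 ⟨q, rfl⟩
  have hqs' : q * s' * q⁻¹ = s' := hlift _ _ q (Or.inr rfl) hss' (by rw [map_mul, map_mul, map_inv, hQB])
  have hrs : r * s * r⁻¹ = s := hlift _ _ r (Or.inl rfl) (IsConj.refl _) (by rw [map_mul, map_mul, map_inv, hRA])
  have hrs' : r * s' * r⁻¹ = u := hlift _ _ r (Or.inr rfl) hus (by rw [map_mul, map_mul, map_inv, hRB, hπu])
  have hu2 : u * u = 1 := by rw [hu, conj_mul, hs2, mul_one, mul_inv_cancel]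
  have hcomm : ∀ a : C, π a * π u = π u * π a → a * u * a⁻¹ = u := fun a ha =>
    hlift _ _ (a * q) (Or.inl (by rw [hu]; group)) hus
      (by rw [map_mul, map_mul, map_inv, ha, mul_inv_cancel_right])
  have hsu : Commute s u := mul_inv_eq_iff_eq_mul.1 (hcomm s (by rw [hπu]; exact hAU))
  have hs'u : Commute s' u := mul_inv_eq_iff_eq_mul.1 (hcomm s' (by rw [hπu]; exact hBU))
  have hss : Commute s s' := Subtype.ext (by
    show X.f sA * X.f (sB * cT) = X.f (sB * cT) * X.f sA
    rw [← map_mul, ← map_mul, pab])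
  -- seven conjugates of `c`
  have hcs : IsConj (X.f cT) ((c * s : C) : G) := by rw [(hccen s).eq]; exact hsc
  have hcs' : IsConj (X.f cT) ((c * s' : C) : G) := by rw [(hccen s').eq]; exact hs'c
  have hcss' : IsConj (X.f cT) ((c * s * s' : C) : G) := by
    obtain ⟨p, hp⟩ := conj_facts.1
    refine hsc.trans (isConj_iff.2 ⟨X.f p, ?_⟩)
    show X.f p * (X.f sA * X.f cT) * (X.f p)⁻¹ = X.f cT * X.f sA * X.f (sB * cT)
    rw [← map_mul X.f sA, ← map_inv, ← map_mul, ← map_mul, hp, ← map_mul, ← map_mul, pcab]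
  have hconjc : ∀ a : C, a * c * a⁻¹ = c := fun a => by rw [← (hccen a).eq, mul_inv_cancel_right]
  have hcu : IsConj (X.f cT) ((c * u : C) : G) := by
    have := hcsym _ _ hcs q
    rwa [← conj_mul, hconjc, ← hu] at this
  have hcsu : IsConj (X.f cT) ((c * s * u : C) : G) := by
    have := hcsym _ _ hcss' r
    rwa [← conj_mul, ← conj_mul, hconjc, hrs, hrs'] at this
  have hcs'u : IsConj (X.f cT) ((c * u * s' : C) : G) := by
    have := hcsym _ _ hcss' q
    rwa [← conj_mul, ← conj_mul, hconjc, ← hu, hqs'] at this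
  -- the eighth element centralizes a mixed element
  set T := s * s' * u with hT
  set y := k * (z * w) * k⁻¹ with hy
  have hy3 : y * y * y = 1 := by
    rw [hy, conj_mul, conj_mul, show z * w * (z * w) * (z * w) = 1 from
      hval _ _ (zZ * zW * (zZ * zW) * (zZ * zW)) 1 (by simp [z, w]) (map_one X.f).symm (by decide +kernel),
      mul_one, mul_inv_cancel]
  have hTy : T * y = y * T := by
    have hπ' : π (T * y) = π (y * T) := by
      simp only [hT, hy, map_mul, map_inv, hπu]; exact hYc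
    have e : π ((y * T)⁻¹ * (T * y)) = 1 := by rw [map_mul, map_inv, ← hπ', inv_mul_cancel]
    rcases hker _ e with e' | e'
    · exact (inv_mul_eq_one.1 e').symm
    · exfalso
      rw [inv_mul_eq_iff_eq_mul] at e'
      -- T⁻¹ y T = y c contradicts the order of y
      have e2 : T * y * T⁻¹ = y * c := by
        calc T * y * T⁻¹ = y * T * c * T⁻¹ := by rw [e']
          _ = y * (T * c * T⁻¹) := by group
          _ = y * c := by rw [hconjc]
      have h3 : (y * c) * (y * c) * (y * c) = 1 := by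
        rw [← e2, conj_mul, conj_mul, hy3, mul_one, mul_inv_cancel]
      rw [(hccen y).mul_mul_mul_comm, hcc, mul_one, ← mul_assoc, hy3, one_mul] at h3
      exact X.c_ne (congrArg Subtype.val h3)
  have hmixq : ∀ x : C, x * y = y * x →
      ¬ IsConj (X.f sA) (x : G) ∧ (IsConj (X.f cT) (x : G) → (x : G) = X.f cT) := by
    intro x hx
    have h1 : (k⁻¹ * x * k) * (z * w) = (z * w) * (k⁻¹ * x * k) := by
      calc k⁻¹ * x * k * (z * w) = k⁻¹ * (x * y) * k := by rw [hy]; group
        _ = k⁻¹ * (y * x) * k := by rw [hx]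
        _ = _ := by rw [hy]; group
    have h2 : ((k⁻¹ * x * k : C) : G) * X.f (zZ * zW) = X.f (zZ * zW) * ((k⁻¹ * x * k : C) : G) := by
      rw [map_mul]
      exact congrArg Subtype.val h1
    obtain ⟨m1, m2, m3, -, -⟩ := mixed_coords
    refine ⟨fun h => H.not_cent_mixed he m3 m1 m2 ?_ h2, fun h => ?_⟩
    · have := hcsym x _ h k⁻¹
      rwa [inv_inv] at this
    · have hh := hcsym x _ h k⁻¹
      rw [inv_inv] at hh
      have e := H.eq_c m3 m1 m2 hh h2
      have e2 : k⁻¹ * x * k = c := Subtype.ext e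
      have e3 : x = c := by
        calc x = k * (k⁻¹ * x * k) * k⁻¹ := by group
          _ = c := by rw [e2, hconjc]
      rw [e3]
  have hTne : T ≠ 1 := fun h => by
    have h' := congrArg π h
    rw [hT, map_mul, map_mul, map_one, hπu] at h'
    refine hUAB (mul_left_cancel (a := π s * π s') ?_)
    rw [h', ← map_mul, ← map_mul, show s * s' * (s * s') = 1 by
      rw [mul_assoc, ← mul_assoc s' s s', ← hss.eq, mul_assoc s s' s', hs'2, mul_one, hs2], map_one]
  have hTs : ¬ IsConj (X.f sA) (T : G) := (hmixq T hTy).1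
  have hN : ¬ IsConj (X.f cT) ((c * T : C) : G) := fun h => by
    have hc' : (c * T) * y = y * (c * T) := by rw [mul_assoc, hTy, ← mul_assoc, (hccen y).eq, mul_assoc]
    have := (hmixq _ hc').2 h
    exact hTne (mul_left_cancel (a := c) ((Subtype.ext this : c * T = c).trans (mul_one c).symm))
  have hcTs : ¬ IsConj (X.f sA) ((c * T : C) : G) :=
    (hmixq _ (by rw [mul_assoc, hTy, ← mul_assoc, (hccen y).eq, mul_assoc])).1
  -- the linking element
  obtain ⟨hr2, hrb, hra, hrc, hbb⟩ := rho_facts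
  set ρ := X.g rho with hρ
  have hρ2 : ρ * ρ = 1 := by rw [hρ, ← map_mul, hr2, map_one]
  have hρs : ρ * (s : G) * ρ = (s : G) := by
    show X.g rho * X.f sA * X.g rho = X.f sA
    rw [← X.g_sBc he, ← map_mul, ← map_mul, hrb]
  have hρs' : ρ * (s' : G) * ρ = (s' : G) := by
    show X.g rho * X.f (sB * cT) * X.g rho = X.f (sB * cT)
    rw [← X.g_sA he, ← map_mul, ← map_mul, hra]
  have hρc : ρ * X.f cT * ρ = X.f cT * (s : G) := by
    show X.g rho * X.f cT * X.g rho = X.f cT * X.f sA
    rw [← X.g_vals.2.2.1, ← X.g_sBc he, ← map_mul, ← map_mul, hrc, ← map_mul]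
    exact congrArg X.g (by decide +kernel)
  have hconj : ∀ x x' : G, ρ * x * ρ = x' → IsConj x x' := fun x x' h =>
    isConj_iff.2 ⟨ρ, by rw [inv_eq_of_mul_eq_one_right hρ2]; exact h⟩
  have hmul : ∀ x x' : G, ρ * (x * x') * ρ = (ρ * x * ρ) * (ρ * x' * ρ) := fun x x' => by
    calc ρ * (x * x') * ρ = ρ * x * (1 : G) * x' * ρ := by group
      _ = _ := by rw [← hρ2]; group
  set v := ρ * (u : G) * ρ with hv
  have hvC : v ∈ C := by
    rw [hCdef, mem_centralizer_singleton_iff]
    have e : X.f cT = (ρ * X.f cT * ρ) * (ρ * (s : G) * ρ) := by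
      rw [hρc, hρs, mul_assoc, show (s : G) * s = 1 from congrArg Subtype.val hs2, mul_one]
    rw [e, hv, ← hmul (X.f cT) s, ← hmul, ← hmul]
    congr 2
    exact congrArg Subtype.val ((hccen u).mul_left hsu).eq.symm
  set vC : C := ⟨v, hvC⟩
  have hvs : IsConj (X.f sA) v := hus.trans (hconj _ _ rfl)
  have hv2 : vC * vC = 1 := Subtype.ext (by
    show v * v = 1
    rw [hv, ← hmul, show (u : G) * u = 1 from congrArg Subtype.val hu2, mul_one, hρ2])
  have hvcomm : ∀ x : C, Commute u x → ρ * (x : G) * ρ = x → vC * x = x * vC := fun x hx hρx => Subtype.ext (by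
    show v * (x : G) = (x : G) * v
    rw [hv, ← hρx, ← hmul, ← hmul]
    congr 2
    exact congrArg Subtype.val hx.eq)
  have hvne : π vC ≠ 1 := fun h => by
    rcases hker _ h with e | e
    · obtain ⟨g, hg⟩ := isConj_iff.1 hvs.symm
      rw [show v = 1 from congrArg Subtype.val e, mul_one, mul_inv_cancel] at hg
      exact pa2 (X.f_inj (hg.symm.trans (map_one X.f).symm))
    · exact hnca (show IsConj (X.f cT) (X.f sA) from
        (show v = X.f cT from congrArg Subtype.val e) ▸ hvs.symm)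
  have h7 := hall (π vC) (by rw [← map_mul, hv2, map_one]) hvne
    (by rw [← map_mul, ← map_mul, hvcomm s hsu.symm hρs])
    (by rw [← map_mul, ← map_mul, hvcomm s' hs'u.symm hρs'])
  have hsel : ∀ x : C, π vC = π x → vC = x ∨ vC = c * x := fun x hx => by
    have e : π (vC * x⁻¹) = 1 := by rw [map_mul, map_inv, hx, mul_inv_cancel]
    exact (hker _ e).imp (fun e' => mul_inv_eq_one.1 e') (fun e' => mul_inv_eq_iff_eq_mul.1 e')
  have hnc : ∀ x : C, vC = c * x → IsConj (X.f cT) ((c * x : C) : G) → False := fun x hx hh => by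
    rw [← hx] at hh
    exact hnca (hh.trans hvs.symm)
  -- the inner options are impossible
  have hback : ∀ x : C, vC = x → ρ * (x : G) * ρ = (u : G) := fun x hx => by
    rw [← hx]; show ρ * v * ρ = _
    rw [hv, show ρ * (ρ * (u : G) * ρ) * ρ = (ρ * ρ) * (u : G) * (ρ * ρ) by group, hρ2, one_mul, mul_one]
  have hin : ∀ x : C, vC = x → ρ * (x : G) * ρ = (x : G) → π u ≠ π x → False := fun x hx hρx hne' =>
    hne' (congrArg π (Subtype.ext ((hback x hx).symm.trans hρx)))
  -- the image of conjugates of `c` reaching the eighth element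
  have hreach : ∀ x : C, IsConj (X.f cT) (x : G) → ρ * (x : G) * ρ = ((c * T : C) : G) → False := fun x h1 h2 =>
    hN (h1.trans (hconj _ _ h2))
  simp only [List.mem_cons, List.not_mem_nil, or_false] at h7
  rw [← hπu] at h7 hUA hUB hUAB
  simp only [← map_mul] at h7
  rcases h7 with h | h | h | h | h | h | h <;> rcases hsel _ h with e | e
  · exact hin _ e hρs hUA
  · exact hnc _ e hcs
  · exact hin _ e hρs' hUB
  · exact hnc _ e hcs'
  · exact hin _ e (by rw [Subgroup.coe_mul, hmul, hρs, hρs']) (by rw [map_mul π s s']; exact hUAB)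
  · exact hnc _ e (by rw [← mul_assoc]; exact hcss')
  · -- fixed
    refine hreach (c * u * s') hcs'u ?_
    rw [Subgroup.coe_mul, Subgroup.coe_mul, hmul, hmul, hρc, hρs',
      show ρ * (u : G) * ρ = (u : G) from congrArg Subtype.val e]
    show X.f cT * (s : G) * (u : G) * (s' : G) = ((c * T : C) : G)
    exact congrArg Subtype.val (show c * s * u * s' = c * T by
      rw [hT, mul_assoc (c * s) u s', ← hs'u.eq]; group)
  · exact hnc _ e hcu
  · -- moved by the first involution
    have hsu' : IsConj (X.f sA) ((s * u : C) : G) := e ▸ hvs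
    have hss'c : IsConj (X.f sA) ((s * s' : C) : G) := by
      refine hsu'.trans ((isConj_iff.2 ⟨(r : G), ?_⟩ : IsConj ((s * s' : C) : G) ((s * u : C) : G)).symm)
      exact congrArg Subtype.val (show r * (s * s') * r⁻¹ = s * u by rw [← conj_mul, hrs, hrs'])
    have hus' : IsConj (X.f sA) ((u * s' : C) : G) := by
      refine hss'c.trans (isConj_iff.2 ⟨(q : G), ?_⟩)
      exact congrArg Subtype.val (show q * (s * s') * q⁻¹ = u * s' by rw [← conj_mul, ← hu, hqs'])
    refine hTs (hus'.trans (hconj _ _ ?_))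
    rw [Subgroup.coe_mul, hmul, hρs', show ρ * (u : G) * ρ = ((s * u : C) : G) from congrArg Subtype.val e]
    exact congrArg Subtype.val (show s * u * s' = T by rw [hT, mul_assoc, ← hs'u.eq]; group)
  · exact hnc _ e (by rw [← mul_assoc]; exact hcsu)
  · -- moved by the second
    refine hreach (c * u) hcu ?_
    rw [Subgroup.coe_mul, hmul, hρc, show ρ * (u : G) * ρ = ((s' * u : C) : G) from congrArg Subtype.val e]
    exact congrArg Subtype.val (show c * s * (s' * u) = c * T by rw [hT]; group)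
  · exact hnc _ e (by rw [← mul_assoc, mul_assoc c s' u, hs'u.eq, ← mul_assoc]; exact hcs'u)
  · -- moved by both
    refine hreach (c * s * u) hcsu ?_
    rw [Subgroup.coe_mul, Subgroup.coe_mul, hmul, hmul, hρc, hρs,
      show ρ * (u : G) * ρ = ((s * s' * u : C) : G) from congrArg Subtype.val e]
    exact congrArg Subtype.val (show c * s * s * (s * s' * u) = c * T by
      rw [hT, mul_assoc c s s, hs2, mul_one])
  · exact hcTs (e ▸ hvs)

end CfsgLib.Spor.SymEightLocal
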