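import Cfsg.Agent.Lib.Spor.SymEightLocal.Factors
import Cfsg.Agent.Lib.Spor.AltEightLocal.Data

/-!
# The product of the two factors, and its extension by the interchanging element
-/

set_option autoImplicit false
set_option linter.style.haveILetI false
set_option linter.unusedSectionVars false
set_option synthInstance.maxSize 4000
set_option synthInstance.maxHeartbeats 80000

namespace CfsgLib.Spor.SymEightLocal

open Equiv Subgroup

attribute [local instance 5000] List.decidableBAll List.decidableBEx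

/-- the transposition matching the parity -/
def par5 (a : P5) : P5 := if Perm.sign a = 1 then 1 else swap 0 1

/-- the double transposition of the first class -/
def d5 : P5 := swap 3 4 * swap 0 1

/-- pairs of permutations of equal parity -/
def E2 : Subgroup (P5 × P5) :=
  ((Perm.sign.comp (MonoidHom.fst P5 P5)) * (Perm.sign.comp (MonoidHom.snd P5 P5))).ker

theorem mem_E2 {q : P5 × P5} : q ∈ E2 ↔ Perm.sign q.1 = Perm.sign q.2 := by
  rw [E2, MonoidHom.mem_ker]
  show Perm.sign q.1 * Perm.sign q.2 = 1 ↔ _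
  rcases Int.units_eq_one_or (Perm.sign q.1) with h | h <;>
    rcases Int.units_eq_one_or (Perm.sign q.2) with h' | h' <;> rw [h, h'] <;> decide

theorem par5_facts (a : P5) : Perm.sign (a * par5 a) = 1 ∧ par5 a * par5 a = 1 ∧
    (par5 a = 1 ∨ par5 a = swap 0 1) := by
  unfold par5
  rcases Int.units_eq_one_or (Perm.sign a) with h | h <;> simp [h, Perm.sign_mul, swap_mul_self]

theorem par5_mul (a b : P5) : par5 (a * b) = par5 a * par5 b := by
  unfold par5
  rcases Int.units_eq_one_or (Perm.sign a) with h | h <;>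
    rcases Int.units_eq_one_or (Perm.sign b) with h' | h' <;> simp [h, h', Perm.sign_mul, swap_mul_self]

theorem par5_congr {a b : P5} (h : Perm.sign a = Perm.sign b) : par5 a = par5 b := by
  unfold par5; rw [h]

theorem par5_even {a : P5} (h : Perm.sign a = 1) : par5 a = 1 := by
  unfold par5; rw [if_pos h]

theorem cent_five : ∀ b : P5, b * b234 = b234 * b →
    b * (rho.2 * b234 * rho.2) = rho.2 * b234 * rho.2 * b → b = 1 := by decide +kernel

theorem gen_parts : Perm.sign b234 = 1 ∧ Perm.sign (rho.2 * b234 * rho.2) = 1 ∧ Perm.sign d5 = 1 ∧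
    sB * cT = (1, d5) ∧ Perm.sign (swap (0 : Fin 5) 1) = -1 ∧ zW = (1, b234) ∧ cT = (1, swap 0 1) := by
  decide +kernel

theorem invol_five : ∀ a : P5, a * a = 1 → a = 1 ∨
    (Perm.sign a = -1 ∧ ∃ p : P5, Perm.sign p = 1 ∧ p * swap 0 1 * p⁻¹ = a) ∨
    (Perm.sign a = 1 ∧ ∃ p : P5, Perm.sign p = 1 ∧ p * d5 * p⁻¹ = a) := by decide +kernel

theorem three_five : ∀ a : P5, a ^ 3 = 1 → a ≠ 1 → ∃ p : P5, Perm.sign p = 1 ∧ p * b234 * p⁻¹ = a := by
  decide +kernel

theorem first_words : ∀ a : P3, ∃ (i : Fin 3) (j : Fin 2), ((a, 1) : F) = zZ ^ (i : ℕ) * sA ^ (j : ℕ) := by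
  decide +kernel

variable {G : Type*} [Group G] {X : Frame G}

namespace Frame

/-- the first factor with its outer part -/
def A (X : Frame G) : P5 →* G := X.g.comp (MonoidHom.inr P3 P5)

/-- the second factor with its outer part -/
def B (X : Frame G) : P5 →* G := X.f.comp (MonoidHom.inr P3 P5)

theorem A_apply (a : P5) : X.A a = X.g (1, a) := rfl

theorem B_apply (a : P5) : X.B a = X.f (1, a) := rfl

theorem A_tau : X.A (swap 0 1) = X.f cT := X.g_vals.2.2.1

theorem B_tau : X.B (swap 0 1) = X.f cT := rfl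

theorem A_par (a : P5) : X.A (par5 a) = X.B (par5 a) := by
  rcases (par5_facts a).2.2 with h | h <;> rw [h]
  · rw [map_one, map_one]
  · rw [A_tau, B_tau]

theorem A_z : X.A b234 = X.f zZ := X.g_vals.2.1

theorem A_conj (a : P5) : X.A a = X.γ * X.B a * X.γ⁻¹ := rfl

end Frame

variable [Finite G]

/-- The two factors commute on even permutations. -/
theorem Hyp.comm_AB (H : Hyp X) (he : X.eps = true) {b a : P5} (hb : Perm.sign b = 1) (ha : Perm.sign a = 1) :
    Commute (X.B b) (X.A a) := H.factors_commute he hb ha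

/-- the map to the group -/
def psiFun (X : Frame G) (q : P5 × P5) : G :=
  X.A (q.1 * par5 q.1) * X.B (q.2 * par5 q.1) * X.A (par5 q.1)

/-- The pairs of equal parity map to the group. -/
noncomputable def Hyp.psi (H : Hyp X) (he : X.eps = true) : E2 →* G where
  toFun q := psiFun X q
  map_one' := by
    show X.A (1 * par5 1) * X.B (1 * par5 1) * X.A (par5 1) = 1
    rw [par5_even (map_one _), one_mul, map_one, map_one, one_mul, one_mul]
  map_mul' p q := by
    show X.A ((p.1.1 * q.1.1) * par5 (p.1.1 * q.1.1)) * X.B ((p.1.2 * q.1.2) * par5 (p.1.1 * q.1.1)) *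
      X.A (par5 (p.1.1 * q.1.1)) = psiFun X p * psiFun X q
    set a := p.1.1
    set b := p.1.2
    set a' := q.1.1
    set b' := q.1.2
    set t := par5 a with ht
    set t' := par5 a' with ht'
    obtain ⟨-, tt, -⟩ := par5_facts a
    obtain ⟨-, tt', -⟩ := par5_facts a'
    rw [← ht] at tt; rw [← ht'] at tt'
    have htb : t = par5 b := par5_congr (mem_E2.1 p.2)
    have htb' : t' = par5 b' := par5_congr (mem_E2.1 q.2)
    have hbt : Perm.sign (b * t) = 1 := by rw [htb]; exact (par5_facts b).1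
    have hx : Perm.sign (t * (a' * t') * t) = 1 := by
      rw [map_mul, map_mul, mul_right_comm, ← map_mul, tt, map_one, one_mul, (par5_facts a').1]
    have hT : par5 (a * a') = t * t' := par5_mul a a'
    have hAt : X.A t = X.B t := X.A_par a
    have hcc : Commute (X.B (b * t)) (X.A (t * (a' * t') * t)) := H.comm_AB he hbt hx
    symm
    calc psiFun X p * psiFun X q
        = X.A (a * t) * X.B (b * t) * (X.A t * X.A (a' * t') * X.A t) * (X.A t * X.B (b' * t')) * X.A t' := by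
          show X.A (a * t) * X.B (b * t) * X.A t * (X.A (a' * t') * X.B (b' * t') * X.A t') = _
          simp only [mul_assoc]
          rw [← mul_assoc (X.A t) (X.A t), ← map_mul X.A t t, tt, map_one, one_mul]
      _ = X.A (a * t) * (X.A (t * (a' * t') * t) * X.B (b * t)) * (X.B t * X.B (b' * t')) * X.A t' := by
          rw [← map_mul X.A t, ← map_mul X.A _ t, hAt, mul_assoc (X.A (a * t)), hcc.eq]
      _ = X.A (a * t * (t * (a' * t') * t)) * (X.B (b * t) * X.B t * X.B (b' * t')) * X.A t' := by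
          rw [map_mul X.A (a * t)]; simp only [mul_assoc]
      _ = X.A (a * a' * t' * t) * X.B (b * b' * t') * X.A t' := by
          rw [← map_mul X.B, ← map_mul X.B,
            show a * t * (t * (a' * t') * t) = a * (t * t) * a' * t' * t by group,
            show b * t * t * (b' * t') = b * (t * t) * b' * t' by group, tt, mul_one, mul_one]
      _ = X.A (a * a' * t' * t) * X.B (b * b' * t' * t) * X.A (t * t') := by
          rw [map_mul X.A t t', hAt]
          simp only [map_mul, mul_assoc]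
          rw [← mul_assoc (X.B t) (X.B t), ← map_mul X.B t t, tt, map_one, one_mul]
      _ = _ := by
          rw [hT, show t * t' = t' * t by
            rcases (par5_facts a).2.2 with h | h <;> rcases (par5_facts a').2.2 with h' | h' <;>
              rw [← ht] at h <;> rw [← ht'] at h' <;> rw [h, h'] <;> simp]
          simp only [mul_assoc]

variable (H : Hyp X) (he : X.eps = true)

theorem Hyp.psi_apply (q : E2) : H.psi he q = psiFun X q := rfl

/-- The conjugation action on the second factor. -/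
theorem Hyp.psi_conj_B (q : E2) {x : P5} (hx : Perm.sign x = 1) :
    H.psi he q * X.B x * (H.psi he q)⁻¹ = X.B (q.1.2 * x * q.1.2⁻¹) := by
  obtain ⟨ha, tt, -⟩ := par5_facts q.1.1
  set t := par5 q.1.1 with ht
  have hbt : Perm.sign (q.1.2 * t) = 1 := by
    rw [ht, par5_congr (mem_E2.1 q.2)]; exact (par5_facts _).1
  have hm : Perm.sign (q.1.2 * x * q.1.2⁻¹) = 1 := by simp [hx]
  rw [H.psi_apply he]
  show X.A (q.1.1 * t) * X.B (q.1.2 * t) * X.A t * X.B x * (X.A (q.1.1 * t) * X.B (q.1.2 * t) * X.A t)⁻¹ = _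
  calc _ = X.A (q.1.1 * t) * (X.B (q.1.2 * t) * (X.A t * X.B x * (X.A t)⁻¹) * (X.B (q.1.2 * t))⁻¹) *
        (X.A (q.1.1 * t))⁻¹ := by group
    _ = X.A (q.1.1 * t) * X.B (q.1.2 * x * q.1.2⁻¹) * (X.A (q.1.1 * t))⁻¹ := by
      rw [show X.A t = X.B t from X.A_par _, ← map_inv, ← map_inv, ← map_mul, ← map_mul, ← map_mul, ← map_mul]
      congr 2
      rw [show q.1.2 * t * (t * x * t⁻¹) * (q.1.2 * t)⁻¹ = q.1.2 * (t * t) * x * (t * t)⁻¹ * q.1.2⁻¹ by group,
        tt, mul_one, inv_one, mul_one]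
    _ = _ := by
      rw [(H.comm_AB he hm ha).symm.eq, mul_inv_cancel_right]

/-- The conjugation action on the first factor. -/
theorem Hyp.psi_conj_A (q : E2) {x : P5} (hx : Perm.sign x = 1) :
    H.psi he q * X.A x * (H.psi he q)⁻¹ = X.A (q.1.1 * x * q.1.1⁻¹) := by
  obtain ⟨ha, tt, -⟩ := par5_facts q.1.1
  set t := par5 q.1.1 with ht
  have hbt : Perm.sign (q.1.2 * t) = 1 := by
    rw [ht, par5_congr (mem_E2.1 q.2)]; exact (par5_facts _).1
  have hm : Perm.sign (t * x * t⁻¹) = 1 := by simp [hx]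
  rw [H.psi_apply he]
  show X.A (q.1.1 * t) * X.B (q.1.2 * t) * X.A t * X.A x * (X.A (q.1.1 * t) * X.B (q.1.2 * t) * X.A t)⁻¹ = _
  calc _ = X.A (q.1.1 * t) * (X.B (q.1.2 * t) * (X.A t * X.A x * (X.A t)⁻¹) * (X.B (q.1.2 * t))⁻¹) *
        (X.A (q.1.1 * t))⁻¹ := by group
    _ = X.A (q.1.1 * t) * X.A (t * x * t⁻¹) * (X.A (q.1.1 * t))⁻¹ := by
      rw [← map_inv X.A t, ← map_mul, ← map_mul, (H.comm_AB he hbt hm).eq, mul_inv_cancel_right]
    _ = _ := by
      rw [← map_inv, ← map_mul, ← map_mul]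
      congr 1
      rw [show q.1.1 * t * (t * x * t⁻¹) * (q.1.1 * t)⁻¹ = q.1.1 * (t * t) * x * (t * t)⁻¹ * q.1.1⁻¹ by group,
        tt, mul_one, inv_one, mul_one]

theorem Hyp.psi_B (b : P5) : H.psi he ⟨(par5 b, b), mem_E2.2 (by
    rcases Int.units_eq_one_or (Perm.sign b) with h | h <;> simp [par5, h])⟩ = X.B b := by
  rw [H.psi_apply he]
  show X.A (par5 b * par5 (par5 b)) * X.B (b * par5 (par5 b)) * X.A (par5 (par5 b)) = X.B b
  have h : par5 (par5 b) = par5 b := par5_congr (by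
    rcases Int.units_eq_one_or (Perm.sign b) with h | h <;> simp [par5, h])
  rw [h, (par5_facts b).2.1, map_one, one_mul, X.A_par, ← map_mul, mul_assoc, (par5_facts b).2.1, mul_one]

theorem Hyp.psi_A (a : P5) : H.psi he ⟨(a, par5 a), mem_E2.2 (by
    rcases Int.units_eq_one_or (Perm.sign a) with h | h <;> simp [par5, h])⟩ = X.A a := by
  rw [H.psi_apply he]
  show X.A (a * par5 a) * X.B (par5 a * par5 a) * X.A (par5 a) = X.A a
  rw [(par5_facts a).2.1, map_one, mul_one, ← map_mul, mul_assoc, (par5_facts a).2.1, mul_one]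

theorem Hyp.psi_even {a b : P5} (ha : Perm.sign a = 1) (hb : Perm.sign b = 1) :
    H.psi he ⟨(a, b), mem_E2.2 (ha.trans hb.symm)⟩ = X.A a * X.B b := by
  rw [H.psi_apply he]
  show X.A (a * par5 a) * X.B (b * par5 a) * X.A (par5 a) = _
  rw [par5_even ha, mul_one, mul_one, map_one, mul_one]

/-- The map is injective. -/
theorem Hyp.psi_inj : Function.Injective (H.psi he) := by
  refine (injective_iff_map_eq_one _).2 fun q hq => ?_
  obtain ⟨g1, g2, -, -, -, hW, -⟩ := gen_parts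
  have hB : Function.Injective X.B := X.f_inj.comp fun a b h => congrArg Prod.snd h
  have hA : Function.Injective X.A := X.g_inj.comp fun a b h => congrArg Prod.snd h
  have key : ∀ {x : P5}, Perm.sign x = 1 → q.1.2 * x = x * q.1.2 := fun {x} hx => by
    have h := H.psi_conj_B he q hx
    rw [hq, one_mul, inv_one, mul_one] at h
    exact mul_inv_eq_iff_eq_mul.1 (hB h).symm
  have h2 : q.1.2 = 1 := cent_five _ (key g1) (key g2)
  have h1 : Perm.sign q.1.1 = 1 := (mem_E2.1 q.2).trans (by rw [h2, map_one])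
  have h := H.psi_even he h1 (map_one _)
  rw [show (⟨(q.1.1, 1), mem_E2.2 (h1.trans (map_one Perm.sign).symm)⟩ : E2) = q from
    Subtype.ext (Prod.ext rfl h2.symm), hq, map_one, mul_one] at h
  exact Subtype.ext (Prod.ext (hA (h.symm.trans (map_one X.A).symm)) h2)

theorem Hyp.B_mem (b : P5) : X.B b ∈ (H.psi he).range := ⟨_, H.psi_B he b⟩

theorem Hyp.A_mem (a : P5) : X.A a ∈ (H.psi he).range := ⟨_, H.psi_A he a⟩

theorem Hyp.f_mem (q : F) : X.f q ∈ (H.psi he).range := by
  obtain ⟨a, b⟩ := q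
  obtain ⟨i, j, h⟩ := first_words a
  rw [show ((a, b) : F) = (a, 1) * (1, b) by simp, map_mul, h, map_mul, map_pow, map_pow, ← X.g_vals.2.1,
    ← X.g_sBc he, gen_parts.2.2.2.1]
  exact mul_mem (mul_mem (pow_mem (H.A_mem he _) _) (pow_mem (H.A_mem he _) _)) (H.B_mem he b)

theorem Hyp.g_mem (q : F) : X.g q ∈ (H.psi he).range := by
  obtain ⟨a, b⟩ := q
  obtain ⟨i, j, h⟩ := first_words a
  rw [show ((a, b) : F) = (a, 1) * (1, b) by simp, map_mul, h, map_mul, map_pow, map_pow, X.g_vals.1,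
    X.g_sA he, gen_parts.2.2.2.1]
  exact mul_mem (mul_mem (pow_mem (H.B_mem he _) _) (pow_mem (H.B_mem he _) _)) (H.A_mem he b)

omit H he in
theorem Frame.gamma_sq_comm (X : Frame G) :
    X.γ * X.γ * X.f zZ = X.f zZ * (X.γ * X.γ) ∧ X.γ * X.γ * X.f zW = X.f zW * (X.γ * X.γ) := by
  constructor
  · refine mul_inv_eq_iff_eq_mul.1 ?_
    calc X.γ * X.γ * X.f zZ * (X.γ * X.γ)⁻¹ = X.γ * (X.γ * X.f zZ * X.γ⁻¹) * X.γ⁻¹ := by group
      _ = _ := by rw [X.link_z, X.link_w]
  · refine mul_inv_eq_iff_eq_mul.1 ?_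
    calc X.γ * X.γ * X.f zW * (X.γ * X.γ)⁻¹ = X.γ * (X.γ * X.f zW * X.γ⁻¹) * X.γ⁻¹ := by group
      _ = _ := by rw [X.link_w, X.link_z]

theorem Hyp.gamma_sq_mem : X.γ * X.γ ∈ (H.psi he).range := by
  obtain ⟨q, hq, -⟩ := X.exists_coord X.gamma_sq_comm.1
  exact hq ▸ H.f_mem he q

/-- The interchanging element normalizes the product. -/
theorem Hyp.gamma_conj {x : G} (hx : x ∈ (H.psi he).range) : X.γ * x * X.γ⁻¹ ∈ (H.psi he).range := by
  obtain ⟨q, rfl⟩ := hx
  rw [H.psi_apply he]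
  show X.γ * (X.A _ * X.B _ * X.A _) * X.γ⁻¹ ∈ _
  have hA : ∀ a, X.γ * X.A a * X.γ⁻¹ ∈ (H.psi he).range := fun a => by
    rw [X.A_conj, show X.γ * (X.γ * X.B a * X.γ⁻¹) * X.γ⁻¹ = X.γ * X.γ * X.B a * (X.γ * X.γ)⁻¹ by group]
    exact mul_mem (mul_mem (H.gamma_sq_mem he) (H.B_mem he a)) (inv_mem (H.gamma_sq_mem he))
  rw [← conj_mul, ← conj_mul]
  exact mul_mem (mul_mem (hA _) (H.A_mem he _)) (hA _)

theorem Hyp.gamma_conj_inv {x : G} (hx : x ∈ (H.psi he).range) : X.γ⁻¹ * x * X.γ ∈ (H.psi he).range := by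
  have h := mul_mem (mul_mem (inv_mem (H.gamma_sq_mem he)) (H.gamma_conj he hx)) (H.gamma_sq_mem he)
  rwa [show (X.γ * X.γ)⁻¹ * (X.γ * x * X.γ⁻¹) * (X.γ * X.γ) = X.γ⁻¹ * x * X.γ by group] at h

/-- the product extended by the interchanging element -/
noncomputable def Hyp.ext (H : Hyp X) (he : X.eps = true) : Subgroup G where
  carrier := {x | x ∈ (H.psi he).range ∨ X.γ * x ∈ (H.psi he).range}
  one_mem' := Or.inl (one_mem _)
  mul_mem' {x y} hx hy := by
    rcases hx with hx | hx <;> rcases hy with hy | hy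
    · exact Or.inl (mul_mem hx hy)
    · refine Or.inr ?_
      have h := mul_mem (H.gamma_conj he hx) hy
      rwa [show X.γ * x * X.γ⁻¹ * (X.γ * y) = X.γ * (x * y) by group] at h
    · refine Or.inr ?_
      have h := mul_mem hx hy
      rwa [show X.γ * x * y = X.γ * (x * y) from mul_assoc _ _ _] at h
    · refine Or.inl ?_
      have h := mul_mem (mul_mem (inv_mem (H.gamma_sq_mem he)) (H.gamma_conj he hx)) hy
      rwa [show (X.γ * X.γ)⁻¹ * (X.γ * (X.γ * x) * X.γ⁻¹) * (X.γ * y) = x * y by group] at h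
  inv_mem' {x} hx := by
    rcases hx with hx | hx
    · exact Or.inl (inv_mem hx)
    · refine Or.inr ?_
      have h := mul_mem (H.gamma_conj he (inv_mem hx)) (H.gamma_sq_mem he)
      rwa [show X.γ * (X.γ * x)⁻¹ * X.γ⁻¹ * (X.γ * X.γ) = X.γ * x⁻¹ by group] at h

theorem Hyp.range_le_ext : (H.psi he).range ≤ H.ext he := fun _ hx => Or.inl hx

theorem Hyp.gamma_mem : X.γ ∈ H.ext he := Or.inr (H.gamma_sq_mem he)

/-- The normalizer of `D` lies in the extension. -/
theorem Hyp.ND_le_ext : normalizer (X.D : Set G) ≤ H.ext he := by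
  intro x hx
  obtain ⟨p, hp, hpx⟩ := (mem_normalizer_iff.1 hx _).1 X.z_mem
  have hp1 : p ≠ 1 := fun h => by
    rw [h, map_one, eq_comm, conj_eq_one_iff] at hpx
    exact gen_facts.2.2.2.1 (X.f_inj (hpx.trans (map_one X.f).symm))
  rcases mixed_cases p hp hp1 with h | h | h | h | ⟨h1, h2⟩
  rotate_right
  · exfalso
    have hc := AltEightLocal.centralizer_conj_map x (X.f zZ)
    have h36 := (H.mixed p hp h1 h2).1
    rw [hpx, hc, card_map_of_injective (MulAut.conj x).injective] at h36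
    have hle : (centralizer ({zZ} : Set F)).map X.f ≤ centralizer ({X.f zZ} : Set G) := by
      rintro _ ⟨a, ha, rfl⟩
      rw [mem_centralizer_singleton_iff, ← map_mul, ← map_mul, mem_centralizer_singleton_iff.1 ha]
    have := card_le_of_le hle
    rw [card_map_of_injective X.f_inj, h36, show Nat.card (centralizer ({zZ} : Set F)) = 360 from (by
      rw [← card_cent_z, ← Nat.card_eq_fintype_card]
      exact Nat.card_congr (Equiv.subtypeEquivRight fun q => mem_centralizer_singleton_iff))] at this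
    omega
  all_goals rw [h] at hpx
  · obtain ⟨q, hq, -⟩ := X.exists_coord (mul_inv_eq_iff_eq_mul.1 hpx.symm)
    exact Or.inl (hq ▸ H.f_mem he q)
  · refine Or.inl ?_
    have hr : x ∈ X.f.range := by
      rw [X.f_range, mem_normalizer_iff_map_conj_eq, MonoidHom.map_zpowers]
      show zpowers (x * X.f zZ * x⁻¹) = _
      rw [← hpx, map_inv, Subgroup.zpowers_inv]
    obtain ⟨q, rfl⟩ := hr
    exact H.f_mem he q
  all_goals
    refine Or.inr ?_
    have hr : X.γ * x ∈ X.f.range := by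
      rw [X.f_range, mem_normalizer_iff_map_conj_eq, MonoidHom.map_zpowers]
      show zpowers (X.γ * x * X.f zZ * (X.γ * x)⁻¹) = _
      rw [show X.γ * x * X.f zZ * (X.γ * x)⁻¹ = X.γ * (x * X.f zZ * x⁻¹) * X.γ⁻¹ by group, ← hpx]
      first
        | rw [X.link_w]
        | rw [map_inv, ← conj_inv, X.link_w, Subgroup.zpowers_inv]
    obtain ⟨q, hq⟩ := hr
    exact hq ▸ H.f_mem he q

/-- The centralizer of `c` lies in the extension. -/
theorem Hyp.cent_c_le_ext : centralizer ({X.f cT} : Set G) ≤ H.ext he :=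
  (H.cent_c_le he).trans (H.ND_le_ext he)

/-- Involutions of the product. -/
theorem Hyp.psi_invol (q : E2) (h2 : q * q = 1) (h1 : q ≠ 1) :
    ∃ n ∈ (H.psi he).range,
      (Perm.sign q.1.1 = -1 ∧ n * X.f cT * n⁻¹ = H.psi he q) ∨
      (q.1.1 ≠ 1 ∧ q.1.2 ≠ 1 ∧ Perm.sign q.1.1 = 1 ∧ n * (X.f sA * X.f (sB * cT)) * n⁻¹ = H.psi he q) ∨
      (q.1.2 = 1 ∧ n * X.f sA * n⁻¹ = H.psi he q) ∨
      (q.1.1 = 1 ∧ n * X.f (sB * cT) * n⁻¹ = H.psi he q) := by
  obtain ⟨-, -, hd, hdB, htau, -, -⟩ := gen_parts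
  have ha : q.1.1 * q.1.1 = 1 := congrArg (fun p : E2 => p.1.1) h2
  have hb : q.1.2 * q.1.2 = 1 := congrArg (fun p : E2 => p.1.2) h2
  have hs := mem_E2.1 q.2
  have hsA : X.f sA = X.A d5 := by rw [← X.g_sBc he, hdB]; rfl
  have hsB : X.f (sB * cT) = X.B d5 := by rw [hdB]; rfl
  have key : ∀ (p p' u v : P5) (hp : Perm.sign p = 1) (hp' : Perm.sign p' = 1) (huv : Perm.sign u = Perm.sign v),
      p * u * p⁻¹ = q.1.1 → p' * v * p'⁻¹ = q.1.2 →
      H.psi he ⟨(p, p'), mem_E2.2 (hp.trans hp'.symm)⟩ * H.psi he ⟨(u, v), mem_E2.2 huv⟩ *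
        (H.psi he ⟨(p, p'), mem_E2.2 (hp.trans hp'.symm)⟩)⁻¹ = H.psi he q := by
    intro p p' u v hp hp' huv e1 e2
    rw [← map_inv, ← map_mul, ← map_mul]
    exact congrArg _ (Subtype.ext (Prod.ext e1 e2))
  rcases invol_five _ ha with ha1 | ⟨sa, p, hp, hpa⟩ | ⟨sa, p, hp, hpa⟩
  · rcases invol_five _ hb with hb1 | ⟨sb, -⟩ | ⟨-, p', hp', hpb⟩
    · exact absurd (Subtype.ext (Prod.ext ha1 hb1)) h1
    · rw [ha1, map_one, sb] at hs; exact absurd hs (by decide)
    · refine ⟨_, ⟨⟨(1, p'), mem_E2.2 ((map_one _).trans hp'.symm)⟩, rfl⟩, Or.inr (Or.inr (Or.inr ⟨ha1, ?_⟩))⟩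
      have h := key 1 p' 1 d5 (map_one _) hp' (by rw [map_one, hd]) (by rw [ha1, one_mul, inv_one, one_mul]) hpb
      rwa [H.psi_even he (map_one _) hd, map_one X.A, one_mul, ← hsB] at h
  · rcases invol_five _ hb with hb1 | ⟨-, p', hp', hpb⟩ | ⟨sb, -⟩
    · rw [hb1, map_one, sa] at hs; exact absurd hs (by decide)
    · refine ⟨_, ⟨⟨(p, p'), mem_E2.2 (hp.trans hp'.symm)⟩, rfl⟩, Or.inl ⟨sa, ?_⟩⟩
      have h := key p p' (swap 0 1) (swap 0 1) hp hp' rfl hpa hpb
      rwa [show H.psi he ⟨(swap 0 1, swap 0 1), mem_E2.2 rfl⟩ = X.f cT from (by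
        rw [← X.B_tau, ← H.psi_B he (swap 0 1)]
        exact congrArg _ (Subtype.ext (Prod.ext (by simp [par5]) rfl)))] at h
    · rw [sa, sb] at hs; exact absurd hs (by decide)
  · rcases invol_five _ hb with hb1 | ⟨sb, -⟩ | ⟨-, p', hp', hpb⟩
    · refine ⟨_, ⟨⟨(p, 1), mem_E2.2 (hp.trans (map_one _).symm)⟩, rfl⟩, Or.inr (Or.inr (Or.inl ⟨hb1, ?_⟩))⟩
      have h := key p 1 d5 1 hp (map_one _) (by rw [map_one, hd]) hpa (by rw [hb1, one_mul, inv_one, one_mul])
      rwa [H.psi_even he hd (map_one _), map_one X.B, mul_one, ← hsA] at h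
    · rw [sa, sb] at hs; exact absurd hs (by decide)
    · refine ⟨_, ⟨⟨(p, p'), mem_E2.2 (hp.trans hp'.symm)⟩, rfl⟩, Or.inr (Or.inl ⟨fun h => ?_, fun h => ?_, sa, ?_⟩)⟩
      · rw [h, conj_eq_one_iff] at hpa
        exact absurd hpa (by decide +kernel)
      · rw [h, conj_eq_one_iff] at hpb
        exact absurd hpb (by decide +kernel)
      · have h := key p p' d5 d5 hp hp' rfl hpa hpb
        rwa [H.psi_even he hd hd, ← hsA, ← hsB] at h

/-- The involutions of the classes of `c` and `s` in the extension lie in the product. -/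
theorem Hyp.mem_range_of_conj {x : G} (hx : x ∈ H.ext he) (h2 : x * x = 1)
    (h : IsConj (X.f cT) x ∨ IsConj (X.f sA) x) : x ∈ (H.psi he).range := by
  rcases hx with hx | ⟨q, hq⟩
  · exact hx
  obtain ⟨g1, -, -, -, -, hW, -⟩ := gen_parts
  set a := q.1.1 * b234 * q.1.1⁻¹ with ha
  have has : Perm.sign a = 1 := by simp [ha, g1]
  have hconj : x * X.A b234 * x⁻¹ = X.B a := by
    calc x * X.A b234 * x⁻¹ = X.γ⁻¹ * (H.psi he q * X.A b234 * (H.psi he q)⁻¹) * X.γ := by rw [hq]; group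
      _ = X.γ⁻¹ * X.A a * X.γ := by rw [H.psi_conj_A he q g1]
      _ = X.B a := by rw [X.A_conj]; group
  have hxi : x⁻¹ = x := inv_eq_of_mul_eq_one_right h2
  rw [hxi] at hconj
  have hcomm := H.comm_AB he has g1
  have hy : x * (X.A b234 * X.B a) = X.A b234 * X.B a * x := by
    refine mul_inv_eq_iff_eq_mul.1 ?_
    rw [← conj_mul, hxi, hconj,
      show x * X.B a * x = X.A b234 by rw [← hconj]; simp only [← mul_assoc, h2, one_mul]; rw [mul_assoc, h2, mul_one]]
    exact hcomm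
  have ha3 : a ^ 3 = 1 := by
    rw [ha, conj_pow, show b234 ^ 3 = 1 by decide +kernel, mul_one, mul_inv_cancel]
  obtain ⟨p, hp, hpa⟩ := three_five a ha3 fun e => by
    rw [ha, conj_eq_one_iff] at e
    exact absurd e (by decide +kernel)
  set n := X.B p
  have hn : n * X.f (zZ * zW) * n⁻¹ = X.A b234 * X.B a := by
    rw [map_mul, ← X.A_z, ← conj_mul, (show Commute n (X.A b234) from H.comm_AB he hp g1).eq,
      mul_inv_cancel_right, show X.f zW = X.B b234 from congrArg X.f hW, ← map_inv, ← map_mul, ← map_mul, hpa]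
  have hj : n⁻¹ * x * n * X.f (zZ * zW) = X.f (zZ * zW) * (n⁻¹ * x * n) := by
    calc n⁻¹ * x * n * X.f (zZ * zW) = n⁻¹ * (x * (n * X.f (zZ * zW) * n⁻¹)) * n := by group
      _ = n⁻¹ * ((n * X.f (zZ * zW) * n⁻¹) * x) * n := by rw [hn, hy]
      _ = _ := by group
  have hjc : ∀ {v : G}, IsConj v x → IsConj v (n⁻¹ * x * n) := fun h => h.trans (isConj_iff.2 ⟨n⁻¹, by group⟩)
  obtain ⟨m1, m2, m3, -, -⟩ := mixed_coords
  rcases h with h | h
  · have e := H.eq_c m3 m1 m2 (hjc h) hj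
    have hn' : n ∈ (H.psi he).range := H.B_mem he p
    have hm := mul_mem (mul_mem hn' (H.f_mem he cT)) (inv_mem hn')
    rwa [← e, show n * (n⁻¹ * x * n) * n⁻¹ = x by group] at hm
  · exact (H.not_cent_mixed he m3 m1 m2 (hjc h) hj).elim

end CfsgLib.Spor.SymEightLocal
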